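import Groth.Agent.Lib.CohMop.ExtSupport
import Groth.Prelude.Def_FlatMod2
import Mathlib.Algebra.Homology.Augment

/-!
# Local Ext sheaves from a resolution by finite locally free modules
-/

set_option autoImplicit false
set_option linter.style.haveILetI false
set_option linter.unusedSectionVars false
set_option backward.isDefEq.respectTransparency false
set_option backward.isDefEq.respectTransparency.types false

universe u

open CategoryTheory CategoryTheory.Limits AlgebraicGeometry

namespace Groth.Agent.CohMop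

open Groth.Agent

variable {X : Scheme.{u}}

/-- A module is zero if it is zero on the members of a cover. -/
theorem isZero_of_restrict {M : X.Modules}
    (h : ∀ x : X, ∃ U : X.Opens, x ∈ U ∧ IsZero ((Scheme.Modules.restrictFunctor U.ι).obj M)) : IsZero M := by
  rw [IsZero.iff_id_eq_zero]
  refine Scheme.Modules.hom_ext _ _ fun V => ?_
  ext s
  refine M1.section_ext _ _ fun x hx => ?_
  obtain ⟨U, hxU, hz⟩ := h x
  have hns : x ∉ CohB1.support M := fun hs => by
    obtain ⟨a, ha⟩ := (M1.mem_support_iff _ _).1 ((M1.subsingleton_stalk_restrict_iff U.ι M ⟨x, hxU⟩).2 hs)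
    exact ha ((InjMod.stalkLin_id_apply _ _ a).symm.trans
      ((congrArg (fun φ => CurveCoh17.stalkLin φ (⟨x, hxU⟩ : (U : Scheme.{u})) a)
        ((IsZero.iff_id_eq_zero _).1 hz)).trans (InjMod.stalkLin_zero_apply _ _ _ _)))
  rw [(M1.notMem_support_iff M x).1 hns (M.presheaf.germ V x hx _)]
  exact ((M1.notMem_support_iff M x).1 hns _).symm

/-- No higher local Ext out of finite locally free modules. -/
theorem homExact_of_isFinLocFree {M : X.Modules} (hM : FlatMod.IsFinLocFree M) : HomExact M := fun i G =>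
  isZero_of_restrict fun x => by
    obtain ⟨U, n, hxU, ⟨e⟩⟩ := hM x
    exact ⟨U, hxU, (((homExact_freeMod n).iso e.symm) i _).of_iso ((restrictExtIso U M (i + 1)).app G)⟩

/-- A cochain complex without its degree zero. -/
noncomputable def tail (C : CochainComplex X.Modules ℕ) : CochainComplex X.Modules ℕ :=
  CochainComplex.of (fun j => C.X (j + 1)) (fun j => C.d (j + 1) (j + 2)) (fun _ => C.d_comp_d _ _ _)

theorem tail_d (C : CochainComplex X.Modules ℕ) (j : ℕ) : (tail C).d j (j + 1) = C.d (j + 1) (j + 2) := by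
  simp [tail]

/-- Homology of the tail. -/
noncomputable def tailHomologyIso (C : CochainComplex X.Modules ℕ) (i : ℕ) :
    (tail C).homology (i + 1) ≅ C.homology (i + 2) :=
  (tail C).homologyIsoSc' i (i + 1) (i + 2) (CochainComplex.prev_nat_succ i) (by simp) ≪≫
    ShortComplex.homologyMapIso (ShortComplex.isoMk (S₁ := (tail C).sc' i (i + 1) (i + 2))
      (S₂ := C.sc' (i + 1) (i + 2) (i + 3)) (Iso.refl _) (Iso.refl _) (Iso.refl _)
      ((Category.id_comp _).trans ((tail_d C i).symm.trans (Category.comp_id _).symm))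
      ((Category.id_comp _).trans ((tail_d C (i + 1)).symm.trans (Category.comp_id _).symm))) ≪≫
    (C.homologyIsoSc' (i + 1) (i + 2) (i + 3) (by simp) (by simp)).symm

variable (G : X.Modules)

/-- A complex computing internal homs out of a chain complex. -/
structure HomData (E : ChainComplex X.Modules ℕ) (C : CochainComplex X.Modules ℕ) where
  e : ∀ j, C.X j ≅ (ihom (E.X j)).obj G
  comm : ∀ j, C.d j (j + 1) ≫ (e (j + 1)).hom = (e j).hom ≫ (ihomNat (E.d (j + 1) j)).app G

/-- Data for the tail. -/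
noncomputable def HomData.tail {E : ChainComplex X.Modules ℕ} {C : CochainComplex X.Modules ℕ} (D : HomData G E C) :
    HomData G (ChainComplex.truncate.obj E) (CohMop.tail C) where
  e j := D.e (j + 1)
  comm j := (congrArg (· ≫ (D.e (j + 2)).hom) (CohMop.tail_d C j)).trans (D.comm (j + 1))

variable {G}

set_option maxHeartbeats 1600000 in
/-- The kernel fork attached to the beginning of a resolution. -/
theorem HomData.exists_kernel {E : ChainComplex X.Modules ℕ} {C : CochainComplex X.Modules ℕ} (D : HomData G E C)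
    (j : ℕ) {K : X.Modules} (p : E.X j ⟶ K) [Epi p] (hp : E.d (j + 1) j ≫ p = 0)
    (hex : (ShortComplex.mk (E.d (j + 1) j) p hp).Exact) :
    ∃ (l : (ihom K).obj G ⟶ C.X j) (hl : l ≫ C.d j (j + 1) = 0),
      l ≫ (D.e j).hom = (ihomNat p).app G ∧ Nonempty (IsLimit (KernelFork.ofι l hl)) := by
  haveI : Epi (ShortComplex.mk (E.d (j + 1) j) p hp).g := ‹Epi p›
  obtain ⟨hk⟩ := nonempty_isLimit_ihomSeq hex G
  have hl : ((ihomNat p).app G ≫ (D.e j).inv) ≫ C.d j (j + 1) = 0 := by
    rw [← cancel_mono (D.e (j + 1)).hom, Category.assoc, D.comm, Category.assoc, Iso.inv_hom_id_assoc, zero_comp]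
    exact ihomNat_zero (ShortComplex.mk (E.d (j + 1) j) p hp) G
  refine ⟨(ihomNat p).app G ≫ (D.e j).inv, hl,
    (Category.assoc _ _ _).trans ((congrArg (fun φ => (ihomNat p).app G ≫ φ) (D.e j).inv_hom_id).trans (Category.comp_id _)), ⟨?_⟩⟩
  haveI : Mono ((ihomNat p).app G) := mono_of_isLimit_fork hk
  exact KernelFork.IsLimit.ofι' _ hl fun {W} k hk0 =>
    let r := KernelFork.IsLimit.lift' hk (k ≫ (D.e j).hom)
      (by rw [Category.assoc, ← D.comm, ← Category.assoc, hk0, zero_comp])
    ⟨r.1, by
      rw [← cancel_mono (D.e j).hom, Category.assoc, Category.assoc, Iso.inv_hom_id, Category.comp_id]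
      exact r.2⟩

set_option maxHeartbeats 3200000 in
/-- Local Ext sheaves from a resolution. -/
theorem nonempty_homology_iso : ∀ (i : ℕ) (F : X.Modules) (E : ChainComplex X.Modules ℕ) (π : E.X 0 ⟶ F) (_ : Epi π)
    (hπ : E.d 1 0 ≫ π = 0) (_ : (ShortComplex.mk (E.d 1 0) π hπ).Exact) (_ : ∀ j, E.ExactAt (j + 1))
    (_ : ∀ j, HomExact (E.X j)) (C : CochainComplex X.Modules ℕ) (_ : HomData G E C),
    Nonempty (C.homology i ≅ ((ihom F).rightDerived i).obj G) := by
  intro i
  induction i with
  | zero =>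
    intro F E π hπe hπ hex0 hex hE C D
    obtain ⟨l, hl, -, ⟨hlim⟩⟩ := D.exists_kernel 0 π hπ hex0
    exact ⟨(CochainComplex.isoHomologyπ₀ C).symm ≪≫ (C.cyclesIsKernel 0 1 (by simp)).conePointUniqueUpToIso hlim ≪≫
      (ihom F).rightDerivedZeroIsoSelf.symm.app G⟩
  | succ i ih =>
    intro F E π hπe hπ hex0 hex hE C D
    let K := kernel π
    let p : E.X 1 ⟶ K := kernel.lift π (E.d 1 0) hπ
    haveI : Epi p := hex0.epi_kernelLift
    have hp : E.d 2 1 ≫ p = 0 := by
      rw [← cancel_mono (kernel.ι π), Category.assoc, kernel.lift_ι, E.d_comp_d, zero_comp]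
    have hex1 : (ShortComplex.mk (E.d 2 1) p hp).Exact := by
      have h1 : (E.sc' 2 1 0).Exact := (E.exactAt_iff' 2 1 0 (by simp) (by simp)).1 (hex 0)
      let φ : ShortComplex.mk (E.d 2 1) p hp ⟶ E.sc' 2 1 0 :=
        { τ₁ := 𝟙 _, τ₂ := 𝟙 _, τ₃ := kernel.ι π
          comm₁₂ := (Category.id_comp _).trans (Category.comp_id _).symm
          comm₂₃ := (Category.id_comp _).trans (kernel.lift_ι _ _ _).symm }
      haveI : Epi φ.τ₁ := inferInstanceAs (Epi (𝟙 (E.X 2)))
      haveI : IsIso φ.τ₂ := inferInstanceAs (IsIso (𝟙 (E.X 1)))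
      haveI : Mono φ.τ₃ := inferInstanceAs (Mono (kernel.ι π))
      exact (ShortComplex.exact_iff_of_epi_of_isIso_of_mono φ).2 h1
    let S : ShortComplex X.Modules := ShortComplex.mk (kernel.ι π) π (kernel.condition π)
    have hS : S.ShortExact := ShortComplex.ShortExact.mk' (ShortComplex.exact_kernel π) inferInstance inferInstance
    let δ := (RDSeq.delta (ihomNat S.g) (ihomNat S.f) (ihomNat_zero S) (shortExact_ihom_of_injective hS) i).app G
    haveI : Epi δ := RDSeq.epi_delta_app _ _ _ _ i G (hE 0 i G)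
    rcases i with - | i
    · obtain ⟨l, hl, hle, ⟨hlim⟩⟩ := D.exists_kernel 1 p hp hex1
      let η : (ihom (E.X 0)).obj G ≅ ((ihom (E.X 0)).rightDerived 0).obj G :=
        (ihom (E.X 0)).rightDerivedZeroIsoSelf.symm.app G
      let c : C.cycles 1 ≅ (ihom K).obj G := (C.cyclesIsKernel 1 2 (by simp)).conePointUniqueUpToIso hlim
      have hc : c.hom ≫ l = C.iCycles 1 :=
        IsLimit.conePointUniqueUpToIso_hom_comp (C.cyclesIsKernel 1 2 (by simp)) hlim WalkingParallelPair.zero
      let c' : C.cycles 1 ≅ ((ihom K).rightDerived 0).obj G :=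
        c ≪≫ (ihom K).rightDerivedZeroIsoSelf.symm.app G
      have hsq : C.toCycles 0 1 ≫ c'.hom =
          ((D.e 0) ≪≫ η).hom ≫ (NatTrans.rightDerived (ihomNat S.f) 0).app G := by
        haveI : Mono l := mono_of_isLimit_fork hlim
        have h0 : C.toCycles 0 1 ≫ c.hom = (D.e 0).hom ≫ (ihomNat S.f).app G := by
          haveI : Mono ((ihomNat p).app G) := by rw [← hle]; infer_instance
          rw [← cancel_mono ((ihomNat p).app G)]
          simp only [Category.assoc]
          conv_lhs => rw [← hle, ← Category.assoc c.hom, hc, ← Category.assoc, HomologicalComplex.toCycles_i]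
          rw [D.comm 0, ihomNat_app, ihomNat_app, ihomNat_app, ihomMap_comp]
          congr 2
          exact (kernel.lift_ι _ _ _).symm
        have h2 := RDSeq.toRightDerivedZero_natural (ihomNat S.f) G
        change C.toCycles 0 1 ≫ c.hom ≫ (ihom K).toRightDerivedZero.app G =
          ((D.e 0).hom ≫ (ihom (E.X 0)).toRightDerivedZero.app G) ≫ (NatTrans.rightDerived (ihomNat S.f) 0).app G
        rw [Category.assoc, ← h2, reassoc_of% h0]
      exact ⟨(C.homologyIsCokernel 0 1 (by simp)).coconePointUniqueUpToIso (colimit.isColimit _) ≪≫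
        cokernel.mapIso _ _ (D.e 0 ≪≫ η) c' hsq ≪≫
        (colimit.isColimit _).coconePointUniqueUpToIso
          (RDSeq.exact_rightDerived_delta (ihomNat S.g) (ihomNat S.f) (ihomNat_zero S)
            (shortExact_ihom_of_injective hS) 0 G).gIsCokernel⟩
    · haveI := RDSeq.isIso_delta_app (ihomNat S.g) (ihomNat S.f) (ihomNat_zero S)
        (shortExact_ihom_of_injective hS) (i + 1) G (hE 0 i G) (hE 0 (i + 1) G)
      have hex' : ∀ j, (ChainComplex.truncate.obj E).ExactAt (j + 1) := fun j => by
        rw [(ChainComplex.truncate.obj E).exactAt_iff' (j + 2) (j + 1) j (by simp) (by simp)]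
        exact (E.exactAt_iff' (j + 3) (j + 2) (j + 1) (by simp) (by simp)).1 (hex (j + 1))
      obtain ⟨e⟩ := ih K (ChainComplex.truncate.obj E) p inferInstance hp hex1 hex' (fun j => hE (j + 1))
        (tail C) (D.tail G)
      exact ⟨(tailHomologyIso C i).symm ≪≫ e ≪≫ asIso δ⟩

end Groth.Agent.CohMop
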