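import Groth.Agent.Lib.ExtDerived.Basic
import Mathlib.Algebra.Homology.DerivedCategory.Ext.Linear
import Mathlib.Algebra.Homology.ShortComplex.ModuleCat
import Mathlib.CategoryTheory.Linear.Yoneda

/-!
# `Ext P -` as a module, from an injective resolution
-/

set_option autoImplicit false

universe v u

open CategoryTheory CategoryTheory.Limits Opposite

namespace Groth.Agent.CohMop

variable (A : Type v) [CommRing A] {C : Type u} [Category.{v} C] [Abelian C] [Linear A C] [HasExt.{v} C]
  [EnoughInjectives C] (P : C) {Y : C} (R : InjectiveResolution Y) (n : ℕ)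

/-- `Hom(P, R)` as a complex of modules. -/
noncomputable abbrev linHomCx : CochainComplex (ModuleCat.{v} A) ℕ :=
  (((linearCoyoneda A C).obj (op P)).mapHomologicalComplex (ComplexShape.up ℕ)).obj R.cocomplex

omit [EnoughInjectives C] in
theorem extMk_smul {m : ℕ} (hm : n + 1 = m) (r : A) (f : P ⟶ R.cocomplex.X n)
    (hf : f ≫ R.cocomplex.d n m = 0) :
    R.extMk (r • f) m hm (by rw [Linear.smul_comp, hf, smul_zero]) = r • R.extMk f m hm hf := by
  have h := R.mk₀_comp_extMk f m hm hf (r • 𝟙 P)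
  rw [Abelian.Ext.mk₀_smul, Abelian.Ext.smul_comp, Abelian.Ext.mk₀_id_comp] at h
  simp only [Linear.smul_comp, Category.id_comp] at h
  exact h.symm

/-- Cocycles give classes, linearly. -/
noncomputable def linToExt :
    LinearMap.ker ((linHomCx A P R).d n (n + 1)).hom →ₗ[A] Abelian.Ext.{v} P Y n where
  toFun f := ExtDerived.toExt P R n ⟨f.1, f.2⟩
  map_add' f g := (ExtDerived.toExt P R n).map_add ⟨f.1, f.2⟩ ⟨g.1, g.2⟩
  map_smul' r f := extMk_smul A P R n rfl r f.1 f.2

/-- The cohomology of `Hom(P, R)` is `Ext P Y`, linearly. -/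
noncomputable def linHomologyEquiv :
    ((linHomCx A P R).sc' ((ComplexShape.up ℕ).prev n) n (n + 1)).homology ≅
      ModuleCat.of A (Abelian.Ext.{v} P Y n) :=
  let S := (linHomCx A P R).sc' ((ComplexShape.up ℕ).prev n) n (n + 1)
  let φ : LinearMap.ker S.g.hom →ₗ[A] Abelian.Ext.{v} P Y n := linToExt A P R n
  S.moduleCatLeftHomologyData.homologyIso ≪≫
    ((Submodule.quotEquivOfEq _ _ (by
        ext x
        refine Iff.trans ?_ (LinearMap.mem_ker.trans (ExtDerived.toExt_eq_zero_iff P R n ⟨x.1, x.2⟩)).symm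
        exact ⟨fun ⟨y, hy⟩ => ⟨y, congrArg Subtype.val hy⟩, fun ⟨y, hy⟩ => ⟨y, Subtype.ext hy⟩⟩ :
        LinearMap.range S.moduleCatToCycles = LinearMap.ker φ)).trans
      (φ.quotKerEquivOfSurjective fun α => by
        obtain ⟨f, hf⟩ := ExtDerived.toExt_surjective P R n α
        exact ⟨⟨f.1, f.2⟩, hf⟩)).toModuleIso

/-- The cohomology of `Hom(P, R)` is `Ext P Y`, linearly. -/
noncomputable def linHomCxHomologyIso : (linHomCx A P R).homology n ≅ ModuleCat.of A (Abelian.Ext.{v} P Y n) :=
  ShortComplex.homologyMapIso ((linHomCx A P R).isoSc' _ n (n + 1) rfl (CochainComplex.next _ n)) ≪≫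
    linHomologyEquiv A P R n

end Groth.Agent.CohMop
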