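import Groth.Agent.Lib.CohMop.ExtCoh
import Groth.Agent.Lib.CohMop.ExtLin
import Groth.Agent.Lib.TensorMod.Tilde
import Groth.Agent.Lib.InjMod.QCohInj
import Groth.Agent.Lib.ModM1.FT
import Mathlib.CategoryTheory.Preadditive.Injective.Resolution

/-!
# Local Ext sheaves of modules associated to modules on an affine scheme
-/

set_option autoImplicit false
set_option linter.style.haveILetI false
set_option linter.unusedSectionVars false
set_option backward.isDefEq.respectTransparency false
set_option backward.isDefEq.respectTransparency.types false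

universe u

open CategoryTheory CategoryTheory.Limits AlgebraicGeometry Opposite MonoidalCategory

namespace Groth.Agent.CohMop

open Groth.Agent KFlat KFlat.Sch

section QC

variable {X : Scheme.{u}}

/-- Quasi-coherence of all internal homs into quasi-coherent modules. -/
def HomQC (M : X.Modules) : Prop := ∀ G : X.Modules, Coh.IsQCoh G → Coh.IsQCoh ((ihom M).obj G)

theorem HomQC.iso {A B : X.Modules} (e : A ≅ B) (h : HomQC A) : HomQC B :=
  fun G hG => M1.isQCoh_of_isIso ((ihomIso e).app G) (h G hG)

theorem homQC_structureModule : HomQC (Coh.structureModule X) := fun G hG =>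
  M1.isQCoh_of_isIso
    ((((ihomAdj _).rightAdjointUniq (Adjunction.id.ofNatIsoLeft RHom.unitorNatIso.symm)).app G).symm) hG

theorem HomQC.cokernel {A B : X.Modules} (a : A ⟶ B) (hA : HomQC A) (hB : HomQC B) :
    HomQC (cokernel a) := fun G hG => by
  obtain ⟨h, ⟨hl⟩⟩ := nonempty_isLimit_ihom a G
  exact M1.isQCoh_of_isIso ((limit.isLimit _).conePointUniqueUpToIso hl)
    (M1.isQCoh_kernel (hB G hG) (hA G hG) (ihomMap a G))

theorem HomQC.biprod {A B : X.Modules} (hA : HomQC A) (hB : HomQC B) : HomQC (A ⊞ B) := fun G hG => by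
  let f := ihomMap (biprod.inl : A ⟶ A ⊞ B) G
  have hfg : ihomMap (biprod.fst : A ⊞ B ⟶ A) G ≫ f = 𝟙 _ := by rw [ihomMap_comp, biprod.inl_fst, ihomMap_id]
  obtain ⟨h, ⟨hl⟩⟩ := nonempty_isLimit_ihom (biprod.inl : A ⟶ A ⊞ B) G
  have hB' : HomQC (Limits.cokernel (biprod.inl : A ⟶ A ⊞ B)) :=
    hB.iso (Limits.cokernelBiprodInlIso (X := A) (Y := B)).symm
  haveI : IsSplitEpi f := IsSplitEpi.mk' ⟨_, hfg⟩
  haveI : Mono (ihomMap (cokernel.π (biprod.inl : A ⟶ A ⊞ B)) G) := mono_of_isLimit_fork hl
  have hS : (ShortComplex.mk _ f h).ShortExact :=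
    ShortComplex.ShortExact.mk' ((ShortComplex.mk _ f h).exact_of_f_is_kernel hl) inferInstance inferInstance
  exact M1.isQCoh_of_shortExact hS (hB' G hG) (hA G hG)

theorem homQC_freeMod : ∀ n : ℕ, HomQC (FlatMod.freeMod X n)
  | 0 => (HomQC.cokernel (𝟙 (Coh.structureModule X)) homQC_structureModule homQC_structureModule).iso
      ((isZero_cokernel_of_epi _).iso (by rw [IsZero.iff_id_eq_zero]; exact Sigma.hom_ext _ _ fun i => i.elim0))
  | n + 1 => ((homQC_freeMod n).biprod homQC_structureModule).iso (RHom.freeSuccIso n)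

/-- Internal homs out of finitely presented modules preserve quasi-coherence. -/
theorem homQC_of_isFP {F : X.Modules} (hF : CohB1.IsFP F) : HomQC F := fun G hG => by
  have hloc : ∀ x : X, ∃ U : X.Opens, x ∈ U ∧
      Coh.IsQCoh ((Scheme.Modules.restrictFunctor U.ι).obj ((ihom F).obj G)) := fun x => by
    obtain ⟨U, hxU, P, hP⟩ := (M1.isFP_iff_presentation F).1 hF x
    haveI := hP.1
    haveI := hP.2
    obtain ⟨e₀⟩ := M1.nonempty_fr_freeMod (U : Scheme.{u}) P.generators.I
    obtain ⟨e₁⟩ := M1.nonempty_fr_freeMod (U : Scheme.{u}) P.relations.I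
    let p : M1.fr P.generators.I ⟶ (Scheme.Modules.restrictFunctor U.ι).obj F := P.generators.π
    haveI : Epi p := P.generators.epi
    let q : M1.fr P.relations.I ⟶ kernel p := P.relations.π
    haveI : Epi q := P.relations.epi
    have hF' : HomQC ((Scheme.Modules.restrictFunctor U.ι).obj F) :=
      (HomQC.cokernel (q ≫ kernel.ι p) ((homQC_freeMod _).iso e₁.symm) ((homQC_freeMod _).iso e₀.symm)).iso
        (cokernelEpiComp q (kernel.ι p) ≪≫
          (colimit.isColimit _).coconePointUniqueUpToIso (Abelian.epiIsCokernelOfKernel _ (kernelIsKernel p)))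
    exact ⟨U, hxU, M1.isQCoh_of_isIso ((restrictIhomIso U F).app G).symm (hF' _ (M1.isQCoh_restrict hG U.ι))⟩
  choose U hxU hU using hloc
  exact M1.isQCoh_of_openImmersion_cover (fun x => (U x).ι) (fun x => ⟨x, ⟨x, hxU x⟩, rfl⟩) hU

end QC

section Affine

variable {R : CommRingCat.{u}} (M : ModuleCat.{u} R)

/-- `P^~ ⊗ M^~ ≅ (P ⊗ M)^~`, naturally in `P`. -/
noncomputable def tildeTenIso :
    tensorRight M ⋙ tilde.functor R ≅ tilde.functor R ⋙ tenR (tilde M) :=
  NatIso.ofComponents (fun P => M2.tildeTensorIso P M) fun {P P'} f => by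
    refine ((tilde.adjunction (R := R)).homEquiv _ _).injective ?_
    refine ModuleCat.hom_ext (TensorProduct.ext' fun p m => ?_)
    rw [Adjunction.homEquiv_unit, Adjunction.homEquiv_unit]
    change (M2.tildeTensorHom P' M).app ⊤ (((tilde.functor R).map (f ▷ M)).app ⊤ (M2.gsec _ (p ⊗ₜ m))) =
      (M2.tensorMap ((tilde.functor R).map f) (𝟙 (tilde M))).app ⊤
        ((M2.tildeTensorHom P M).app ⊤ (M2.gsec _ (p ⊗ₜ m)))
    have h1 : ∀ {A B : ModuleCat.{u} R} (g : A ⟶ B) (a : A),
        ((tilde.functor R).map g).app ⊤ (M2.gsec A a) = M2.gsec B (g.hom a) :=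
      fun g a => ConcreteCategory.congr_hom (tilde.toOpen_map_app g ⊤) a
    refine (congrArg (fun z => (M2.tildeTensorHom P' M).app ⊤ z) (h1 (f ▷ M) (p ⊗ₜ m))).trans ?_
    refine (M2.tildeTensorHom_gsec P' M (f.hom p) m).trans ?_
    refine Eq.symm ?_
    refine (congrArg (fun z => (M2.tensorMap ((tilde.functor R).map f) (𝟙 (tilde M))).app ⊤ z)
      (M2.tildeTensorHom_gsec P M p m)).trans ?_
    refine (M2.tensorMap_tsec _ _ (U := ⊤) (M2.gsec P p) (M2.gsec M m)).trans ?_
    exact congrArg₂ (fun a b => M2.tsec (tilde P') (tilde M) a b) (h1 f p) rfl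

/-- Global sections of internal homs are module homs. -/
noncomputable def ihomΓIso :
    ihom (tilde M) ⋙ moduleSpecΓFunctor ≅
      moduleSpecΓFunctor ⋙ (linearCoyoneda R (ModuleCat.{u} R)).obj (op M) :=
  ((tilde.adjunction (R := R)).comp (ihomAdj (tilde M))).rightAdjointUniq
    ((((CategoryTheory.ihom.adjunction M).ofNatIsoLeft
      (BraidedCategory.tensorLeftIsoTensorRight M)).comp (tilde.adjunction (R := R))).ofNatIsoLeft (tildeTenIso M))

variable [Module.FinitePresentation R M]

/-- Internal homs between associated modules are associated modules. -/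
noncomputable def tildeIhomIso :
    tilde.functor R ⋙ ihom (tilde M) ≅
      (linearCoyoneda R (ModuleCat.{u} R)).obj (op M) ⋙ tilde.functor R :=
  (NatIso.ofComponents
    (fun N => @asIso _ _ _ _ (((tilde.functor R ⋙ ihom (tilde M)).obj N).fromTildeΓ) (by
      exact @Scheme.Modules.isIso_fromTildeΓ_of_isQuasicoherent R ((ihom (tilde M)).obj (tilde N))
        (homQC_of_isFP (M1.isFP_tilde M) (tilde N) (inferInstanceAs (Coh.IsQCoh (tilde N))))))
    fun f => (tilde.adjunction (R := R)).counit.naturality ((tilde.functor R ⋙ ihom (tilde M)).map f)).symm ≪≫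
    Functor.isoWhiskerRight
      (Functor.isoWhiskerLeft (tilde.functor R) (ihomΓIso M) ≪≫ (Functor.associator _ _ _).symm ≪≫
        Functor.isoWhiskerRight (asIso (tilde.adjunction (R := R)).unit).symm _ ≪≫ Functor.leftUnitor _)
      (tilde.functor R)

/-- The tilde of an injective module is injective. -/
theorem injective_tilde [IsNoetherianRing R] (E : ModuleCat.{u} R) [Injective E] :
    Injective (tilde E) := by
  haveI : Injective (ModuleCat.of R E) := ‹Injective E›
  haveI : Module.Injective R E := Module.injective_module_of_injective_object R E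
  exact InjMod.injective_of_stalk _ (inferInstanceAs (Coh.IsQCoh (tilde E))) (InjMod.injective_stalk_tilde R E)

variable [IsNoetherianRing R]

/-- The associated injective resolution. -/
noncomputable def tildeResolution {N : ModuleCat.{u} R} (I : InjectiveResolution N) :
    InjectiveResolution (tilde N) where
  cocomplex := ((tilde.functor R).mapHomologicalComplex _).obj I.cocomplex
  injective n := injective_tilde (I.cocomplex.X n)
  ι := (HomologicalComplex.singleMapHomologicalComplex (tilde.functor R) (ComplexShape.up ℕ) 0).inv.app N ≫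
    ((tilde.functor R).mapHomologicalComplex _).map I.ι
  quasiIso := by
    haveI : PreservesFiniteLimits (tilde.functor R) := inferInstance
    haveI : PreservesFiniteColimits (tilde.functor R) := by
      haveI := (tilde.adjunction (R := R)).leftAdjoint_preservesColimits
      infer_instance
    haveI : QuasiIso (((tilde.functor R).mapHomologicalComplex (ComplexShape.up ℕ)).map I.ι) :=
      HomologicalComplex.quasiIso_map_of_preservesHomology _ _
    exact quasiIso_comp _ _

/-- Local Ext sheaves between associated modules. -/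
theorem nonempty_extSh_tilde (N : ModuleCat.{u} R) (i : ℕ) :
    Nonempty (((ihom (tilde M)).rightDerived i).obj (tilde N) ≅
      tilde (ModuleCat.of R (Abelian.Ext M N i))) := by
  let I := injectiveResolution N
  let K := linHomCx R M I
  exact ⟨(tildeResolution I).isoRightDerivedObj (ihom (tilde M)) i ≪≫
    (HomologicalComplex.homologyFunctor _ _ i).mapIso
      ((Functor.mapHomologicalComplexCompIso (Iso.refl (tilde.functor R ⋙ ihom (tilde M))) (ComplexShape.up ℕ)).app _ ≪≫
        (NatIso.mapHomologicalComplex (tildeIhomIso M) _).app I.cocomplex ≪≫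
        (Functor.mapHomologicalComplexCompIso (Iso.refl ((linearCoyoneda R (ModuleCat.{u} R)).obj (op M) ⋙ tilde.functor R))
          (ComplexShape.up ℕ)).symm.app _) ≪≫
    (K.sc i).mapHomologyIso (tilde.functor R) ≪≫
    (tilde.functor R).mapIso (linHomCxHomologyIso R M I i)⟩

end Affine

end Groth.Agent.CohMop
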