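import Groth.Agent.Lib.CohMop.ExtAdjDual
import Groth.Agent.Lib.CohMop.TildeExt
import Groth.Agent.Lib.AmpleFin18.ProjFree
import Groth.Agent.Lib.TensorNat17.Basic
import Groth.Agent.Lib.RHom.Assoc

/-!
# Biduality of finite locally free modules, and tensoring with them as a right adjoint
-/

set_option autoImplicit false
set_option linter.style.haveILetI false
set_option linter.unusedSectionVars false
set_option backward.isDefEq.respectTransparency false
set_option backward.isDefEq.respectTransparency.types false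

universe u

open CategoryTheory CategoryTheory.Limits AlgebraicGeometry Opposite MonoidalCategory TopologicalSpace

noncomputable section

namespace Groth.Agent.CohMop

open Groth.Agent KFlat KFlat.Sch

variable {X : Scheme.{u}}

theorem ihomMap_add {A B : X.Modules} (f g : A ⟶ B) (G : X.Modules) :
    ihomMap (f + g) G = ihomMap f G + ihomMap g G := by
  haveI : ((TX X).obj ((ihom B).obj G)).Additive := inferInstance
  haveI := additive_ihom A
  rw [ihomMap, Functor.map_add, Preadditive.add_comp]
  simp only [Adjunction.homEquiv_unit, Functor.map_add, Preadditive.comp_add, ihomMap]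

/-- Internal homs out of a biproduct. -/
def ihomBiprodIso (A B G : X.Modules) : (ihom (A ⊞ B)).obj G ≅ (ihom A).obj G ⊞ (ihom B).obj G where
  hom := biprod.lift (ihomMap biprod.inl G) (ihomMap biprod.inr G)
  inv := biprod.desc (ihomMap biprod.fst G) (ihomMap biprod.snd G)
  hom_inv_id := by
    rw [biprod.lift_desc, ihomMap_comp, ihomMap_comp, ← ihomMap_add, biprod.total, ihomMap_id]
  inv_hom_id := by
    refine biprod.hom_ext' _ _ (biprod.hom_ext _ _ ?_ ?_) (biprod.hom_ext _ _ ?_ ?_) <;>
      simp [ihomMap_comp, ihomMap_id, ihomMap_zero]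

/-- `ℋom(O, G) ≅ G`. -/
def ihomUnitIso (G : X.Modules) : (ihom (Coh.structureModule X)).obj G ≅ G :=
  ((ihomAdj _).rightAdjointUniq (Adjunction.id.ofNatIsoLeft RHom.unitorNatIso.symm)).app G

/-- The dual of a finite free module is finite free. -/
theorem nonempty_dual_freeMod : ∀ n : ℕ,
    Nonempty (dual (FlatMod.freeMod X n) ≅ FlatMod.freeMod X n)
  | 0 => by
    haveI : HasFiniteBiproducts X.Modules := Abelian.hasFiniteBiproducts
    have h0 : IsZero (FlatMod.freeMod X 0) := by
      rw [IsZero.iff_id_eq_zero]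
      exact Sigma.hom_ext _ _ fun i => i.elim0
    exact ⟨(isZero_ihom_obj h0 _).iso h0⟩
  | n + 1 => by
    haveI : HasFiniteBiproducts X.Modules := Abelian.hasFiniteBiproducts
    obtain ⟨e⟩ := nonempty_dual_freeMod n
    exact ⟨(ihomIso (RHom.freeSuccIso n).symm).app _ ≪≫ ihomBiprodIso _ _ _ ≪≫
      biprod.mapIso e (ihomUnitIso _) ≪≫ RHom.freeSuccIso n⟩

/-- The dual of a finite locally free module is finite locally free. -/
theorem isFinLocFree_dual {E : X.Modules} (hE : FlatMod.IsFinLocFree E) : FlatMod.IsFinLocFree (dual E) := fun x => by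
  obtain ⟨U, n, hxU, ⟨e⟩⟩ := hE x
  obtain ⟨e'⟩ := nonempty_dual_freeMod (X := (U : Scheme.{u})) n
  exact ⟨U, n, hxU, ⟨(restrictIhomIso U E).app (Coh.structureModule X) ≪≫
    ((ihomIso e).app _) ≪≫ ((ihom _).mapIso (Scheme.Modules.restrictUnitIso U.ι)) ≪≫ e'⟩⟩

/-- Evaluation `E ⟶ E^∨^∨`. -/
def bidual (E : X.Modules) : E ⟶ dual (dual E) :=
  (ihomAdj (dual E)).homEquiv _ _ ((M2.tensorComm E (dual E)).hom ≫ (ihomAdj E).counit.app (Coh.structureModule X))

theorem tensorComm_tsec' (A B : X.Modules) {U : X.Opens} (s : Γ(A, U)) (t : Γ(B, U)) :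
    (M2.tensorComm A B).hom.app U (M2.tsec A B s t) = M2.tsec B A t s := by
  have h := congrArg (fun φ => φ.app (op U) (M2.tm (M2.pm A) (M2.pm B) s t))
    (M2.unitS_naturality (β_ (M2.pm A) (M2.pm B)).hom)
  exact h.symm

variable {x : X} (E : X.Modules) [ModSite.HasSheafHom (O := X.sheaf) E]

set_option maxHeartbeats 1600000 in
/-- Evaluation on stalks. -/
theorem evLin_bidual (a : ModSite.stalkMod (O := X.sheaf) (pt x) E)
    (φ : ModSite.stalkMod (O := X.sheaf) (pt x) (dual E)) :
    haveI : ModSite.HasSheafHom (O := X.sheaf) (dual E) := isLeftAdjoint_tenR _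
    SH.evLin (O := X.sheaf) (M := dual E) (N := Coh.structureModule X) (x := x) ((stFun x).map (bidual E) a) φ =
      SH.evLin (O := X.sheaf) (M := E) (N := Coh.structureModule X) (x := x) φ a := by
  haveI : ModSite.HasSheafHom (O := X.sheaf) (dual E) := isLeftAdjoint_tenR _
  obtain ⟨U₁, h₁, m, rfl⟩ := SH.exists_rep (O := X.sheaf) (F := E) a
  obtain ⟨U₂, h₂, f, rfl⟩ := SH.exists_rep (O := X.sheaf) (F := dual E) φ
  have hx : x ∈ U₁ ⊓ U₂ := ⟨h₁, h₂⟩
  have e1 := (SH.germ_res (O := X.sheaf) (F := E) (homOfLE inf_le_left : U₁ ⊓ U₂ ⟶ U₁) hx h₁ m).symm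
  have e2 := (SH.germ_res (O := X.sheaf) (F := dual E) (homOfLE inf_le_right : U₁ ⊓ U₂ ⟶ U₂) hx h₂ f).symm
  generalize ModSite.germ (ModFlat16.pt x) (O := X.sheaf) E U₁ (ModFlat16.mk h₁) m = a at e1 ⊢
  generalize ModSite.germ (ModFlat16.pt x) (O := X.sheaf) (dual E) U₂ (ModFlat16.mk h₂) f = φ at e2 ⊢
  subst e1 e2
  generalize ModFlat16.smap (O := X.sheaf) E _ m = m'
  generalize ModFlat16.smap (O := X.sheaf) (dual E) _ f = f'
  refine Eq.trans ?_ (SH.ev_germ (O := X.sheaf) (M := E) (N := Coh.structureModule X) hx f' m').symm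
  refine (congrArg (fun z => SH.evLin (O := X.sheaf) (M := dual E) (N := Coh.structureModule X) (x := x) z _)
    (ModFlat16.stalkMap_germ (O := X.sheaf) (bidual E) x (nb x hx) m')).trans ?_
  refine (SH.ev_germ (O := X.sheaf) (M := dual E) (N := Coh.structureModule X) hx _ f').trans (congrArg _ ?_)
  refine (FinPres16.hval_homEquiv (O := X.sheaf)
    ((M2.tensorComm E (dual E)).hom ≫ (ihomAdj E).counit.app (Coh.structureModule X)) m' f').trans ?_
  show ((ihomAdj E).counit.app (Coh.structureModule X)).app _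
    ((M2.tensorComm E (dual E)).hom.app _ (M2.tsec E (dual E) m' f')) = _
  rw [tensorComm_tsec']
  rfl

variable {E}

theorem bijective_bidual (hE : FlatMod.IsFinLocFree E) :
    Function.Bijective ((stFun x).map (bidual E)).hom := by
  classical
  haveI : ModSite.HasSheafHom (O := X.sheaf) (dual E) := isLeftAdjoint_tenR _
  haveI : SheafOfModules.IsFinitePresentation (R := ModSite.ringSh X.sheaf) E := M1.isFP_of_isFinLocFree hE
  haveI : SheafOfModules.IsFinitePresentation (R := ModSite.ringSh X.sheaf) (dual E) :=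
    M1.isFP_of_isFinLocFree (isFinLocFree_dual hE)
  obtain ⟨_, _⟩ := free_stalkMod (x := x) hE
  let b := Module.Free.chooseBasis (ModSite.stalkRing (pt x) X.sheaf) (ModSite.stalkMod (O := X.sheaf) (pt x) E)
  let ev₀ := SH.evLin (O := X.sheaf) (M := E) (N := Coh.structureModule X) (x := x)
  let ev₁ := SH.evLin (O := X.sheaf) (M := dual E) (N := Coh.structureModule X) (x := x)
  choose φ hφ using fun i => SH.evLin_surjective (O := X.sheaf) (M := E) (N := Coh.structureModule X) (x := x)
    ((b.coord i).smulRight (oneSt x))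
  have hspan : ∀ ψ, ∀ z, ev₀ ψ z = ∑ i, b.coord i z • ev₀ ψ (b i) := fun ψ z => by
    conv_lhs => rw [← b.sum_repr z]
    rw [map_sum]
    simp only [map_smul, Module.Basis.coord_apply]
  have hone : ∀ c : ModSite.stalkMod (O := X.sheaf) (pt x) (Coh.structureModule X), ∃ r, c = r • oneSt x := fun c => by
    obtain ⟨U, hU, r, rfl⟩ := SH.exists_rep (O := X.sheaf) (F := Coh.structureModule X) c
    exact ⟨_, germ_eq_smul_oneSt x hU r⟩
  refine ⟨(injective_iff_map_eq_zero _).2 fun z hz => ?_, fun w => ?_⟩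
  · have h0 : ∀ i, b.coord i z = 0 := fun i => by
      have h := evLin_bidual E z (φ i)
      rw [hz, map_zero, LinearMap.zero_apply] at h
      have h' : ev₀ (φ i) z = b.coord i z • oneSt x := LinearMap.congr_fun (hφ i) z
      exact smul_oneSt_injective x (h'.symm.trans h.symm)
    rw [← b.sum_repr z]
    exact Finset.sum_eq_zero fun i _ => by rw [← Module.Basis.coord_apply, h0 i, zero_smul]
  · choose r hr using fun i => hone (ev₁ w (φ i))
    refine ⟨∑ i, r i • b i, SH.evLin_injective (O := X.sheaf) (M := dual E) (N := Coh.structureModule X) ?_⟩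
    refine LinearMap.ext fun ψ => (evLin_bidual E _ ψ).trans ?_
    choose s hs using fun i => hone (ev₀ ψ (b i))
    have hψ : ψ = ∑ i, s i • φ i := SH.evLin_injective (O := X.sheaf) (M := E) (N := Coh.structureModule X)
      (LinearMap.ext fun z => (hspan ψ z).trans (by
        rw [map_sum, LinearMap.sum_apply]
        refine Finset.sum_congr rfl fun i _ => ?_
        rw [map_smul, LinearMap.smul_apply,
          show SH.evLin (φ i) z = b.coord i z • oneSt x from LinearMap.congr_fun (hφ i) z, hs i, smul_comm]))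
    rw [map_sum (ev₀ ψ)]
    conv_rhs => rw [hψ, map_sum]
    refine Finset.sum_congr rfl fun i _ => ?_
    rw [map_smul, map_smul, hs i, hr i, smul_comm]

/-- Biduality. -/
theorem isIso_bidual (hE : FlatMod.IsFinLocFree E) : IsIso (bidual E) := by
  refine (M1.isIso_iff_stalk _).2 fun y => ?_
  have hcomm : ∀ z, modCmp y _ ((M1.stalkAb y).map (bidual E) z) =
      (stFun y).map (bidual E) (modCmp y _ z) := fun z => by
    obtain ⟨U, hU, s, rfl⟩ := TopCat.Presheaf.exists_germ_eq E.presheaf z
    rw [modCmp_germ]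
    refine Eq.trans (congrArg (modCmp y _) ?_) ((modCmp_germ y _ hU _).trans
      (ModFlat16.stalkMap_germ (O := X.sheaf) (bidual E) y (nb y hU) s).symm)
    exact TopCat.Presheaf.stalkFunctor_map_germ_apply U y hU ((Scheme.Modules.toPresheaf X).map (bidual E)) s
  have hb := bijective_bidual (x := y) hE
  refine ⟨fun a b h => (modCmp y _).injective (hb.1 ?_), fun w => ?_⟩
  · rw [← hcomm, ← hcomm, h]
  · obtain ⟨z, hz⟩ := hb.2 (modCmp y _ w)
    obtain ⟨z, rfl⟩ := (modCmp y _).surjective z
    exact ⟨z, (modCmp y _).injective ((hcomm z).trans hz)⟩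

theorem dualMap_natural (D : X.Modules) {N N' : X.Modules} (g : N ⟶ N') :
    (tenR (dual D)).map g ≫ dualMap N' D = dualMap N D ≫ (ihom D).map g := by
  rw [dualMap, dualMap]
  refine ((ihomAdj D).homEquiv_naturality_left ((tenR (dual D)).map g) (dualEval N' D)).symm.trans
    (Eq.trans (congrArg _ ?_) ((ihomAdj D).homEquiv_naturality_right (dualEval N D) g))
  rw [dualEval, dualEval]
  simp only [Category.assoc]
  change ((TX X).map (((TX X).map g).app (dual D))).app D ≫ _ = _
  rw [RHom.map_eq_tensorMap_left g, RHom.map_eq_tensorMap_left (M2.tensorMap g (𝟙 (dual D))),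
    reassoc_of% (M2.tensorAssoc_natural g (𝟙 (dual D)) (𝟙 D))]
  rw [← M2.tensorRUnit_natural g]
  congr 1
  simp only [← Category.assoc]
  congr 1
  rw [← M2.tensorMap_comp, ← M2.tensorMap_comp]
  simp [M2.tensorMap_id]

/-- `- ⊗ E ≅ ℋom(E^∨, -)` for finite locally free `E`. -/
def tenRIhomIso (E : X.Modules) (hE : FlatMod.IsFinLocFree E) : tenR E ≅ ihom (dual E) :=
  haveI : ModSite.HasSheafHom (O := X.sheaf) E := isLeftAdjoint_tenR _
  haveI : ModSite.HasSheafHom (O := X.sheaf) (dual E) := isLeftAdjoint_tenR _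
  haveI := isIso_bidual hE
  ((TX X).flip.mapIso (asIso (bidual E))) ≪≫
    NatIso.ofComponents
      (fun N => @asIso _ _ _ _ (dualMap N (dual E)) (isIso_dualMap N (isFinLocFree_dual hE)))
      (fun g => dualMap_natural (dual E) g)

/-- The projection formula, naturally. -/
def pushTenIso {Y : Scheme.{u}} (f : X ⟶ Y) (E : Y.Modules) (hE : FlatMod.IsFinLocFree E) :
    Scheme.Modules.pushforward f ⋙ tenR E ≅ tenR ((Scheme.Modules.pullback f).obj E) ⋙ Scheme.Modules.pushforward f :=
  NatIso.ofComponents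
    (fun A =>
      haveI := AmpleFin18.isIso_projHom_of_locFree f E A hE
      M2.tensorComm _ E ≪≫ asIso (AmpleFin18.projHom f E A) ≪≫
        (Scheme.Modules.pushforward f).mapIso (M2.tensorComm _ A))
    fun {A B} g => by
      haveI := AmpleFin18.isIso_projHom_of_locFree f E A hE
      haveI := AmpleFin18.isIso_projHom_of_locFree f E B hE
      change ((TX Y).map ((Scheme.Modules.pushforward f).map g)).app E ≫ _ =
        _ ≫ (Scheme.Modules.pushforward f).map (((TX X).map g).app ((Scheme.Modules.pullback f).obj E))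
      rw [RHom.map_eq_tensorMap_left, RHom.map_eq_tensorMap_left]
      simp only [Iso.trans_hom, asIso_hom, Functor.mapIso_hom, Category.assoc]
      rw [reassoc_of% (M2.tensorComm_natural ((Scheme.Modules.pushforward f).map g) (𝟙 E)), ← Functor.map_comp,
        ← M2.tensorComm_natural (𝟙 ((Scheme.Modules.pullback f).obj E)) g, Functor.map_comp]
      refine congrArg (_ ≫ ·) ?_
      simp only [← Category.assoc]
      refine congrArg (· ≫ _) ?_
      refine M2.tensorMod_hom_ext fun U s t => ?_
      simp only [M1.comp_app_apply, M2.tensorMap_tsec, AmpleFin18.projHom_tsec]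
      exact (M2.tensorMap_tsec (𝟙 ((Scheme.Modules.pullback f).obj E)) g (M2.pullSec f E s) t).symm

end Groth.Agent.CohMop
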