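import Groth.Agent.Lib.CohMop.StalkExt
import Groth.Agent.Lib.CohMop.ExtResolution
import Groth.Agent.Lib.DMon9.Mod
import Groth.Agent.Lib.RFPlus.Acyclic
import Groth.Agent.Lib.RDComp.Post

/-!
# Local Ext sheaves and tensoring with locally free modules
-/

set_option autoImplicit false
set_option linter.style.haveILetI false
set_option linter.unusedSectionVars false
set_option backward.isDefEq.respectTransparency false
set_option backward.isDefEq.respectTransparency.types false

universe u

open CategoryTheory CategoryTheory.Limits AlgebraicGeometry Opposite MonoidalCategory TopologicalSpace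

noncomputable section

namespace Groth.Agent.CohMop

open Groth.Agent KFlat KFlat.Sch
open scoped Groth.Agent.DMon9

variable {X : Scheme.{u}}

/-- The dual. -/
abbrev dual (E : X.Modules) : X.Modules := (ihom E).obj (Coh.structureModule X)

/-- `(N ⊗ E^∨) ⊗ E ⟶ N`. -/
def dualEval (N E : X.Modules) : (tenR E).obj (CohB1.tensorMod N (dual E)) ⟶ N :=
  (M2.tensorAssoc N (dual E) E).hom ≫ M2.tensorMap (𝟙 N) ((ihomAdj E).counit.app (Coh.structureModule X)) ≫
    (M2.tensorRUnit N).hom

/-- `N ⊗ E^∨ ⟶ ℋom(E, N)`. -/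
def dualMap (N E : X.Modules) : CohB1.tensorMod N (dual E) ⟶ (ihom E).obj N :=
  (ihomAdj E).homEquiv _ _ (dualEval N E)

variable (x : X)

/-- The germ of `1`. -/
def oneSt : ModSite.stalkMod (O := X.sheaf) (pt x) (Coh.structureModule X) :=
  ModSite.germ (pt x) (O := X.sheaf) (Coh.structureModule X) ⊤ (nb x (U := ⊤) trivial) (show Γ(X, ⊤) from 1)

theorem germ_eq_smul_oneSt {U : X.Opens} (hU : x ∈ U) (r : Γ(X, U)) :
    ModSite.germ (pt x) (O := X.sheaf) (Coh.structureModule X) U (nb x hU) r =
      ModSite.germRing (pt x) (O := X.sheaf) U (nb x hU) r • oneSt x := by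
  have h1 : oneSt x = ModSite.germ (pt x) (O := X.sheaf) (Coh.structureModule X) U (nb x hU) (show Γ(X, U) from 1) := by
    rw [oneSt, ← SH.germ_res (O := X.sheaf) (F := Coh.structureModule X) (homOfLE le_top : U ⟶ ⊤) hU trivial]
    exact congrArg _ (map_one (X.presheaf.map (homOfLE le_top : U ⟶ ⊤).op).hom)
  rw [h1, ← ModSite.germ_smul]
  exact congrArg _ (_root_.mul_one r).symm

theorem smul_oneSt_injective {r : ModSite.stalkRing (pt x) X.sheaf} (h : r • oneSt x = 0) : r = 0 := by
  obtain ⟨U, hU, r, rfl⟩ := SH.exists_ringRep (O := X.sheaf) r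
  rw [← germ_eq_smul_oneSt, ← SH.germ_zero (O := X.sheaf) (F := Coh.structureModule X) (nb x hU)] at h
  obtain ⟨W, g, w, -, he⟩ := ModFlat16.exists_nbhd_eq (O := X.sheaf) (F := Coh.structureModule X) (ι := PUnit.{1})
    (pt x) U (nb x hU) (fun _ => r) (fun _ => 0) (fun _ => h)
  have h0 : ModFlat16.rmap X.sheaf g r = 0 := (he PUnit.unit).trans (map_zero _)
  refine (congrArg (fun v => ModSite.germRing (pt x) (O := X.sheaf) U v r)
    (Subsingleton.elim _ ((pt x).fiber.map g w))).trans ?_
  refine (ModFlat16.germRing_rmap (O := X.sheaf) (pt x) g w r).symm.trans ?_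
  exact (congrArg (ModSite.germRing (pt x) (O := X.sheaf) W w) h0).trans (map_zero _)

variable {x}

/-- Elementary tensors in the stalk. -/
def tst (M N : X.Modules) (a : ModSite.stalkMod (O := X.sheaf) (pt x) M) (b : ModSite.stalkMod (O := X.sheaf) (pt x) N) :
    ModSite.stalkMod (O := X.sheaf) (pt x) (CohB1.tensorMod M N) :=
  modCmp x _ ((M2.stalkEquiv M N x).symm ((modCmp x M).symm a ⊗ₜ (modCmp x N).symm b))

theorem tst_germ (M N : X.Modules) {U : X.Opens} (hU : x ∈ U) (s : Γ(M, U)) (t : Γ(N, U)) :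
    tst M N (ModSite.germ (pt x) (O := X.sheaf) M U (nb x hU) s) (ModSite.germ (pt x) (O := X.sheaf) N U (nb x hU) t) =
      ModSite.germ (pt x) (O := X.sheaf) (CohB1.tensorMod M N) U (nb x hU) (M2.tsec M N s t) := by
  rw [← modCmp_germ, ← modCmp_germ, ← modCmp_germ, tst, AddEquiv.symm_apply_apply, AddEquiv.symm_apply_apply,
    ← M2.stalkEquiv_tsec, LinearEquiv.symm_apply_apply]

theorem modCmp_symm_smul (M : X.Modules) (r : ModSite.stalkRing (pt x) X.sheaf)
    (a : ModSite.stalkMod (O := X.sheaf) (pt x) M) :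
    (modCmp x M).symm (r • a) = (ringCmp x).symm r • (modCmp x M).symm a := by
  apply (modCmp x M).injective
  rw [AddEquiv.apply_symm_apply, modCmp_smul, RingEquiv.apply_symm_apply, AddEquiv.apply_symm_apply]

theorem tst_smul (M N : X.Modules) (r : ModSite.stalkRing (pt x) X.sheaf)
    (a : ModSite.stalkMod (O := X.sheaf) (pt x) M) (b : ModSite.stalkMod (O := X.sheaf) (pt x) N) :
    tst M N (r • a) b = tst M N a (r • b) := by
  rw [tst, tst, modCmp_symm_smul, modCmp_symm_smul, TensorProduct.smul_tmul]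

theorem tst_add_left (M N : X.Modules) (a a' : ModSite.stalkMod (O := X.sheaf) (pt x) M)
    (b : ModSite.stalkMod (O := X.sheaf) (pt x) N) : tst M N (a + a') b = tst M N a b + tst M N a' b := by
  rw [tst, map_add, TensorProduct.add_tmul, map_add, map_add]; rfl

theorem tst_add_right (M N : X.Modules) (a : ModSite.stalkMod (O := X.sheaf) (pt x) M)
    (b b' : ModSite.stalkMod (O := X.sheaf) (pt x) N) : tst M N a (b + b') = tst M N a b + tst M N a b' := by
  rw [tst, map_add, TensorProduct.tmul_add, map_add, map_add]; rfl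

theorem tst_zero_left (M N : X.Modules) (b : ModSite.stalkMod (O := X.sheaf) (pt x) N) : tst M N 0 b = 0 := by
  rw [tst, map_zero, TensorProduct.zero_tmul, map_zero, map_zero]

theorem tst_induction (M N : X.Modules) {p : ModSite.stalkMod (O := X.sheaf) (pt x) (CohB1.tensorMod M N) → Prop}
    (h0 : p 0) (hadd : ∀ a b, p a → p b → p (a + b)) (h : ∀ a b, p (tst M N a b)) (z) : p z := by
  obtain ⟨z, rfl⟩ := (modCmp x _).surjective z
  obtain ⟨z, rfl⟩ := (M2.stalkEquiv M N x).symm.surjective z
  induction z using TensorProduct.induction_on with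
  | zero => rwa [map_zero, map_zero]
  | tmul a b =>
    have := h (modCmp x M a) (modCmp x N b)
    rwa [tst, AddEquiv.symm_apply_apply, AddEquiv.symm_apply_apply] at this
  | add a b ha hb => rw [map_add, map_add]; exact hadd _ _ ha hb

variable (E N : X.Modules) [ModSite.HasSheafHom (O := X.sheaf) E]

set_option maxHeartbeats 1600000 in
/-- The value of `N ⊗ E^∨ ⟶ ℋom(E, N)` on stalks. -/
theorem evLin_dualMap (a : ModSite.stalkMod (O := X.sheaf) (pt x) N)
    (φ : ModSite.stalkMod (O := X.sheaf) (pt x) (dual E)) (b : ModSite.stalkMod (O := X.sheaf) (pt x) E)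
    (r : ModSite.stalkRing (pt x) X.sheaf)
    (hr : SH.evLin (O := X.sheaf) (M := E) (N := Coh.structureModule X) (x := x) φ b = r • oneSt x) :
    SH.evLin (O := X.sheaf) (M := E) (N := N) (x := x)
      ((stFun x).map (dualMap N E) (tst N (dual E) a φ)) b = r • a := by
  obtain ⟨U₁, h₁, n, rfl⟩ := SH.exists_rep (O := X.sheaf) (F := N) a
  obtain ⟨U₂, h₂, f, rfl⟩ := SH.exists_rep (O := X.sheaf) (F := dual E) φ
  obtain ⟨U₃, h₃, s, rfl⟩ := SH.exists_rep (O := X.sheaf) (F := E) b
  have hx : x ∈ U₁ ⊓ (U₂ ⊓ U₃) := ⟨h₁, h₂, h₃⟩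
  have e1 := (SH.germ_res (O := X.sheaf) (F := N) (homOfLE inf_le_left : U₁ ⊓ (U₂ ⊓ U₃) ⟶ U₁) hx h₁ n).symm
  have e2 := (SH.germ_res (O := X.sheaf) (F := dual E)
    (homOfLE (inf_le_right.trans inf_le_left) : U₁ ⊓ (U₂ ⊓ U₃) ⟶ U₂) hx h₂ f).symm
  have e3 := (SH.germ_res (O := X.sheaf) (F := E)
    (homOfLE (inf_le_right.trans inf_le_right) : U₁ ⊓ (U₂ ⊓ U₃) ⟶ U₃) hx h₃ s).symm
  generalize ModSite.germ (ModFlat16.pt x) (O := X.sheaf) N U₁ (ModFlat16.mk h₁) n = a at e1 ⊢
  generalize ModSite.germ (ModFlat16.pt x) (O := X.sheaf) (dual E) U₂ (ModFlat16.mk h₂) f = φ at e2 hr ⊢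
  generalize ModSite.germ (ModFlat16.pt x) (O := X.sheaf) E U₃ (ModFlat16.mk h₃) s = b at e3 hr ⊢
  subst e1 e2 e3
  generalize ModFlat16.smap (O := X.sheaf) N _ n = n'
  generalize ModFlat16.smap (O := X.sheaf) (dual E) _ f = f' at hr ⊢
  generalize ModFlat16.smap (O := X.sheaf) E _ s = s' at hr ⊢
  change SH.ev (O := X.sheaf) _ _ = _ at hr
  replace hr := (SH.ev_germ (O := X.sheaf) (M := E) (N := Coh.structureModule X) hx f' s').symm.trans hr
  let w : Γ(X, U₁ ⊓ (U₂ ⊓ U₃)) := FinPres16.hval (O := X.sheaf) (M := E) (N := Coh.structureModule X) f' s'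
  have hw : ModSite.germRing (pt x) (O := X.sheaf) _ (nb x hx) w = r := by
    rw [← sub_eq_zero]
    apply smul_oneSt_injective x
    rw [sub_smul, ← germ_eq_smul_oneSt]
    exact sub_eq_zero.2 hr
  rw [← hw, ← ModSite.germ_smul]
  refine (congrArg (fun z => SH.evLin (O := X.sheaf) (M := E) (N := N) (x := x) ((stFun x).map (dualMap N E) z) _)
    (tst_germ N (dual E) hx n' f')).trans ?_
  refine (congrArg (fun z => SH.evLin (O := X.sheaf) (M := E) (N := N) (x := x) z _)
    (ModFlat16.stalkMap_germ (O := X.sheaf) (dualMap N E) x (nb x hx) (M2.tsec N (dual E) n' f'))).trans ?_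
  refine (SH.ev_germ (O := X.sheaf) hx _ s').trans (congrArg _ ?_)
  refine (FinPres16.hval_homEquiv (O := X.sheaf) (dualEval N E) (M2.tsec N (dual E) n' f') s').trans ?_
  show (dualEval N E).app _ (M2.tsec (CohB1.tensorMod N (dual E)) E (M2.tsec N (dual E) n' f') s') = w • n'
  show (M2.tensorRUnit N).hom.app _ ((M2.tensorMap (𝟙 N) ((ihomAdj E).counit.app (Coh.structureModule X))).app _
    ((M2.tensorAssoc N (dual E) E).hom.app _ _)) = _
  refine (congrArg (fun z => (M2.tensorRUnit N).hom.app _
    ((M2.tensorMap (𝟙 N) ((ihomAdj E).counit.app (Coh.structureModule X))).app _ z))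
      (DMon9.tensorAssoc_tsec N (dual E) E n' f' s')).trans ?_
  refine (congrArg (fun z => (M2.tensorRUnit N).hom.app _ z) (M2.tensorMap_tsec _ _ _ _)).trans ?_
  exact DMon9.tensorRUnit_tsec N n' w

variable {E}

theorem free_stalkMod (hE : FlatMod.IsFinLocFree E) :
    Module.Free (ModSite.stalkRing (pt x) X.sheaf) (ModSite.stalkMod (O := X.sheaf) (pt x) E) ∧
      Module.Finite (ModSite.stalkRing (pt x) X.sheaf) (ModSite.stalkMod (O := X.sheaf) (pt x) E) := by
  have hfp := M1.isFP_of_isFinLocFree hE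
  have hq : Coh.IsQCoh E := by haveI : CohB1.IsFP E := hfp; exact inferInstanceAs (SheafOfModules.IsQuasicoherent (R := X.ringCatSheaf) E)
  obtain ⟨U, n, hxU, ⟨e⟩⟩ := hE x
  haveI := M1.free_stalk_of_freeMod hq e hxU
  haveI := M1.finite_stalk hq (by haveI := hfp; infer_instance) x
  let b := Module.Free.chooseBasis (X.presheaf.stalk x) (E.presheaf.stalk x)
  let b' : Module.Basis _ (ModSite.stalkRing (pt x) X.sheaf) (ModSite.stalkMod (O := X.sheaf) (pt x) E) :=
    Module.Basis.ofRepr
      { toFun := fun z => Finsupp.mapRange (ringCmp x) (map_zero _) (b.repr ((modCmp x E).symm z))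
        invFun := fun c => modCmp x E (b.repr.symm (Finsupp.mapRange (ringCmp x).symm (map_zero _) c))
        map_add' := fun z z' => by simp [Finsupp.mapRange_add]
        map_smul' := fun r z => by
          ext i
          show ringCmp x (b.repr ((modCmp x E).symm (r • z)) i) = r * ringCmp x (b.repr ((modCmp x E).symm z) i)
          rw [show (modCmp x E).symm (r • z) = (ringCmp x).symm r • (modCmp x E).symm z from modCmp_symm_smul E r z,
            map_smul, Finsupp.smul_apply, smul_eq_mul, map_mul, RingEquiv.apply_symm_apply]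
        left_inv := fun z => by
          show modCmp x E (b.repr.symm _) = z
          rw [show Finsupp.mapRange (ringCmp x).symm (map_zero _)
              (Finsupp.mapRange (ringCmp x) (map_zero _) (b.repr ((modCmp x E).symm z))) = b.repr ((modCmp x E).symm z)
            from Finsupp.ext fun i => by simp]
          simp
        right_inv := fun c => by
          ext i
          simp }
  exact ⟨Module.Free.of_basis b', Module.Finite.of_basis b'⟩

theorem bijective_dualMap (hE : FlatMod.IsFinLocFree E) :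
    Function.Bijective ((stFun x).map (dualMap N E)).hom := by
  classical
  haveI : SheafOfModules.IsFinitePresentation (R := ModSite.ringSh X.sheaf) E := M1.isFP_of_isFinLocFree hE
  obtain ⟨_, _⟩ := free_stalkMod (x := x) hE
  let b := Module.Free.chooseBasis (ModSite.stalkRing (pt x) X.sheaf) (ModSite.stalkMod (O := X.sheaf) (pt x) E)
  let ev₀ := SH.evLin (O := X.sheaf) (M := E) (N := Coh.structureModule X) (x := x)
  let ev₁ := SH.evLin (O := X.sheaf) (M := E) (N := N) (x := x)
  choose φ hφ using fun i => SH.evLin_surjective (O := X.sheaf) (M := E) (N := Coh.structureModule X) (x := x)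
    ((b.coord i).smulRight (oneSt x))
  have hφ' : ∀ i z, ev₀ (φ i) z = b.coord i z • oneSt x := fun i z => LinearMap.congr_fun (hφ i) z
  have key : ∀ (a) (i) (z), ev₁ ((stFun x).map (dualMap N E) (tst N (dual E) a (φ i))) z = b.coord i z • a :=
    fun a i z => evLin_dualMap E N a (φ i) z _ (hφ' i z)
  have hone : ∀ c : ModSite.stalkMod (O := X.sheaf) (pt x) (Coh.structureModule X), ∃ r, c = r • oneSt x := fun c => by
    obtain ⟨U, hU, r, rfl⟩ := SH.exists_rep (O := X.sheaf) (F := Coh.structureModule X) c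
    exact ⟨_, germ_eq_smul_oneSt x hU r⟩
  have hspan : ∀ z, ∃ n : Module.Free.ChooseBasisIndex _ (ModSite.stalkMod (O := X.sheaf) (pt x) E) →
      ModSite.stalkMod (O := X.sheaf) (pt x) N, z = ∑ i, tst N (dual E) (n i) (φ i) := by
    refine tst_induction N (dual E) ⟨0, by simp [tst_zero_left]⟩ (fun a c ⟨n, hn⟩ ⟨m, hm⟩ => ⟨n + m, ?_⟩)
      fun a ψ => ?_
    · rw [hn, hm]
      exact Finset.sum_add_distrib.symm.trans (Finset.sum_congr rfl fun i _ => (tst_add_left N (dual E) _ _ _).symm)
    · choose r hr using fun i => hone (ev₀ ψ (b i))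
      have hψ : ψ = ∑ i, r i • φ i := SH.evLin_injective (O := X.sheaf) (M := E) (N := Coh.structureModule X) (b.ext fun j => by
        rw [map_sum, LinearMap.sum_apply]
        simp only [map_smul, LinearMap.smul_apply]
        refine (hr j).trans ?_
        rw [Finset.sum_eq_single j (fun i _ hi => by
          rw [show SH.evLin (φ i) (b j) = b.coord i (b j) • oneSt x from hφ' i (b j), Module.Basis.coord_apply,
            Module.Basis.repr_self, Finsupp.single_eq_of_ne' (Ne.symm hi) , zero_smul, smul_zero])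
          (fun h => absurd (Finset.mem_univ j) h)]
        rw [show SH.evLin (φ j) (b j) = b.coord j (b j) • oneSt x from hφ' j (b j), Module.Basis.coord_apply,
          Module.Basis.repr_self, Finsupp.single_eq_same, one_smul])
      refine ⟨fun i => r i • a, ?_⟩
      rw [hψ]
      let T := AddMonoidHom.mk' (tst N (dual E) a) (tst_add_right N (dual E) a)
      exact (map_sum T _ _).trans (Finset.sum_congr rfl fun i _ => (tst_smul N (dual E) (r i) a (φ i)).symm)
  have hval : ∀ (n : _ → ModSite.stalkMod (O := X.sheaf) (pt x) N) (j),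
      ev₁ ((stFun x).map (dualMap N E) (∑ i, tst N (dual E) (n i) (φ i))) (b j) = n j := fun n j => by
    rw [map_sum, map_sum, LinearMap.sum_apply, Finset.sum_eq_single j]
    · rw [key, Module.Basis.coord_apply, Module.Basis.repr_self, Finsupp.single_eq_same, one_smul]
    · intro i _ hi
      rw [key, Module.Basis.coord_apply, Module.Basis.repr_self, Finsupp.single_eq_of_ne' (Ne.symm hi), zero_smul]
    · exact fun h => absurd (Finset.mem_univ j) h
  refine ⟨(injective_iff_map_eq_zero _).2 fun z hz => ?_, fun w => ?_⟩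
  · obtain ⟨n, rfl⟩ := hspan z
    have h0 : ∀ j, n j = 0 := fun j => by
      rw [← hval n j, hz, map_zero]; rfl
    simp [h0, tst_zero_left]
  · refine ⟨∑ i, tst N (dual E) (ev₁ w (b i)) (φ i), ?_⟩
    exact SH.evLin_injective (O := X.sheaf) (M := E) (N := N) (b.ext fun j => hval _ j)

theorem isIso_dualMap (hE : FlatMod.IsFinLocFree E) : IsIso (dualMap N E) := by
  refine (M1.isIso_iff_stalk _).2 fun y => ?_
  have hcomm : ∀ z, modCmp y _ ((M1.stalkAb y).map (dualMap N E) z) =
      (stFun y).map (dualMap N E) (modCmp y _ z) := fun z => by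
    obtain ⟨U, hU, s, rfl⟩ := TopCat.Presheaf.exists_germ_eq (CohB1.tensorMod N (dual E)).presheaf z
    rw [modCmp_germ]
    refine Eq.trans (congrArg (modCmp y _) ?_) ((modCmp_germ y _ hU _).trans
      (ModFlat16.stalkMap_germ (O := X.sheaf) (dualMap N E) y (nb y hU) s).symm)
    exact TopCat.Presheaf.stalkFunctor_map_germ_apply U y hU ((Scheme.Modules.toPresheaf X).map (dualMap N E)) s
  have hb := bijective_dualMap (x := y) N hE
  refine ⟨fun a b h => (modCmp y _).injective (hb.1 ?_), fun w => ?_⟩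
  · rw [← hcomm, ← hcomm, h]
  · obtain ⟨z, hz⟩ := hb.2 (modCmp y _ w)
    obtain ⟨z, rfl⟩ := (modCmp y _).surjective z
    exact ⟨z, (modCmp y _).injective ((hcomm z).trans hz)⟩

attribute [local instance] HasDerivedCategory.standard in
/-- Local Ext sheaves out of `E ⊗ F`. -/
theorem nonempty_ext_tensor (hE : FlatMod.IsFinLocFree E) (F G : X.Modules) (q : ℕ) :
    Nonempty (CohB1.tensorMod (((ihom F).rightDerived q).obj G) (dual E) ≅
      ((ihom (CohB1.tensorMod E F)).rightDerived q).obj G) := by
  haveI : PreservesFiniteLimits (ihom E) := PreservesLimitsOfSize.preservesFiniteLimits _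
  haveI : (ihom E).PreservesHomology := by
    refine Functor.preservesHomology_of_map_exact _ ((Functor.exact_tfae (ihom E)).out 0 1 |>.1 fun S hS => ?_)
    exact RFPlus.shortExact_map_of_isZero (ihom E) S hS (homExact_of_isFinLocFree hE 0 S.X₁)
  let θ : ihom (CohB1.tensorMod E F) ≅ ihom F ⋙ ihom E :=
    (ihomAdj (CohB1.tensorMod E F)).rightAdjointUniq
      (((ihomAdj E).comp (ihomAdj F)).ofNatIsoLeft (MonoidalCategory.tensorRightTensor E F).symm)
  haveI := isIso_dualMap (((ihom F).rightDerived q).obj G) hE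
  exact ⟨asIso (dualMap (((ihom F).rightDerived q).obj G) E) ≪≫
    ((RDComp.rightDerivedPostIso (ihom F) (ihom E) q).app G).symm ≪≫
    (({ hom := NatTrans.rightDerived θ.inv q
        inv := NatTrans.rightDerived θ.hom q
        hom_inv_id := by rw [← NatTrans.rightDerived_comp, Iso.inv_hom_id, NatTrans.rightDerived_id]
        inv_hom_id := by rw [← NatTrans.rightDerived_comp, Iso.hom_inv_id, NatTrans.rightDerived_id] } :
      (ihom F ⋙ ihom E).rightDerived q ≅ (ihom (CohB1.tensorMod E F)).rightDerived q).app G)⟩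

end Groth.Agent.CohMop
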