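import Groth.Agent.Lib.CohMop.StalkDepth
import Groth.Agent.Lib.Depth.HomDepth
import Groth.Agent.Lib.KFlat.Symm
import Groth.Agent.Lib.FlatDepth.Fibre
import Groth.Prelude.Def_DCoh4

/-!
# Depth of the stalks of a sheaf of homomorphisms
-/

set_option autoImplicit false
set_option linter.style.haveILetI false
set_option backward.isDefEq.respectTransparency false
set_option backward.isDefEq.respectTransparency.types false

universe u
open CategoryTheory AlgebraicGeometry Opposite

namespace Groth.Agent

namespace DepthLib

variable {A : Type u} [CommRing A] [IsLocalRing A] [IsNoetherianRing A]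
  {M N : Type u} [AddCommGroup M] [Module A M] [Module.Finite A M] [AddCommGroup N] [Module A N] [Module.Finite A N]

/-- Pointwise `(S_k)`, `k ≤ 2`, passes to modules of homomorphisms. -/
theorem min_supportDim_le_depth_linearMap (k : ℕ) (hk : k = 1 ∨ k = 2)
    (h : min (k : WithBot ℕ∞) (Module.supportDim A N) ≤ ((LocCoh.depth A N : ℕ∞) : WithBot ℕ∞)) :
    min (k : WithBot ℕ∞) (Module.supportDim A (M →ₗ[A] N)) ≤ ((LocCoh.depth A (M →ₗ[A] N) : ℕ∞) : WithBot ℕ∞) := by
  have hsup : Module.supportDim A (M →ₗ[A] N) ≤ Module.supportDim A N := by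
    obtain ⟨n, m, u, ⟨e⟩⟩ := exists_linearMap_ker_equiv (A := A) (M := M) (N := N)
    rw [Module.supportDim_eq_of_equiv e]
    refine (Module.supportDim_le_of_injective _ (LinearMap.ker u).injective_subtype).trans ?_
    exact Order.krullDim_le_of_strictMono (fun p => ⟨p.1, support_pi_subset n p.2⟩) fun p q h => h
  by_cases h2 : (k : ℕ∞) ≤ LocCoh.depth A N
  · refine (min_le_left _ _).trans (WithBot.coe_le_coe.2 (?_ : (k : ℕ∞) ≤ LocCoh.depth A (M →ₗ[A] N)))
    rcases hk with rfl | rfl
    · rw [Nat.cast_one] at h2 ⊢
      exact one_le_idealDepth_linearMap (M := M) _ h2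
    · rw [Nat.cast_ofNat] at h2 ⊢
      exact two_le_idealDepth_linearMap (M := M) _ h2
  · have hd : Module.supportDim A N ≤ ((LocCoh.depth A N : ℕ∞) : WithBot ℕ∞) := by
      rcases le_total (k : WithBot ℕ∞) (Module.supportDim A N) with h' | h'
      · rw [min_eq_left h'] at h
        exact absurd (by exact_mod_cast h) h2
      · rwa [min_eq_right h'] at h
    refine ((min_le_right _ _).trans (hsup.trans hd)).trans ?_
    norm_cast
    by_cases h1 : (1 : ℕ∞) ≤ LocCoh.depth A N
    · have hN : LocCoh.depth A N ≤ 1 := by
        rcases hk with rfl | rfl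
        · exact absurd h1 h2
        · have : LocCoh.depth A N < 1 + 1 := by simpa [one_add_one_eq_two] using not_le.1 h2
          exact Order.le_of_lt_add_one this
      exact hN.trans (one_le_idealDepth_linearMap (M := M) _ h1)
    · rw [not_le, ENat.lt_one_iff_eq_zero] at h1
      rw [h1]
      exact zero_le

end DepthLib

namespace CohMop

variable {X : Scheme.{u}}

/-- The two internal homs agree. -/
noncomputable def sheafHomIhomIso (F : X.Modules) [DCoh.HasSheafHom F] : DCoh.sheafHom F ≅ ihom F :=
  (DCoh.sheafHomAdj F).rightAdjointUniq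
    ((ihomAdj F).ofNatIsoLeft (KFlat.Site.flipObjIso X.sheaf F).symm)

variable [IsLocallyNoetherian X]

/-- Transport a property of `Hom`s of finite modules to stalks of internal homs. -/
theorem stalk_sheafHom_invariant (F G : X.Modules) (hF : Coh.IsCoh F) (hG : Coh.IsCoh G)
    [DCoh.HasSheafHom F] (x : X) :
    ∃ (A : Type u) (_ : CommRing A) (_ : IsLocalRing A) (_ : IsNoetherianRing A)
      (M N : Type u) (_ : AddCommGroup M) (_ : AddCommGroup N) (_ : Module A M) (_ : Module A N)
      (_ : Module.Finite A M) (_ : Module.Finite A N),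
      LocCoh.depth (X.presheaf.stalk x) (G.presheaf.stalk x) = LocCoh.depth A N ∧
      Module.supportDim (X.presheaf.stalk x) (G.presheaf.stalk x) = Module.supportDim A N ∧
      LocCoh.depth (X.presheaf.stalk x) (((DCoh.sheafHom F).obj G).presheaf.stalk x) =
        LocCoh.depth A (M →ₗ[A] N) ∧
      Module.supportDim (X.presheaf.stalk x) (((DCoh.sheafHom F).obj G).presheaf.stalk x) =
        Module.supportDim A (M →ₗ[A] N) := by
  let A := ModSite.stalkRing (pt x) X.sheaf
  haveI : IsLocalRing A := (ringCmp x).isLocalRing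
  haveI : IsNoetherianRing A := isNoetherianRing_stalkRing x
  haveI := finite_stFun x hF
  haveI := finite_stFun x hG
  haveI : ModSite.HasSheafHom (O := X.sheaf) F := isLeftAdjoint_tenR F
  haveI : SheafOfModules.IsFinitePresentation (R := ModSite.ringSh X.sheaf) F := M1.isFP_of_isCoh hF
  let e : (stFun x).obj ((DCoh.sheafHom F).obj G) ≃ₗ[A] ((stFun x).obj F →ₗ[A] (stFun x).obj G) :=
    ((stFun x).mapIso ((sheafHomIhomIso F).app G) ≪≫ (stalkIhomIso (x := x) (F := F)).app G).toLinearEquiv.trans
      (ModuleCat.homLinearEquiv (S := A) (M := (stFun x).obj F) (N := (stFun x).obj G))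
  haveI : Module.Finite A ((stFun x).obj ((DCoh.sheafHom F).obj G)) := Module.Finite.equiv e.symm
  refine ⟨A, inferInstance, inferInstance, inferInstance, (stFun x).obj F, (stFun x).obj G, inferInstance,
    inferInstance, inferInstance, inferInstance, inferInstance, inferInstance, depth_stFun x G,
    supportDim_stFun x G, (depth_stFun x _).trans (DepthLib.idealDepth_congr e),
    (supportDim_stFun x _).trans (Module.supportDim_eq_of_equiv e)⟩
where
  supportDim_stFun (x : X) (M : X.Modules) [hfin : Module.Finite (ModSite.stalkRing (pt x) X.sheaf) ((stFun x).obj M)] :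
      Module.supportDim (X.presheaf.stalk x) (M.presheaf.stalk x) =
        Module.supportDim (ModSite.stalkRing (pt x) X.sheaf) ((stFun x).obj M) := by
    letI : Algebra (X.presheaf.stalk x) (ModSite.stalkRing (pt x) X.sheaf) := (ringCmp x).toRingHom.toAlgebra
    letI : Module (X.presheaf.stalk x) ((stFun x).obj M) := Module.compHom _ (ringCmp x).toRingHom
    haveI : IsScalarTower (X.presheaf.stalk x) (ModSite.stalkRing (pt x) X.sheaf) ((stFun x).obj M) :=
      IsScalarTower.of_algebraMap_smul fun r n => rfl
    refine Eq.trans ?_ (FlatDepth.supportDim_eq_of_surjective (A := X.presheaf.stalk x)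
      (B := ModSite.stalkRing (pt x) X.sheaf) ((stFun x).obj M) (ringCmp x).surjective)
    exact Module.supportDim_eq_of_equiv
      ({ modCmp x M with map_smul' := modCmp_smul x M } : M.presheaf.stalk x ≃ₗ[X.presheaf.stalk x] (stFun x).obj M)

end CohMop

end Groth.Agent
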