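import Groth.Agent.Lib.RHom.ProjClosed
import Groth.Agent.Lib.CohFound.ClosedImmPush

/-!
# The counit of a closed immersion on arbitrary modules
-/

set_option autoImplicit false
set_option linter.style.haveILetI false
set_option backward.isDefEq.respectTransparency false
set_option backward.isDefEq.respectTransparency.types false

universe u

open CategoryTheory AlgebraicGeometry TensorProduct TopologicalSpace Opposite

namespace Groth.Agent.CohMop

open Groth.Agent

variable {X Y : Scheme.{u}} (i : X ⟶ Y) [IsClosedImmersion i]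

theorem isIso_counit_closedImmersion (N : X.Modules) :
    IsIso ((Scheme.Modules.pullbackPushforwardAdjunction i).counit.app N) := by
  let adj := Scheme.Modules.pullbackPushforwardAdjunction i
  let G := (Scheme.Modules.pushforward i).obj N
  let ε := adj.counit.app N
  refine (M1.isIso_iff_stalk _).2 fun z => ?_
  have hsurj : Function.Surjective (M2.stalkUnit i z G) := by
    have h1 : Function.Surjective (fun m : G.presheaf.stalk (i z) =>
        (1 : X.presheaf.stalk z) ⊗ₜ[Y.presheaf.stalk (i z)] m) := by
      intro w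
      induction w using TensorProduct.induction_on with
      | zero => exact ⟨0, TensorProduct.tmul_zero _ _⟩
      | tmul s m =>
        obtain ⟨r, rfl⟩ := i.stalkMap_surjective z s
        refine ⟨r • m, ?_⟩
        dsimp only
        rw [TensorProduct.tmul_smul, TensorProduct.smul_tmul']
        exact congrArg (· ⊗ₜ m) ((Algebra.smul_def _ _).trans (mul_one _))
      | add a b ha hb =>
        obtain ⟨p, rfl⟩ := ha
        obtain ⟨q, rfl⟩ := hb
        exact ⟨p + q, TensorProduct.tmul_add _ _ _⟩
    have h2 : (M2.stalkUnit i z G : G.presheaf.stalk (i z) → _) = (M2.pullStalkEquiv i z G) ∘ fun m =>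
        (1 : X.presheaf.stalk z) ⊗ₜ m :=
      funext fun m => (LinearMap.liftBaseChange_one_tmul _ (M2.stalkUnit i z G) m).symm
    rw [h2]
    exact (M2.pullStalkEquiv i z G).surjective.comp h1
  have hcomp : ∀ a : G.presheaf.stalk (i z), (M1.stalkAb z).map ε (M2.stalkUnit i z G a) =
      TopCat.Presheaf.stalkPushforward AddCommGrpCat.{u} i.base N.presheaf z a := fun a => by
    obtain ⟨U, hU, s, rfl⟩ := G.presheaf.exists_germ_eq a
    refine (congrArg ((M1.stalkAb z).map ε) (M2.stalkUnitHom_germ i z G hU s)).trans ?_
    refine (TopCat.Presheaf.stalkFunctor_map_germ_apply (i ⁻¹ᵁ U) z hU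
      ((Scheme.Modules.toPresheaf X).map ε) _).trans ?_
    refine Eq.trans ?_ (RHom.stalkPush_germ i N z hU s).symm
    exact congrArg (fun t => N.presheaf.germ (i ⁻¹ᵁ U) z hU t)
      (congrArg (fun φ : G ⟶ G => φ.app U s) (adj.right_triangle_components N))
  have hb := RHom.bijective_stalkPush i N z
  refine ⟨fun a b h => ?_, fun b => ?_⟩
  · obtain ⟨a, rfl⟩ := hsurj a
    obtain ⟨b, rfl⟩ := hsurj b
    exact congrArg _ (hb.1 ((hcomp a).symm.trans (h.trans (hcomp b))))
  · obtain ⟨a, rfl⟩ := hb.2 b
    exact ⟨_, hcomp a⟩

end Groth.Agent.CohMop
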