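import Groth.Agent.Lib.CohMop.ExtCoh
import Groth.Agent.Lib.ModM1.Coh
import Groth.Prelude.Def_ModSite2

/-!
# Local Ext sheaves with supports, for a first variable supported in the closed set
-/

set_option autoImplicit false
set_option linter.style.haveILetI false
set_option linter.unusedSectionVars false
set_option backward.isDefEq.respectTransparency false
set_option backward.isDefEq.respectTransparency.types false

universe u

open CategoryTheory CategoryTheory.Limits AlgebraicGeometry

namespace Groth.Agent.CohMop

open Groth.Agent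

variable {X : Scheme.{u}}

/-- A module with no nonzero stalk on an open restricts to zero there. -/
theorem isZero_restrict_of_support {M : X.Modules} (U : X.Opens) (h : ∀ x ∈ U, x ∉ CohB1.support M) :
    IsZero ((Scheme.Modules.restrictFunctor U.ι).obj M) := by
  rw [IsZero.iff_id_eq_zero]
  refine Scheme.Modules.hom_ext _ _ fun V => ?_
  ext s
  refine M1.section_ext _ _ fun x hx => ?_
  have hns : x ∉ CohB1.support ((Scheme.Modules.restrictFunctor U.ι).obj M) := fun hxs =>
    h x.1 x.2 ((M1.subsingleton_stalk_restrict_iff U.ι M x).1 hxs)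
  rw [(M1.notMem_support_iff _ x).1 hns (((Scheme.Modules.restrictFunctor U.ι).obj M).presheaf.germ V x hx _)]
  exact ((M1.notMem_support_iff _ x).1 hns _).symm

/-- Internal homs out of the zero module vanish. -/
theorem isZero_ihom_obj {A : X.Modules} (hA : IsZero A) (G : X.Modules) : IsZero ((ihom A).obj G) := by
  rw [IsZero.iff_id_eq_zero, ← ihomMap_id, (IsZero.iff_id_eq_zero A).1 hA, ihomMap_zero]

/-- Internal homs out of a module supported in the complement of `U` are null on `U`. -/
theorem isNullOn_ihom (U : X.Opens) {F : X.Modules} (h : ∀ x ∈ U, x ∉ CohB1.support F) (G : X.Modules) :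
    ModSite.IsNullOn X.sheaf U ((ihom F).obj G) := by
  have h1 : IsZero ((Scheme.Modules.restrictFunctor U.ι).obj ((ihom F).obj G)) :=
    (isZero_ihom_obj (isZero_restrict_of_support U h) _).of_iso ((restrictIhomIso U F).app G)
  exact ((Scheme.Modules.overEquiv U).inverse.map_isZero
    (h1.of_iso ((Scheme.Modules.overFunctorEquiv U).app _))).of_iso ((Scheme.Modules.overEquiv U).unitIso.app _)

/-- `Γ_Z` is the identity on modules null on the open. -/
theorem isIso_sectOnι (U : X.Opens) [ModSite.HasPushOver X.sheaf U] {M : X.Modules}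
    (h : ModSite.IsNullOn X.sheaf U M) : IsIso ((ModSite.sectOnι X.sheaf U).app M) := by
  haveI : (ModSite.pushOver X.sheaf U).Additive := (ModSite.restrPushOverAdj X.sheaf U).right_adjoint_additive
  have h0 : (ModSite.restrPushOverAdj X.sheaf U).unit.app M = 0 :=
    ((ModSite.pushOver X.sheaf U).map_isZero h).eq_of_tgt _ _
  refine ⟨kernel.lift _ (𝟙 M) ((Category.id_comp _).trans h0), ?_, kernel.lift_ι _ _ _⟩
  apply equalizer.hom_ext
  rw [Category.assoc]
  exact ((congrArg (_ ≫ ·) (kernel.lift_ι _ _ _)).trans (Category.comp_id _)).trans (Category.id_comp _).symm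

/-- `Γ_Z ℋom(F, -) ≅ ℋom(F, -)` for `F` supported in `Z`. -/
noncomputable def sectIhomIso (U : X.Opens) [ModSite.HasPushOver X.sheaf U] {F : X.Modules}
    (h : ∀ x ∈ U, x ∉ CohB1.support F) : ihom F ⋙ ModSite.sectOn X.sheaf U ≅ ihom F :=
  NatIso.ofComponents (fun G => @asIso _ _ _ _ ((ModSite.sectOnι X.sheaf U).app _)
    (isIso_sectOnι U (isNullOn_ihom U h G))) fun f => (ModSite.sectOnι X.sheaf U).naturality _

end Groth.Agent.CohMop
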