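import Groth.Agent.Lib.CohMop.IhomSeq

/-!
# Local Ext sheaves of coherent modules are coherent
-/

set_option autoImplicit false
set_option linter.style.haveILetI false
set_option linter.unusedSectionVars false
set_option backward.isDefEq.respectTransparency false
set_option backward.isDefEq.respectTransparency.types false

universe u

open CategoryTheory CategoryTheory.Limits AlgebraicGeometry

namespace Groth.Agent.CohMop

open Groth.Agent KFlat KFlat.Sch

theorem isCoh_rightDerived_zero {X : Scheme.{u}} {F G : X.Modules} (h : Coh.IsCoh ((ihom F).obj G)) :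
    Coh.IsCoh (((ihom F).rightDerived 0).obj G) :=
  isCoh_of_iso (((ihom F).rightDerivedZeroIsoSelf).symm.app G) h

/-- Coherence may be tested on an open cover. -/
theorem isCoh_of_restrict {X : Scheme.{u}} {M : X.Modules}
    (h : ∀ x : X, ∃ U : X.Opens, x ∈ U ∧ Coh.IsCoh ((Scheme.Modules.restrictFunctor U.ι).obj M)) :
    Coh.IsCoh M := by
  choose U hxU hU using h
  exact ⟨M1.isQCoh_of_openImmersion_cover (fun x => (U x).ι) (fun x => ⟨x, ⟨x, hxU x⟩, rfl⟩) fun x => (hU x).1,
    M1.isFT_of_openImmersion_cover (fun x => (U x).ι) (fun x => ⟨x, ⟨x, hxU x⟩, rfl⟩) fun x => (hU x).2⟩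

theorem isCoh_extSheaf (i : ℕ) : ∀ {X : Scheme.{u}} [IsLocallyNoetherian X] (F G : X.Modules),
    Coh.IsCoh F → Coh.IsCoh G → Coh.IsCoh (((ihom F).rightDerived i).obj G) := by
  induction i with
  | zero => exact fun F G hF hG => isCoh_rightDerived_zero (homCoh_of_isCoh hF G hG)
  | succ i ih =>
    intro X _ F G hF hG
    refine isCoh_of_restrict fun x => ?_
    obtain ⟨U, hxU, Pres, hPres⟩ := (M1.isFP_iff_presentation F).1 (M1.isFP_of_isCoh hF) x
    refine ⟨U, hxU, isCoh_of_iso ((restrictExtIso U F (i + 1)).app G).symm ?_⟩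
    let F' : (U : Scheme.{u}).Modules := (Scheme.Modules.restrictFunctor U.ι).obj F
    let G' : (U : Scheme.{u}).Modules := (Scheme.Modules.restrictFunctor U.ι).obj G
    have hF' : Coh.IsCoh F' := ⟨M1.isQCoh_restrict hF.1 U.ι, M1.isFT_restrict hF.2 U.ι⟩
    have hG' : Coh.IsCoh G' := ⟨M1.isQCoh_restrict hG.1 U.ι, M1.isFT_restrict hG.2 U.ι⟩
    change Coh.IsCoh (((ihom F').rightDerived (i + 1)).obj G')
    haveI := hPres.1
    obtain ⟨e₀⟩ := M1.nonempty_fr_freeMod (U : Scheme.{u}) Pres.generators.I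
    let p : FlatMod.freeMod (U : Scheme.{u}) (Nat.card Pres.generators.I) ⟶ F' :=
      e₀.inv ≫ Pres.generators.π
    haveI : Epi p := @epi_comp _ _ _ _ _ _ inferInstance _ Pres.generators.epi
    have hfree : Coh.IsCoh (FlatMod.freeMod (U : Scheme.{u}) (Nat.card Pres.generators.I)) :=
      isCoh_of_iso e₀ ⟨M1.isQCoh_fr _ _, M1.isFT_fr _ _⟩
    let S : ShortComplex (U : Scheme.{u}).Modules := ShortComplex.mk (kernel.ι p) p (kernel.condition p)
    have hS : S.ShortExact := ShortComplex.ShortExact.mk' (ShortComplex.exact_kernel p) inferInstance inferInstance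
    have hK : Coh.IsCoh S.X₁ := M1.isCoh_kernel hfree hF'.1 p
    let δ := (RDSeq.delta (ihomNat S.g) (ihomNat S.f) (ihomNat_zero S) (shortExact_ihom_of_injective hS) i).app G'
    have hP : ∀ j, IsZero (((ihom S.X₂).rightDerived (j + 1)).obj G') := fun j => homExact_freeMod _ j G'
    haveI : Epi δ := RDSeq.epi_delta_app _ _ _ _ i G' (hP i)
    rcases i with - | i
    · refine isCoh_of_iso ((colimit.isColimit _).coconePointUniqueUpToIso
        (RDSeq.exact_rightDerived_delta (ihomNat S.g) (ihomNat S.f) (ihomNat_zero S)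
          (shortExact_ihom_of_injective hS) 0 G').gIsCokernel) ?_
      exact M1.isCoh_cokernel (ih S.X₂ G' hfree hG').1 (ih S.X₁ G' hK hG') _
    · haveI := RDSeq.isIso_delta_app (ihomNat S.g) (ihomNat S.f) (ihomNat_zero S)
        (shortExact_ihom_of_injective hS) (i + 1) G' (hP i) (hP (i + 1))
      exact isCoh_of_iso (asIso δ) (ih S.X₁ G' hK hG')

end Groth.Agent.CohMop
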