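import Groth.Agent.Lib.CohMop.RelExtCoh
import Groth.Agent.Lib.CohMop.ExtResolution

/-!
# Relative Ext sheaves in the first variable
-/

set_option autoImplicit false
set_option linter.style.haveILetI false
set_option linter.unusedSectionVars false
set_option backward.isDefEq.respectTransparency false
set_option backward.isDefEq.respectTransparency.types false

universe v v' u u'

open CategoryTheory CategoryTheory.Limits AlgebraicGeometry

namespace Groth.Agent.RDSeq

variable {C : Type u} [Category.{v} C] [Abelian C] [EnoughInjectives C]
  {D : Type u'} [Category.{v'} D] [Abelian D]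
  {K F G : C ⥤ D} [K.Additive] [F.Additive] [G.Additive]
  (ι : K ⟶ F) (π : F ⟶ G) (w : ∀ X, ι.app X ≫ π.app X = 0)
  (hI : ∀ I : C, Injective I → (ShortComplex.mk (ι.app I) (π.app I) (w I)).ShortExact)

include w in
theorem rightDerived_comp_zero (i : ℕ) (X : C) :
    (NatTrans.rightDerived ι i).app X ≫ (NatTrans.rightDerived π i).app X = 0 := by
  rw [← NatTrans.comp_app, ← NatTrans.rightDerived_comp, (injectiveResolution X).rightDerived_app_eq]
  have h' : (NatTrans.mapHomologicalComplex (ι ≫ π) (ComplexShape.up ℕ)).app (injectiveResolution X).cocomplex = 0 := by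
    ext n
    exact w _
  rw [h']
  simp

include hI in
theorem exact_rightDerived_mid (i : ℕ) (X : C) :
    (ShortComplex.mk _ _ (rightDerived_comp_zero ι π w i X)).Exact := by
  refine ShortComplex.exact_of_iso (ShortComplex.isoMk
    ((injectiveResolution X).isoRightDerivedObj K i).symm
    ((injectiveResolution X).isoRightDerivedObj F i).symm
    ((injectiveResolution X).isoRightDerivedObj G i).symm ?_ ?_)
    ((cxSeq_shortExact ι π w hI _ (injectiveResolution X).injective).homology_exact₂ i)
  · dsimp
    rw [(injectiveResolution X).rightDerived_app_eq]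
    exact inv_hom_cancel _ _
  · dsimp
    rw [(injectiveResolution X).rightDerived_app_eq]
    exact inv_hom_cancel _ _

theorem delta_comp_rightDerived (i : ℕ) (X : C) :
    (delta ι π w hI i).app X ≫ (NatTrans.rightDerived ι (i + 1)).app X = 0 := by
  rw [(injectiveResolution X).rightDerived_app_eq]
  simp only [delta, Category.assoc, Iso.inv_hom_id_assoc]
  refine (congrArg (_ ≫ ·) ((Category.assoc _ _ _).symm.trans (congrArg (· ≫ _)
    ((cxSeq_shortExact ι π w hI _ (injectiveResolution X).injective).δ_comp i (i + 1) rfl)))).trans ?_
  rw [zero_comp]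
  exact comp_zero

theorem exact_delta_rightDerived (i : ℕ) (X : C) :
    (ShortComplex.mk _ _ (delta_comp_rightDerived ι π w hI i X)).Exact := by
  refine ShortComplex.exact_of_iso (ShortComplex.isoMk
    ((injectiveResolution X).isoRightDerivedObj G i).symm
    ((injectiveResolution X).isoRightDerivedObj K (i + 1)).symm
    ((injectiveResolution X).isoRightDerivedObj F (i + 1)).symm ?_ ?_)
    ((cxSeq_shortExact ι π w hI _ (injectiveResolution X).injective).homology_exact₁ i (i + 1) rfl)
  · exact inv_hom_cancel _ _
  · dsimp
    rw [(injectiveResolution X).rightDerived_app_eq]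
    exact inv_hom_cancel _ _

end Groth.Agent.RDSeq

namespace Groth.Agent.CohMop

open Groth.Agent KFlat KFlat.Sch

variable {X Y : Scheme.{u}} (f : X ⟶ Y)

/-- `f_* ℋom(M, -)`. -/
noncomputable abbrev phom (M : X.Modules) : X.Modules ⥤ Y.Modules := ihom M ⋙ Scheme.Modules.pushforward f

/-- Contravariant functoriality. -/
noncomputable abbrev phomNat {A B : X.Modules} (a : A ⟶ B) : phom f B ⟶ phom f A :=
  Functor.whiskerRight (ihomNat a) (Scheme.Modules.pushforward f)

theorem phomNat_zero (S : ShortComplex X.Modules) (G : X.Modules) :
    (phomNat f S.g).app G ≫ (phomNat f S.f).app G = 0 := by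
  change (Scheme.Modules.pushforward f).map _ ≫ (Scheme.Modules.pushforward f).map _ = 0
  rw [← Functor.map_comp, ihomNat_zero, Functor.map_zero]

instance preservesFiniteLimits_push : PreservesFiniteLimits (Scheme.Modules.pushforward f) :=
  haveI : PreservesLimitsOfSize.{0, 0} (Scheme.Modules.pushforward f) :=
    (Scheme.Modules.pullbackPushforwardAdjunction f).rightAdjoint_preservesLimits
  PreservesLimitsOfSize.preservesFiniteLimits _

attribute [local instance] HasDerivedCategory.standard in
theorem shortExact_phom_of_injective {S : ShortComplex X.Modules} (hS : S.ShortExact) (I : X.Modules)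
    (hI : Injective I) :
    (ShortComplex.mk ((phomNat f S.g).app I) ((phomNat f S.f).app I) (phomNat_zero f S I)).ShortExact :=
  RFPlus.shortExact_map_of_isZero (Scheme.Modules.pushforward f) _ (shortExact_ihom_of_injective hS I hI)
    (isAcyclicObj_push_ihom f S.X₃ I 1 Nat.one_pos)

end Groth.Agent.CohMop
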