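import Groth.Agent.Lib.CohMop.Bidual
import Groth.Agent.Lib.CohMop.RelExtSeq

/-!
# Derived functors and tensoring with finite locally free modules
-/

set_option autoImplicit false
set_option linter.style.haveILetI false
set_option linter.unusedSectionVars false
set_option backward.isDefEq.respectTransparency false
set_option backward.isDefEq.respectTransparency.types false

universe u

open CategoryTheory CategoryTheory.Limits AlgebraicGeometry MonoidalCategory

noncomputable section

namespace Groth.Agent.CohMop

open Groth.Agent KFlat KFlat.Sch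
open scoped Groth.Agent.DMon9

variable {X Y : Scheme.{u}}

theorem preservesInjective_ihom {E : X.Modules} (hE : FlatMod.IsFinLocFree E) : (ihom E).PreservesInjectiveObjects :=
  haveI : (tenR E).PreservesMonomorphisms := ((isFlat_iff E).2 (isFlat_of_isFinLocFree hE)).right
  Functor.preservesInjectiveObjects_of_adjunction_of_preservesMonomorphisms (ihomAdj E)

attribute [local instance] HasDerivedCategory.standard in
theorem preservesHomology_ihom {E : X.Modules} (hE : FlatMod.IsFinLocFree E) :
    haveI := additive_ihom E
    (ihom E).PreservesHomology := by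
  haveI := additive_ihom E
  haveI : PreservesFiniteLimits (ihom E) := PreservesLimitsOfSize.preservesFiniteLimits _
  refine Functor.preservesHomology_of_map_exact _ ((Functor.exact_tfae (ihom E)).out 0 1 |>.1 fun S hS => ?_)
  exact RFPlus.shortExact_map_of_isZero (ihom E) S hS (homExact_of_isFinLocFree hE 0 S.X₁)

theorem preservesHomology_tenR {E : X.Modules} (hE : FlatMod.IsFinLocFree E) : (tenR E).PreservesHomology := by
  haveI := additive_ihom (dual E)
  haveI := preservesHomology_ihom (isFinLocFree_dual hE)
  haveI : PreservesFiniteLimits (ihom (dual E)) := PreservesLimitsOfSize.preservesFiniteLimits _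
  haveI : PreservesFiniteColimits (ihom (dual E)) := Functor.preservesFiniteColimits_of_preservesHomology _
  haveI : PreservesFiniteLimits (tenR E) := preservesFiniteLimits_of_natIso (tenRIhomIso E hE).symm
  haveI : PreservesFiniteColimits (tenR E) := preservesFiniteColimits_of_natIso (tenRIhomIso E hE).symm
  infer_instance

theorem preservesInjective_tenR {E : X.Modules} (hE : FlatMod.IsFinLocFree E) : (tenR E).PreservesInjectiveObjects :=
  ⟨fun {I} hI => by
    haveI := preservesInjective_ihom (isFinLocFree_dual hE)
    haveI := hI
    haveI : Injective ((ihom (dual E)).obj I) := (ihom (dual E)).injective_obj_of_injective hI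
    exact Injective.of_iso ((tenRIhomIso E hE).app I).symm inferInstance⟩

/-- Derived functors of isomorphic functors. -/
def rdMapIso {F G : X.Modules ⥤ Y.Modules} [F.Additive] [G.Additive] (θ : F ≅ G) (p : ℕ) :
    F.rightDerived p ≅ G.rightDerived p where
  hom := NatTrans.rightDerived θ.hom p
  inv := NatTrans.rightDerived θ.inv p
  hom_inv_id := by rw [← NatTrans.rightDerived_comp, Iso.hom_inv_id, NatTrans.rightDerived_id]
  inv_hom_id := by rw [← NatTrans.rightDerived_comp, Iso.inv_hom_id, NatTrans.rightDerived_id]

/-- Internal homs out of finite locally free modules commute with all internal homs. -/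
def ihomCommIso (D F : X.Modules) : ihom D ⋙ ihom F ≅ ihom F ⋙ ihom D :=
  ((ihomAdj F).comp (ihomAdj D)).rightAdjointUniq
    (((ihomAdj D).comp (ihomAdj F)).ofNatIsoLeft
      ((MonoidalCategory.tensorRightTensor D F).symm ≪≫ (TX X).flip.mapIso (M2.tensorComm D F) ≪≫
        MonoidalCategory.tensorRightTensor F D))

/-- Tensoring with a finite locally free module commutes with internal homs. -/
def tenRIhomCommIso (E : X.Modules) (hE : FlatMod.IsFinLocFree E) (F : X.Modules) :
    tenR E ⋙ ihom F ≅ ihom F ⋙ tenR E :=
  Functor.isoWhiskerRight (tenRIhomIso E hE) _ ≪≫ ihomCommIso (dual E) F ≪≫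
    Functor.isoWhiskerLeft _ (tenRIhomIso E hE).symm

/-- `- ⊗ (F ⊗ L) ≅ (- ⊗ F) ⊗ L`. -/
def tensorTenIso (F L : X.Modules) : tenR (CohB1.tensorMod F L) ≅ tenR F ⋙ tenR L :=
  MonoidalCategory.tensorRightTensor F L

/-- A derived projection formula. -/
theorem nonempty_rightDerived_tenR (T : X.Modules ⥤ Y.Modules) [T.Additive] {M : X.Modules}
    (hM : FlatMod.IsFinLocFree M) {N : Y.Modules} (hN : FlatMod.IsFinLocFree N) (θ : tenR M ⋙ T ≅ T ⋙ tenR N)
    (p : ℕ) (H : X.Modules) :
    Nonempty ((T.rightDerived p).obj ((tenR M).obj H) ≅ (tenR N).obj ((T.rightDerived p).obj H)) := by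
  haveI := preservesHomology_tenR hM
  haveI := preservesHomology_tenR hN
  haveI := preservesInjective_tenR hM
  exact ⟨((RDComp.rightDerivedCompIso (tenR M) T p).app H).symm ≪≫ (rdMapIso θ p).app H ≪≫
    (RDComp.rightDerivedPostIso T (tenR N) p).app H⟩

end Groth.Agent.CohMop
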