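import Groth.Agent.Lib.RelPCS8.Push
import Groth.Agent.Lib.RDComp.Acyclic
import Groth.Agent.Lib.ExtSupp8.AcyclicClass
import Groth.Agent.Lib.CohFound.ModFlasque
import Groth.Agent.Lib.CohFound.RpushCoh
import Groth.Agent.Lib.PropSuppH7.Basic
import Groth.Agent.Lib.CohMop.TensorDerived

/-!
# Higher direct images of modules with proper support
-/

set_option autoImplicit false
set_option linter.style.haveILetI false
set_option backward.isDefEq.respectTransparency false
set_option backward.isDefEq.respectTransparency.types false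

universe u

open CategoryTheory CategoryTheory.Limits AlgebraicGeometry TopologicalSpace Opposite

namespace Groth.Agent.CohMop

open Groth.Agent CohFound

variable {X Y : Scheme.{u}}

/-- Direct images of injectives are acyclic for further direct images. -/
theorem isAcyclicObj_push_push {Z : Scheme.{u}} (i : Z ⟶ X) (f : X ⟶ Y) (I : Z.Modules) [Injective I]
    [(Scheme.Modules.pushforward f).Additive] :
    RFPlus.IsAcyclicObj (Scheme.Modules.pushforward f) ((Scheme.Modules.pushforward i).obj I) := by
  haveI : PreservesFiniteLimits (Scheme.Modules.pushforward f) :=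
    haveI := (Scheme.Modules.pullbackPushforwardAdjunction f).rightAdjoint_preservesLimits
    inferInstance
  refine ExtSupp8.isAcyclicObj_of_class (Scheme.Modules.pushforward f)
    (fun M => TopCat.Sheaf.IsFlasque ((abF X).obj M)) (fun J hJ => @isFlasque_abF_injective X J hJ)
    (fun S hS h₁ h₂ => ?_) _ ?_
  · haveI := h₁
    haveI := h₂
    have hS' : (S.map (abF X)).ShortExact := hS.map_of_exact _
    haveI : TopCat.Sheaf.IsFlasque (S.map (abF X)).X₁ := h₁
    haveI : TopCat.Sheaf.IsFlasque (S.map (abF X)).X₂ := h₂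
    refine ⟨TopCat.Sheaf.IsFlasque.of_shortExact_of_isFlasque₁₂ hS', ?_⟩
    refine (M1.epi_iff_locally_surjective _).2 fun V t y hy => ?_
    obtain ⟨s, hs⟩ := (AddCommGrpCat.epi_iff_surjective _).1
      (TopCat.Sheaf.IsFlasque.epi_of_shortExact (U := f ⁻¹ᵁ V) hS') t
    exact ⟨V, le_rfl, hy, s, hs.trans (M1.mres_id _ le_rfl t).symm⟩
  · haveI := isFlasque_abF_injective (X := Z) I
    exact TopCat.Sheaf.IsFlasque.pushforward_isFlasque ((abF Z).obj I) i.base

/-- `R^p f_*(i_* N) ≅ R^p (f ∘ i)_* N` for a closed immersion `i`. -/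
theorem nonempty_rpush_push_iso {Z : Scheme.{u}} (i : Z ⟶ X) [IsClosedImmersion i] (f : X ⟶ Y)
    [HasInjectiveResolutions X.Modules] (N : Z.Modules) (p : ℕ) :
    Nonempty ((Coh.Rpush f p).obj ((Scheme.Modules.pushforward i).obj N) ≅ (Coh.Rpush (i ≫ f) p).obj N) := by
  haveI := RelPCS8.preservesHomology_push i
  haveI : PreservesFiniteLimits (Scheme.Modules.pushforward f) :=
    haveI := (Scheme.Modules.pullbackPushforwardAdjunction f).rightAdjoint_preservesLimits
    inferInstance
  obtain ⟨e⟩ := RDComp.nonempty_rightDerivedAcyclicIso (Scheme.Modules.pushforward i)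
    (Scheme.Modules.pushforward f) (fun I hI => isAcyclicObj_push_push i f I) p
  exact ⟨(e.app N).symm ≪≫ (rdMapIso (Scheme.Modules.pushforwardComp i f) p).app N⟩

/-- Coherence of higher direct images for proper support. -/
theorem isCoh_rpush_of_properSupport {S : Scheme.{u}} (f : X ⟶ S) [LocallyOfFiniteType f] [IsLocallyNoetherian S]
    [HasInjectiveResolutions X.Modules] {F : X.Modules} (hF : Coh.IsCoh F)
    (hs : ClSub.IsProperOver f (CohB1.support F)) (p : ℕ) : Coh.IsCoh ((Coh.Rpush f p).obj F) := by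
  obtain ⟨Z, i, hi, hp, -, N, hN, hNT, ⟨e⟩⟩ := PropSuppH7.exists_model f hF.1 hF.2 hs
  haveI : HasInjectiveResolutions Z.Modules := inferInstance
  obtain ⟨e'⟩ := nonempty_rpush_push_iso i f N p
  let e'' := ((Coh.Rpush f p).mapIso e).symm ≪≫ e'
  have h := CohFound.isCoh_rpush (i ≫ f) (⟨hN, hNT⟩ : Coh.IsCoh N) p
  exact ⟨M1.isQCoh_of_isIso e''.symm h.1, M1.isFT_of_isIso e''.symm h.2⟩

end Groth.Agent.CohMop
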