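import Groth.Agent.Lib.QCoh8.FP
import Groth.Agent.Lib.CohFound.Colim
import Groth.Agent.Lib.CohFound.HHBridge
import Groth.Agent.Lib.CohFound.ModAb

/-!
# Cohomology of quasi-coherent modules from cohomology of coherent ones
-/

set_option autoImplicit false
set_option linter.style.haveILetI false
set_option backward.isDefEq.respectTransparency false
set_option backward.isDefEq.respectTransparency.types false

universe u

open CategoryTheory CategoryTheory.Limits AlgebraicGeometry TopologicalSpace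

namespace Groth.Agent.CohMop

open Groth.Agent QCoh8

variable {X : Scheme.{u}} (G : QCohCat.QCoh X)

/-- The diagram of finite type quasi-coherent submodules. -/
noncomputable def ftOver : StageFT G ⥤ MonoOver G.obj where
  obj a := MonoOver.mk (toSub a.sub.1).i
  map {a b} h := MonoOver.homMk
    (show (toSub a.sub.1).P ⟶ (toSub b.sub.1).P from
      (QCohCat.isQCoh X).ι.map (Subobject.ofLE a.sub.1 b.sub.1 (show a.sub.1 ≤ b.sub.1 from (leOfHom h : a ≤ b))))
    (((QCohCat.isQCoh X).ι.map_comp _ _).symm.trans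
      (congrArg (QCohCat.isQCoh X).ι.map (Subobject.ofLE_arrow (show a.sub.1 ≤ b.sub.1 from (leOfHom h : a ≤ b)))))
  map_id _ := Subsingleton.elim _ _
  map_comp _ _ := Subsingleton.elim _ _

/-- The diagram of finite type quasi-coherent submodules in all modules. -/
noncomputable abbrev ftDiag : StageFT G ⥤ X.Modules := ftOver G ⋙ MonoOver.forget G.obj ⋙ Over.forget G.obj

/-- The tautological cocone. -/
noncomputable def ftCocone : Cocone (ftDiag G) :=
  Cocone.mk G.obj { app := fun a => ((ftOver G).obj a).obj.hom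
                    naturality := fun a b h => (MonoOver.w ((ftOver G).map h)).trans (Category.comp_id _).symm }

theorem hft (p : M1.Sub G.obj) (hp : Coh.IsQCoh p.P) (hp' : CohB1.IsFT p.P) :
    CohB1.IsFT (toSub (ofSub p hp)).P := by
  obtain ⟨e, -⟩ := M1.Sub.exists_iso (toSub (ofSub p hp)) p (mem_ofSub p hp)
  exact M1.isFT_of_isIso e.symm hp'

variable [CompactSpace X] [QuasiSeparatedSpace X]

theorem exists_stage {U : X.Opens} (hU : IsCompact (U : Set X)) (s : Γ(G.obj, U)) :
    ∃ a : StageFT G, (toSub a.sub.1).mem U s := by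
  obtain ⟨q, hq, hq', hs⟩ := exists_ft_mem G.property hU s
  refine ⟨StageFT.of ⟨ofSub q hq, hft G q hq hq'⟩, ?_⟩
  rw [StageFT.sub_of]
  exact (mem_ofSub q hq _ s).2 hs

theorem nonempty_stageFT : Nonempty (StageFT G) :=
  let ⟨a, _⟩ := exists_stage G (U := ⊤) isCompact_univ 0
  ⟨a⟩

theorem directed_stageFT : IsDirectedOrder (StageFT G) := ⟨fun a b => by
  obtain ⟨r, hr, hr', ha, hb⟩ := exists_sup G.property (toSub a.sub.1) (toSub b.sub.1)
    (isQCoh_toSub _) a.sub.2 (isQCoh_toSub _) b.sub.2
  refine ⟨StageFT.of ⟨ofSub r hr, hft G r hr hr'⟩, ?_, ?_⟩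
  · change a.sub.1 ≤ (StageFT.of _).sub.1
    rw [StageFT.sub_of]
    exact le_of_toSub fun U s hs => (mem_ofSub r hr U s).2 (ha U s hs)
  · change b.sub.1 ≤ (StageFT.of _).sub.1
    rw [StageFT.sub_of]
    exact le_of_toSub fun U s hs => (mem_ofSub r hr U s).2 (hb U s hs)⟩

/-- A quasi-coherent module is the colimit of its finite type quasi-coherent submodules. -/
theorem nonempty_isColimit_ftCocone : Nonempty (IsColimit (ftCocone G)) := by
  haveI := nonempty_stageFT G
  haveI := directed_stageFT G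
  let π := colimit.desc (ftDiag G) (ftCocone G)
  have hπ : ∀ a, colimit.ι (ftDiag G) a ≫ π = ((ftOver G).obj a).obj.hom := fun a =>
    colimit.ι_desc (ftCocone G) a
  haveI : Mono π :=
    IsGrothendieckAbelian.mono_of_isColimit_monoOver (ftOver G) (colimit.isColimit (ftDiag G)) π hπ
  haveI : Epi π := (M1.epi_iff_stalk π).2 fun x b => by
    obtain ⟨W, hxW, s₀, rfl⟩ := G.obj.presheaf.exists_germ_eq b
    obtain ⟨U, hU, hxU, hUW⟩ := exists_isAffineOpen_mem_and_subset hxW
    obtain ⟨a, t₀, ht⟩ := exists_stage G hU.isCompact (M1.mres G.obj hUW s₀)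
    let t : Γ((ftDiag G).obj a, U) := t₀
    refine ⟨(colimit (ftDiag G)).presheaf.germ U x hxU ((colimit.ι (ftDiag G) a).app U t), ?_⟩
    have h1 : π.app U ((colimit.ι (ftDiag G) a).app U t) = M1.mres G.obj hUW s₀ :=
      (congrArg (fun φ : (ftDiag G).obj a ⟶ G.obj => φ.app U t) (hπ a)).trans ht
    refine (M1.germ_naturality π U x hxU _).trans ?_
    rw [h1]
    exact M1.germ_mres G.obj hUW hxU s₀
  haveI : IsIso π := isIso_of_mono_of_epi π
  haveI : IsIso ((colimit.isColimit (ftDiag G)).desc (ftCocone G)) := ‹IsIso π›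
  exact ⟨IsColimit.ofPointIso (colimit.isColimit (ftDiag G))⟩

/-- Vanishing for quasi-coherent modules from vanishing for the finite type ones. -/
theorem subsingleton_HH_of_ft (i : ℕ)
    (h : ∀ F : X.Modules, Coh.IsQCoh F → CohB1.IsFT F → Subsingleton (Coh.HH X F i)) :
    Subsingleton (Coh.HH X G.obj i) := by
  haveI := nonempty_stageFT G
  haveI := directed_stageFT G
  obtain ⟨hc⟩ := nonempty_isColimit_ftCocone G
  let hc' := isColimitOfPreserves (CohFound.abF X) hc
  let e := (colimit.isColimit (ftDiag G ⋙ CohFound.abF X)).coconePointUniqueUpToIso hc'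
  rw [CohFound.subsingleton_HH_iff]
  refine subsingleton_of_forall_eq 0 fun ξ => ?_
  obtain ⟨a, η, hη⟩ := (CohFound.colim_hc i (ftDiag G ⋙ CohFound.abF X) ⊤ isCompact_univ
    (isQuasiSeparated_univ_iff.2 inferInstance)).1 (CohFound.mp e.inv i ⊤ ξ)
  have ha := h ((ftDiag G).obj a) (isQCoh_toSub _) a.sub.2
  rw [CohFound.subsingleton_HH_iff] at ha
  haveI := ha
  have hη0 : η = 0 := @Subsingleton.elim _ ha _ _
  have h2 : CohFound.mp e.inv i ⊤ ξ = 0 := by rw [← hη, hη0, map_zero]
  have h3 := congrArg (CohFound.mp e.hom i ⊤) h2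
  rw [← CohFound.mp_comp, e.inv_hom_id, CohFound.mp_id, map_zero] at h3
  exact h3

end Groth.Agent.CohMop
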