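import Groth.Agent.Lib.RHom.PCoh
import Groth.Agent.Lib.RHom.Proj
import Groth.Agent.Lib.RHom.Devissage
import Groth.Agent.Lib.KFlat.Symm
import Groth.Agent.Lib.KFlat.Scheme
import Groth.Agent.Lib.ModM1.LocFree
import Groth.Agent.Lib.CohFound.ModulesInst
import Groth.Agent.Lib.ModM1.FibreProd
import Groth.Agent.Lib.ModM1.Coh

/-!
# Internal homs of coherent modules are coherent
-/

set_option autoImplicit false
set_option linter.style.haveILetI false
set_option linter.unusedSectionVars false
set_option backward.isDefEq.respectTransparency false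
set_option backward.isDefEq.respectTransparency.types false

universe u

open CategoryTheory CategoryTheory.Limits AlgebraicGeometry

namespace Groth.Agent.CohMop

open Groth.Agent KFlat KFlat.Sch

variable {X : Scheme.{u}}

/-- Tensor with a fixed module on the right. -/
noncomputable abbrev tenR (M : X.Modules) : X.Modules ⥤ X.Modules := (TX X).flip.obj M

theorem isLeftAdjoint_tenR (M : X.Modules) : (tenR M).IsLeftAdjoint := by
  haveI : PreservesColimitsOfSize.{u, u} (tenR M) :=
    ⟨KFlat.Site.preservesColimitsOfShape_flip_obj (O := X.sheaf) M⟩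
  haveI : WellPowered.{u} X.Modules := inferInstance
  haveI : WellPowered.{u} (X.Modules)ᵒᵖ := CategoryTheory.Abelian.wellPowered_opposite
  exact isLeftAdjoint_of_preservesColimits_of_isSeparating (isSeparator_separator X.Modules) (tenR M)

instance (M : X.Modules) : (tenR M).IsLeftAdjoint := isLeftAdjoint_tenR M

/-- The internal hom out of `M`. -/
noncomputable def ihom (M : X.Modules) : X.Modules ⥤ X.Modules := (tenR M).rightAdjoint

/-- The defining adjunction. -/
noncomputable def ihomAdj (M : X.Modules) : tenR M ⊣ ihom M := Adjunction.ofIsLeftAdjoint _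

/-- Contravariant functoriality. -/
noncomputable def ihomMap {A B : X.Modules} (f : A ⟶ B) (G : X.Modules) : (ihom B).obj G ⟶ (ihom A).obj G :=
  (ihomAdj A).homEquiv _ _ (((TX X).obj ((ihom B).obj G)).map f ≫ (ihomAdj B).counit.app G)

theorem comp_ihomMap {A B : X.Modules} (f : A ⟶ B) (G : X.Modules) {W : X.Modules} (k : W ⟶ (ihom B).obj G) :
    k ≫ ihomMap f G = (ihomAdj A).homEquiv W G (((TX X).obj W).map f ≫ ((ihomAdj B).homEquiv W G).symm k) := by
  rw [ihomMap, ← Adjunction.homEquiv_naturality_left, Adjunction.homEquiv_counit, ← Category.assoc,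
    ← Category.assoc]
  congr 2
  exact ((TX X).map k).naturality f |>.symm

theorem ihomMap_id (A : X.Modules) (G : X.Modules) : ihomMap (𝟙 A) G = 𝟙 _ := by
  have h := comp_ihomMap (𝟙 A) G (𝟙 ((ihom A).obj G))
  rw [Category.id_comp] at h
  rw [h, CategoryTheory.Functor.map_id]
  exact (congrArg _ (Category.id_comp _)).trans (Equiv.apply_symm_apply _ _)

theorem ihomMap_comp {A B D : X.Modules} (f : A ⟶ B) (g : B ⟶ D) (G : X.Modules) :
    ihomMap g G ≫ ihomMap f G = ihomMap (f ≫ g) G := by
  have h := comp_ihomMap f G (ihomMap g G)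
  rw [h]
  have h' := comp_ihomMap g G (𝟙 ((ihom D).obj G))
  rw [Category.id_comp] at h'
  have h'' := comp_ihomMap (f ≫ g) G (𝟙 ((ihom D).obj G))
  rw [Category.id_comp] at h''
  rw [h', h'', Equiv.symm_apply_apply, Functor.map_comp, Category.assoc]

theorem ihomMap_zero (A B : X.Modules) (G : X.Modules) : ihomMap (0 : A ⟶ B) G = 0 := by
  haveI : ((TX X).obj ((ihom B).obj G)).Additive := inferInstance
  haveI : (tenR A).Additive := inferInstance
  haveI : (ihom A).Additive := (ihomAdj A).right_adjoint_additive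
  rw [ihomMap, Functor.map_zero, zero_comp, Adjunction.homEquiv_unit, Functor.map_zero, comp_zero]

/-- `Hom(-, G)` turns cokernels into kernels. -/
theorem nonempty_isLimit_ihom {A B : X.Modules} (a : A ⟶ B) (G : X.Modules) :
    ∃ h : ihomMap (cokernel.π a) G ≫ ihomMap a G = 0,
      Nonempty (IsLimit (KernelFork.ofι (ihomMap (cokernel.π a) G) h)) := by
  have h : ihomMap (cokernel.π a) G ≫ ihomMap a G = 0 := by
    rw [ihomMap_comp, cokernel.condition, ihomMap_zero]
  haveI := fun W : X.Modules => (KFlat.Site.preservesColimits_obj (O := X.sheaf) W :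
    PreservesColimitsOfSize.{0, 0} ((TX X).obj W))
  haveI := fun W : X.Modules => (PreservesColimitsOfSize.preservesFiniteColimits ((TX X).obj W) :
    PreservesFiniteColimits ((TX X).obj W))
  have key : ∀ (W : X.Modules) (k : W ⟶ (ihom B).obj G), k ≫ ihomMap a G = 0 →
      ((TX X).obj W).map a ≫ ((ihomAdj B).homEquiv W G).symm k = 0 := fun W k hk => by
    haveI : (ihom A).Additive := (ihomAdj A).right_adjoint_additive
    rw [comp_ihomMap] at hk
    apply ((ihomAdj A).homEquiv W G).injective
    rw [hk, Adjunction.homEquiv_unit, Functor.map_zero, comp_zero]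
  have hcol : ∀ W : X.Modules, IsColimit (CokernelCofork.ofπ (((TX X).obj W).map (cokernel.π a))
      (by rw [← Functor.map_comp, cokernel.condition, Functor.map_zero]) :
      CokernelCofork (((TX X).obj W).map a)) := fun W =>
    CokernelCofork.mapIsColimit _ (cokernelIsCokernel a) ((TX X).obj W)
  refine ⟨h, ⟨KernelFork.IsLimit.ofι _ _ (fun {W} k hk =>
    (ihomAdj (cokernel a)).homEquiv W G
      ((hcol W).desc (CokernelCofork.ofπ _ (key W k hk)))) (fun {W} k hk => ?_) fun {W} k hk m hm => ?_⟩⟩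
  · rw [comp_ihomMap, Equiv.symm_apply_apply]
    refine Eq.trans (congrArg _ ?_) (Equiv.apply_symm_apply ((ihomAdj B).homEquiv W G) k)
    exact (hcol W).fac _ WalkingParallelPair.one
  · rw [comp_ihomMap] at hm
    refine Eq.trans (Equiv.apply_symm_apply ((ihomAdj (cokernel a)).homEquiv W G) m).symm (congrArg _ ?_)
    refine Cofork.IsColimit.hom_ext (hcol W) ?_
    refine Eq.trans ?_ ((hcol W).fac (CokernelCofork.ofπ _ (key W k hk)) WalkingParallelPair.one).symm
    exact ((Equiv.symm_apply_eq _).2 hm.symm).symm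

/-- Coherence of all internal homs into coherent modules. -/
def HomCoh (M : X.Modules) : Prop := ∀ G : X.Modules, Coh.IsCoh G → Coh.IsCoh ((ihom M).obj G)

/-- An isomorphism gives an isomorphism of internal homs. -/
noncomputable def ihomIso {A B : X.Modules} (e : A ≅ B) : ihom A ≅ ihom B :=
  (ihomAdj A).rightAdjointUniq ((ihomAdj B).ofNatIsoLeft ((TX X).flip.mapIso e).symm)

theorem isCoh_of_iso {A B : X.Modules} (e : A ≅ B) (h : Coh.IsCoh A) : Coh.IsCoh B :=
  ⟨M1.isQCoh_of_isIso e h.1, M1.isFT_of_isIso e h.2⟩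

theorem HomCoh.iso {A B : X.Modules} (e : A ≅ B) (h : HomCoh A) : HomCoh B :=
  fun G hG => isCoh_of_iso ((ihomIso e).app G) (h G hG)

theorem homCoh_structureModule : HomCoh (Coh.structureModule X) := fun G hG =>
  isCoh_of_iso
    ((((ihomAdj _).rightAdjointUniq (Adjunction.id.ofNatIsoLeft RHom.unitorNatIso.symm)).app G).symm) hG

variable [IsLocallyNoetherian X]

theorem HomCoh.cokernel {A B : X.Modules} (a : A ⟶ B) (hA : HomCoh A) (hB : HomCoh B) :
    HomCoh (cokernel a) := fun G hG => by
  obtain ⟨h, ⟨hl⟩⟩ := nonempty_isLimit_ihom a G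
  exact isCoh_of_iso ((limit.isLimit _).conePointUniqueUpToIso hl)
    (M1.isCoh_kernel (hB G hG) (hA G hG).1 (ihomMap a G))

theorem HomCoh.biprod {A B : X.Modules} (hA : HomCoh A) (hB : HomCoh B) : HomCoh (A ⊞ B) := fun G hG => by
  let f := ihomMap (biprod.inl : A ⟶ A ⊞ B) G
  let f' := ihomMap (biprod.inr : B ⟶ A ⊞ B) G
  have hfg : ihomMap (biprod.fst : A ⊞ B ⟶ A) G ≫ f = 𝟙 _ := by rw [ihomMap_comp, biprod.inl_fst, ihomMap_id]
  obtain ⟨h, ⟨hl⟩⟩ := nonempty_isLimit_ihom (biprod.inl : A ⟶ A ⊞ B) G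
  have hB' : HomCoh (Limits.cokernel (biprod.inl : A ⟶ A ⊞ B)) :=
    hB.iso (Limits.cokernelBiprodInlIso (X := A) (Y := B)).symm
  haveI : IsSplitEpi f := IsSplitEpi.mk' ⟨_, hfg⟩
  haveI : Mono (ihomMap (cokernel.π (biprod.inl : A ⟶ A ⊞ B)) G) := mono_of_isLimit_fork hl
  have hS : (ShortComplex.mk _ f h).ShortExact :=
    ShortComplex.ShortExact.mk' ((ShortComplex.mk _ f h).exact_of_f_is_kernel hl) inferInstance inferInstance
  exact RHom.isCoh_of_shortExact hS (hB' G hG) (hA G hG)

theorem homCoh_freeMod : ∀ n : ℕ, HomCoh (FlatMod.freeMod X n)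
  | 0 => (HomCoh.cokernel (𝟙 (Coh.structureModule X)) homCoh_structureModule homCoh_structureModule).iso
      ((isZero_cokernel_of_epi _).iso (by rw [IsZero.iff_id_eq_zero]; exact Sigma.hom_ext _ _ fun i => i.elim0))
  | n + 1 => ((homCoh_freeMod n).biprod homCoh_structureModule).iso (RHom.freeSuccIso n)

/-- Modules with a finite presentation. -/
theorem homCoh_of_presentation {F : X.Modules} (P : SheafOfModules.Presentation F) (hP : M1.FinPres P) :
    HomCoh F := by
  haveI := hP.1
  haveI := hP.2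
  obtain ⟨e₀⟩ := M1.nonempty_fr_freeMod X P.generators.I
  obtain ⟨e₁⟩ := M1.nonempty_fr_freeMod X P.relations.I
  let p : M1.fr P.generators.I ⟶ F := P.generators.π
  haveI : Epi p := P.generators.epi
  let q : M1.fr P.relations.I ⟶ kernel p := P.relations.π
  haveI : Epi q := P.relations.epi
  refine (HomCoh.cokernel (q ≫ kernel.ι p) ((homCoh_freeMod _).iso e₁.symm) ((homCoh_freeMod _).iso e₀.symm)).iso ?_
  exact cokernelEpiComp q (kernel.ι p) ≪≫
    (colimit.isColimit _).coconePointUniqueUpToIso (Abelian.epiIsCokernelOfKernel _ (kernelIsKernel p))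

omit [IsLocallyNoetherian X] in
/-- Internal hom commutes with restriction. -/
noncomputable def restrictIhomIso (V : X.Opens) (F : X.Modules) :
    ihom F ⋙ Scheme.Modules.restrictFunctor V.ι ≅
      Scheme.Modules.restrictFunctor V.ι ⋙ ihom ((Scheme.Modules.restrictFunctor V.ι).obj F) :=
  haveI := fun P => RHom.isIso_projHom V P F
  ((CxOX.extZeroAdj V.ι).comp (ihomAdj F)).rightAdjointUniq
    (((ihomAdj _).comp (CxOX.extZeroAdj V.ι)).ofNatIsoLeft
      (NatIso.ofComponents (fun P => @asIso _ _ _ _ (RHom.projHom V P F) (RHom.isIso_projHom V P F))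
        fun f => RHom.projHom_left V f F))

/-- Internal homs of coherent modules are coherent. -/
theorem homCoh_of_isCoh {F : X.Modules} (hF : Coh.IsCoh F) : HomCoh F := fun G hG => by
  have hloc : ∀ x : X, ∃ U : X.Opens, x ∈ U ∧
      Coh.IsCoh ((Scheme.Modules.restrictFunctor U.ι).obj ((ihom F).obj G)) := fun x => by
    obtain ⟨U, hxU, P, hP⟩ := (M1.isFP_iff_presentation F).1 (M1.isFP_of_isCoh hF) x
    refine ⟨U, hxU, isCoh_of_iso ((restrictIhomIso U F).app G).symm ?_⟩
    exact homCoh_of_presentation P hP _ ⟨M1.isQCoh_restrict hG.1 U.ι, M1.isFT_restrict hG.2 U.ι⟩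
  choose U hxU hU using hloc
  exact ⟨M1.isQCoh_of_openImmersion_cover (fun x => (U x).ι) (fun x => ⟨x, ⟨x, hxU x⟩, rfl⟩) fun x => (hU x).1,
    M1.isFT_of_openImmersion_cover (fun x => (U x).ι) (fun x => ⟨x, ⟨x, hxU x⟩, rfl⟩) fun x => (hU x).2⟩

end Groth.Agent.CohMop
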