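import Groth.Agent.Lib.CohMop.DualTensor
import Groth.Agent.Lib.SiteCoh.ExtAdj
import Groth.Agent.Lib.SiteCoh.ModuleExt
import Groth.Agent.Lib.KFlat.LpullPC
import Groth.Agent.Lib.KFlat.Symm

/-!
# `Ext` out of a tensor product with a finite locally free module
-/

set_option autoImplicit false
set_option linter.style.haveILetI false
set_option linter.unusedSectionVars false
set_option backward.isDefEq.respectTransparency false
set_option backward.isDefEq.respectTransparency.types false

universe u

open CategoryTheory CategoryTheory.Limits AlgebraicGeometry Abelian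

noncomputable section

namespace Groth.Agent.CohMop

open Groth.Agent KFlat KFlat.Sch

variable {X : Scheme.{u}} [HasExt.{u} X.Modules]

attribute [local instance] HasDerivedCategory.standard in
/-- `Ext^n(F ⊗ E, G) ≃ Ext^n(F, ℋom(E, G))`. -/
theorem nonempty_ext_tenR_addEquiv {E : X.Modules} (hE : FlatMod.IsFinLocFree E) (F G : X.Modules) (n : ℕ) :
    Nonempty (Ext ((tenR E).obj F) G n ≃+ Ext F ((ihom E).obj G) n) := by
  haveI := additive_ihom E
  haveI : PreservesFiniteLimits (ihom E) :=
    haveI : PreservesLimitsOfSize.{0, 0} (ihom E) := (ihomAdj E).rightAdjoint_preservesLimits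
    PreservesLimitsOfSize.preservesFiniteLimits _
  haveI : (ihom E).PreservesHomology := by
    refine Functor.preservesHomology_of_map_exact _ ((Functor.exact_tfae (ihom E)).out 0 1 |>.1 fun S hS => ?_)
    exact RFPlus.shortExact_map_of_isZero (ihom E) S hS (homExact_of_isFinLocFree hE 0 S.X₁)
  haveI : PreservesFiniteColimits (ihom E) := Functor.preservesFiniteColimits_of_preservesHomology _
  haveI : (tenR E).PreservesMonomorphisms := ((isFlat_iff E).2 (isFlat_of_isFinLocFree hE)).right
  exact ⟨SiteCoh.extAdjEquiv (ihomAdj E) (fun I _ => Injective.injective_of_adjoint (ihomAdj E) I) F G n⟩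

/-- Isomorphic source and target. -/
def extCongr {A A' B B' : X.Modules} (a : A ≅ A') (b : B ≅ B') (n : ℕ) : Ext A B n ≃+ Ext A' B' n :=
  AddEquiv.ofBijective
    ((Ext.mk₀ b.hom).postcomp A' (add_zero n) |>.comp ((Ext.mk₀ a.inv).precomp B (zero_add n)))
    (Function.bijective_iff_has_inverse.2
      ⟨fun y => (Ext.mk₀ a.hom).comp (y.comp (Ext.mk₀ b.inv) (add_zero n)) (zero_add n),
        fun x => by simp, fun y => by simp⟩)

/-- `Ext^n(A, G) ≃ H^n(X, ℋom(A, G))` for finite locally free `A`. -/
theorem nonempty_ext_addEquiv_HH {A : X.Modules} (hA : FlatMod.IsFinLocFree A) (G : X.Modules) (n : ℕ) :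
    Nonempty (Ext A G n ≃+ Coh.HH X ((ihom A).obj G) n) := by
  obtain ⟨e⟩ := nonempty_ext_tenR_addEquiv hA (Coh.structureModule X) G n
  obtain ⟨e'⟩ := SiteCoh.exists_moduleExtEquiv (R := X.ringCatSheaf) ((ihom A).obj G) n
  exact ⟨((extCongr (M2.tensorLUnit A).symm (Iso.refl G) n).trans e).trans e'⟩

end Groth.Agent.CohMop
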