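import Groth.Agent.Lib.CohMop.HomCoh
import Groth.Agent.Lib.InjMod.GenSum
import Groth.Agent.Lib.InjMod.Scheme
import Groth.Agent.Lib.RDSeq.Basic
import Groth.Agent.Lib.RDComp.Basic
import Groth.Agent.Lib.RDComp.Post
import Mathlib.CategoryTheory.Adjunction.Mates

/-!
# Local Ext sheaves: restriction to opens, the sequence in the first variable, vanishing for free modules
-/

set_option autoImplicit false
set_option linter.style.haveILetI false
set_option linter.unusedSectionVars false
set_option backward.isDefEq.respectTransparency false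
set_option backward.isDefEq.respectTransparency.types false

universe u

open CategoryTheory CategoryTheory.Limits AlgebraicGeometry

namespace Groth.Agent.CohMop

open Groth.Agent KFlat KFlat.Sch

variable {X : Scheme.{u}}

instance additive_ihom (M : X.Modules) : (ihom M).Additive := (ihomAdj M).right_adjoint_additive

instance preservesLimits_ihom (M : X.Modules) : PreservesLimitsOfSize.{0, 0} (ihom M) :=
  (ihomAdj M).rightAdjoint_preservesLimits

/-- Contravariant functoriality as a natural transformation. -/
noncomputable def ihomNat {A B : X.Modules} (f : A ⟶ B) : ihom B ⟶ ihom A :=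
  conjugateEquiv (ihomAdj B) (ihomAdj A) ((TX X).flip.map f)

theorem ihomNat_app {A B : X.Modules} (f : A ⟶ B) (G : X.Modules) :
    (ihomNat f).app G = ihomMap f G := by
  rw [ihomNat, conjugateEquiv_apply_app, ihomMap, Adjunction.homEquiv_unit, Functor.map_comp]
  rfl

/-- Tensoring a monomorphism with a flat module. -/
theorem mono_tensor_of_isFlat {W : X.Modules} (hW : FlatMod.IsFlat W) {A B : X.Modules} (f : A ⟶ B) [Mono f] :
    Mono (((TX X).obj W).map f) := by
  refine (KFlat.Sch.mono_iff_stalk _).2 fun y => (KFlat.Sch.injective_stalk_tensor_iff W f y).2 ?_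
  haveI : Module.Flat (X.presheaf.stalk y) (W.presheaf.stalk y) := hW y
  exact Module.Flat.lTensor_preserves_injective_linearMap (R := X.presheaf.stalk y) (M := W.presheaf.stalk y) _
    ((M1.mono_iff_stalk f).1 ‹_› y)

/-- `Hom(-, I)` turns monomorphisms into epimorphisms for injective `I`. -/
theorem epi_ihomMap {A B : X.Modules} (f : A ⟶ B) [Mono f] (I : X.Modules) [Injective I] :
    Epi (ihomMap f I) := by
  obtain ⟨κ, U, p, hp, hflat⟩ := InjMod.exists_epi_coprod_extZeroUnit ((ihom A).obj I)
  haveI := mono_tensor_of_isFlat hflat f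
  let W := ∐ fun i => CxOX.extZeroUnit (U i).ι
  let k : W ⟶ (ihom B).obj I :=
    (ihomAdj B).homEquiv _ _ (Injective.factorThru (((ihomAdj A).homEquiv _ _).symm p) (((TX X).obj W).map f))
  have hk : k ≫ ihomMap f I = p := by
    rw [comp_ihomMap]
    refine Eq.trans (congrArg _ ?_) (Equiv.apply_symm_apply ((ihomAdj A).homEquiv W I) p)
    simp only [k, Equiv.symm_apply_apply]
    exact Injective.comp_factorThru _ _
  exact epi_of_epi_fac hk

variable {S : ShortComplex X.Modules}

theorem ihomNat_zero (S : ShortComplex X.Modules) (G : X.Modules) :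
    (ihomNat S.g).app G ≫ (ihomNat S.f).app G = 0 := by
  rw [ihomNat_app, ihomNat_app, ihomMap_comp, S.zero, ihomMap_zero]

/-- Left exactness in the first variable. -/
theorem nonempty_isLimit_ihomSeq (hS : S.Exact) [Epi S.g] (G : X.Modules) :
    Nonempty (IsLimit (KernelFork.ofι ((ihomNat S.g).app G) (ihomNat_zero S G))) := by
  obtain ⟨h, ⟨hl⟩⟩ := nonempty_isLimit_ihom S.f G
  let e : cokernel S.f ≅ S.X₃ := (colimit.isColimit _).coconePointUniqueUpToIso hS.gIsCokernel
  have he : cokernel.π S.f ≫ e.hom = S.g :=
    IsColimit.comp_coconePointUniqueUpToIso_hom (colimit.isColimit _) hS.gIsCokernel WalkingParallelPair.one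
  let e' : (ihom S.X₃).obj G ≅ (ihom (cokernel S.f)).obj G :=
    { hom := ihomMap e.hom G
      inv := ihomMap e.inv G
      hom_inv_id := by rw [ihomMap_comp, e.inv_hom_id, ihomMap_id]
      inv_hom_id := by rw [ihomMap_comp, e.hom_inv_id, ihomMap_id] }
  have hf : e'.inv ≫ (ihomNat S.g).app G = ihomMap (cokernel.π S.f) G := by
    rw [ihomNat_app]
    change ihomMap e.inv G ≫ _ = _
    rw [ihomMap_comp]
    congr 1
    rw [← he, Category.assoc, e.hom_inv_id, Category.comp_id]
  haveI : Mono (ihomMap (cokernel.π S.f) G) := mono_of_isLimit_fork hl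
  haveI : Mono ((ihomNat S.g).app G) := by
    rw [show (ihomNat S.g).app G = e'.hom ≫ ihomMap (cokernel.π S.f) G by rw [← hf, e'.hom_inv_id_assoc]]
    haveI : IsIso e'.hom := e'.isIso_hom
    exact mono_comp _ _
  refine ⟨KernelFork.IsLimit.ofι' _ _ fun {W} k hk => ?_⟩
  rw [ihomNat_app] at hk
  obtain ⟨l, hl'⟩ := KernelFork.IsLimit.lift' hl k hk
  refine ⟨l ≫ e'.inv, ?_⟩
  rw [Category.assoc, hf]
  exact hl'

/-- The sequence of internal homs is short exact on injective modules. -/
theorem shortExact_ihom_of_injective (hS : S.ShortExact) (I : X.Modules) (_ : Injective I) :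
    (ShortComplex.mk ((ihomNat S.g).app I) ((ihomNat S.f).app I) (ihomNat_zero S I)).ShortExact := by
  haveI := hS.epi_g
  haveI := hS.mono_f
  obtain ⟨hl⟩ := nonempty_isLimit_ihomSeq hS.exact I
  haveI : Mono ((ihomNat S.g).app I) := mono_of_isLimit_fork hl
  haveI : Epi ((ihomNat S.f).app I) := by rw [ihomNat_app]; exact epi_ihomMap _ _
  exact ShortComplex.ShortExact.mk' (ShortComplex.exact_of_f_is_kernel _ hl) inferInstance inferInstance

/-- Restriction to an open subscheme preserves injectives. -/
instance preservesInjectiveObjects_restrict (V : X.Opens) :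
    (Scheme.Modules.restrictFunctor V.ι).PreservesInjectiveObjects :=
  ⟨fun {I} hI => by haveI := hI; exact InjMod.injective_restrict V I⟩

/-- Local Ext sheaves commute with restriction to opens. -/
noncomputable def restrictExtIso (V : X.Opens) (F : X.Modules) (i : ℕ) :
    (ihom F).rightDerived i ⋙ Scheme.Modules.restrictFunctor V.ι ≅
      Scheme.Modules.restrictFunctor V.ι ⋙ (ihom ((Scheme.Modules.restrictFunctor V.ι).obj F)).rightDerived i :=
  (RDComp.rightDerivedPostIso (ihom F) (Scheme.Modules.restrictFunctor V.ι) i).symm ≪≫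
    { hom := NatTrans.rightDerived (restrictIhomIso V F).hom i
      inv := NatTrans.rightDerived (restrictIhomIso V F).inv i
      hom_inv_id := by rw [← NatTrans.rightDerived_comp, Iso.hom_inv_id, NatTrans.rightDerived_id]
      inv_hom_id := by rw [← NatTrans.rightDerived_comp, Iso.inv_hom_id, NatTrans.rightDerived_id] } ≪≫
    RDComp.rightDerivedCompIso (Scheme.Modules.restrictFunctor V.ι) (ihom _) i

/-- No higher local Ext out of `M`. -/
def HomExact (M : X.Modules) : Prop := ∀ (i : ℕ) (G : X.Modules), IsZero (((ihom M).rightDerived (i + 1)).obj G)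

theorem HomExact.iso {A B : X.Modules} (e : A ≅ B) (h : HomExact A) : HomExact B := fun i G =>
  (h i G).of_iso (((injectiveResolution G).isoRightDerivedObj (ihom B) (i + 1)) ≪≫
    (HomologicalComplex.homologyFunctor X.Modules _ (i + 1)).mapIso
      ((NatIso.mapHomologicalComplex (ihomIso e) (ComplexShape.up ℕ)).app (injectiveResolution G).cocomplex).symm ≪≫
    ((injectiveResolution G).isoRightDerivedObj (ihom A) (i + 1)).symm)

theorem homExact_structureModule : HomExact (Coh.structureModule X) := fun i G => by
  let η : 𝟭 X.Modules ≅ ihom (Coh.structureModule X) :=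
    Adjunction.rightAdjointUniq (Adjunction.id.ofNatIsoLeft RHom.unitorNatIso.symm) (ihomAdj _)
  haveI : PreservesFiniteColimits (ihom (Coh.structureModule X)) :=
    preservesFiniteColimits_of_natIso η
  haveI : (ihom (Coh.structureModule X)).PreservesHomology := inferInstance
  refine IsZero.of_iso ?_ ((injectiveResolution G).isoRightDerivedObj (ihom (Coh.structureModule X)) (i + 1))
  refine (HomologicalComplex.exactAt_iff_isZero_homology _ _).1 ?_
  exact ((injectiveResolution G).cocomplex_exactAt_succ i).map (ihom (Coh.structureModule X))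

/-- Vanishing in the middle of a short exact sequence. -/
theorem isZero_rightDerived_middle {Q : ShortComplex X.Modules} (hQ : Q.ShortExact) (i : ℕ) (G : X.Modules)
    (h₁ : IsZero (((ihom Q.X₁).rightDerived i).obj G)) (h₃ : IsZero (((ihom Q.X₃).rightDerived i).obj G)) :
    IsZero (((ihom Q.X₂).rightDerived i).obj G) := by
  refine IsZero.of_iso ?_ ((injectiveResolution G).isoRightDerivedObj (ihom Q.X₂) i)
  exact ((RDSeq.cxSeq_shortExact (ihomNat Q.g) (ihomNat Q.f) (ihomNat_zero Q) (shortExact_ihom_of_injective hQ)
    _ (injectiveResolution G).injective).homology_exact₂ i).isZero_of_both_zeros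
      ((h₃.of_iso ((injectiveResolution G).isoRightDerivedObj (ihom Q.X₃) i).symm).eq_of_src _ _)
      ((h₁.of_iso ((injectiveResolution G).isoRightDerivedObj (ihom Q.X₁) i).symm).eq_of_tgt _ _)

theorem HomExact.biprod {A B : X.Modules} (hA : HomExact A) (hB : HomExact B) : HomExact (A ⊞ B) := fun i G =>
  isZero_rightDerived_middle (Q := ShortComplex.mk (biprod.inl : A ⟶ A ⊞ B) biprod.snd biprod.inl_snd)
    (ShortComplex.Splitting.ofHasBinaryBiproduct A B).shortExact (i + 1) G (hA i G) (hB i G)

theorem homExact_freeMod : ∀ n : ℕ, HomExact (FlatMod.freeMod X n)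
  | 0 => fun i G => by
    haveI : Subsingleton (FlatMod.freeMod X 0 ⟶ FlatMod.freeMod X 0) :=
      ⟨fun a b => Sigma.hom_ext _ _ fun i => i.elim0⟩
    have hid : 𝟙 (ihom (FlatMod.freeMod X 0)) = (0 : ihom (FlatMod.freeMod X 0) ⟶ _) := by
      ext N
      rw [NatTrans.id_app, ← ihomMap_id, Subsingleton.elim (𝟙 (FlatMod.freeMod X 0)) 0, ihomMap_zero]
      rfl
    have hz : ∀ n, IsZero ((((ihom (FlatMod.freeMod X 0)).mapHomologicalComplex (ComplexShape.up ℕ)).obj
        (injectiveResolution G).cocomplex).X n) := fun n => by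
      rw [IsZero.iff_id_eq_zero]
      exact NatTrans.congr_app hid _
    refine IsZero.of_iso ?_ ((injectiveResolution G).isoRightDerivedObj (ihom (FlatMod.freeMod X 0)) (i + 1))
    exact (HomologicalComplex.exactAt_iff_isZero_homology _ _).1 (ShortComplex.exact_of_isZero_X₂ _ (hz _))
  | n + 1 => ((homExact_freeMod n).biprod homExact_structureModule).iso (RHom.freeSuccIso n)

end Groth.Agent.CohMop
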