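import Groth.Agent.Lib.CohMop.ExtCoh
import Groth.Agent.Lib.RFPlus.Acyclic
import Groth.Agent.Lib.CohFound.RpushCoh
import Groth.Agent.Lib.ExtSupp8.AcyclicClass
import Groth.Agent.Lib.SiteCoh.HomAcyclic
import Groth.Agent.Lib.SiteCoh.Rpush
import Mathlib.CategoryTheory.Abelian.DiagramLemmas.KernelCokernelComp

/-!
# Relative Ext sheaves of coherent modules along proper morphisms are coherent
-/

set_option autoImplicit false
set_option linter.style.haveILetI false
set_option linter.unusedSectionVars false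
set_option backward.isDefEq.respectTransparency false
set_option backward.isDefEq.respectTransparency.types false

universe u

open CategoryTheory CategoryTheory.Limits AlgebraicGeometry TopologicalSpace

namespace Groth.Agent.CohMop

open Groth.Agent

attribute [local instance] HasDerivedCategory.standard

variable {X Y : Scheme.{u}}

theorem isCoh_of_shortExact' [IsLocallyNoetherian Y] {A B C : Y.Modules} (a : A ⟶ B) (b : B ⟶ C) (w : a ≫ b = 0)
    (h : (ShortComplex.mk a b w).Exact) [Mono a] [Epi b] (hA : Coh.IsCoh A) (hC : Coh.IsCoh C) : Coh.IsCoh B :=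
  RHom.isCoh_of_shortExact (S := ShortComplex.mk a b w) (ShortComplex.ShortExact.mk' h ‹_› ‹_›) hA hC

/-- The middle term of a five term exact sequence with coherent outer terms. -/
theorem isCoh_of_five [IsLocallyNoetherian Y] {A B C D E : Y.Modules} (a : A ⟶ B) (b : B ⟶ C) (c : C ⟶ D)
    (d : D ⟶ E) (wab : a ≫ b = 0) (wbc : b ≫ c = 0) (wcd : c ≫ d = 0)
    (hab : (ShortComplex.mk a b wab).Exact) (hbc : (ShortComplex.mk b c wbc).Exact)
    (hcd : (ShortComplex.mk c d wcd).Exact) (hA : Coh.IsCoh A) (hB : Coh.IsCoh B) (hD : Coh.IsCoh D)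
    (hE : Coh.IsCoh E) : Coh.IsCoh C := by
  let b' := cokernel.desc a b wab
  let c' := kernel.lift d c wcd
  haveI : Mono b' := hab.mono_cokernelDesc
  haveI : Epi c' := hcd.epi_kernelLift
  have w : b' ≫ c' = 0 := by
    rw [← cancel_epi (cokernel.π a), ← cancel_mono (kernel.ι d)]
    simp [b', c', wbc]
  let φ : ShortComplex.mk b c' (by rw [← cancel_mono (kernel.ι d)]; simp [c', wbc]) ⟶ ShortComplex.mk b' c' w :=
    { τ₁ := cokernel.π a, τ₂ := 𝟙 _, τ₃ := 𝟙 _
      comm₁₂ := by simp [b']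
      comm₂₃ := by simp }
  let ψ : ShortComplex.mk b c' (by rw [← cancel_mono (kernel.ι d)]; simp [c', wbc]) ⟶ ShortComplex.mk b c wbc :=
    { τ₁ := 𝟙 _, τ₂ := 𝟙 _, τ₃ := kernel.ι d
      comm₁₂ := by simp
      comm₂₃ := by simp [c'] }
  haveI : Epi φ.τ₁ := inferInstanceAs (Epi (cokernel.π a))
  haveI : IsIso φ.τ₂ := inferInstanceAs (IsIso (𝟙 _))
  haveI : Mono φ.τ₃ := inferInstanceAs (Mono (𝟙 _))
  haveI : Epi ψ.τ₁ := inferInstanceAs (Epi (𝟙 _))
  haveI : IsIso ψ.τ₂ := inferInstanceAs (IsIso (𝟙 _))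
  haveI : Mono ψ.τ₃ := inferInstanceAs (Mono (kernel.ι d))
  exact isCoh_of_shortExact' b' c' w ((ShortComplex.exact_iff_of_epi_of_isIso_of_mono φ).1
    ((ShortComplex.exact_iff_of_epi_of_isIso_of_mono ψ).2 hbc)) (M1.isCoh_cokernel hA.1 hB a)
    (M1.isCoh_kernel hD hE.1 d)

variable [HasInjectiveResolutions X.Modules] (P : X.Modules ⥤ Y.Modules) [P.Additive]

/-- Objects with coherent derived images. -/
def DCohObj (M : X.Modules) : Prop := ∀ j : ℕ, Coh.IsCoh ((P.rightDerived j).obj M)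

theorem isCoh_HR_iff (M : X.Modules) (j : ℕ) :
    Coh.IsCoh ((RFPlus.HR P (j : ℤ)).obj (RFPlus.sing M)) ↔ Coh.IsCoh ((P.rightDerived j).obj M) :=
  ⟨isCoh_of_iso (RFPlus.rightDerivedIso P M j), isCoh_of_iso (RFPlus.rightDerivedIso P M j).symm⟩

theorem isCoh_HR_succ_iff (M : X.Modules) (j : ℕ) :
    Coh.IsCoh ((RFPlus.HR P ((j : ℤ) + 1)).obj (RFPlus.sing M)) ↔ Coh.IsCoh ((P.rightDerived (j + 1)).obj M) :=
  isCoh_HR_iff P M (j + 1)

variable [IsLocallyNoetherian Y]

/-- In `0 → A → K → B → 0` with `K` acyclic. -/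
theorem isCoh_rightDerived_quot {S : ShortComplex X.Modules} (hS : S.ShortExact)
    (hK : RFPlus.IsAcyclicObj P S.X₂) (hA : ∀ j, Coh.IsCoh ((P.rightDerived (j + 1)).obj S.X₁)) (j : ℕ) :
    Coh.IsCoh ((P.rightDerived (j + 1)).obj S.X₃) := by
  obtain ⟨w₂, δ, w₃, w₁, -, e₃, e₁⟩ := RFPlus.exists_long_exact_sing P S hS ((j + 1 : ℕ) : ℤ)
  have h0 : IsZero ((RFPlus.HR P ((j + 1 : ℕ) : ℤ)).obj (RFPlus.sing S.X₂)) :=
    (hK (j + 1) (Nat.succ_pos j)).of_iso (RFPlus.rightDerivedIso P S.X₂ (j + 1))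
  have h1 : IsZero ((RFPlus.HR P (((j + 1 : ℕ) : ℤ) + 1)).obj (RFPlus.sing S.X₂)) :=
    (hK (j + 2) (Nat.succ_pos _)).of_iso (RFPlus.rightDerivedIso P S.X₂ (j + 2))
  haveI : Mono δ := e₃.mono_g (h0.eq_of_src _ _)
  haveI : Epi δ := e₁.epi_f (h1.eq_of_tgt _ _)
  haveI := isIso_of_mono_of_epi δ
  exact (isCoh_HR_iff P S.X₃ (j + 1)).1 (isCoh_of_iso (asIso δ).symm ((isCoh_HR_succ_iff P S.X₁ (j + 1)).2 (hA (j + 1))))

/-- In `0 → B → Z → E → 0`. -/
theorem isCoh_rightDerived_mid {S : ShortComplex X.Modules} (hS : S.ShortExact)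
    (hB : ∀ j, Coh.IsCoh ((P.rightDerived (j + 1)).obj S.X₁)) (hE : DCohObj P S.X₃) (j : ℕ) :
    Coh.IsCoh ((P.rightDerived (j + 1)).obj S.X₂) := by
  obtain ⟨w₂, δ, w₃, w₁, -, -, e₁⟩ := RFPlus.exists_long_exact_sing P S hS (j : ℤ)
  obtain ⟨w₂', δ', w₃', w₁', e₂', e₃', -⟩ := RFPlus.exists_long_exact_sing P S hS ((j : ℤ) + 1)
  refine (isCoh_HR_succ_iff P S.X₂ j).1 ?_
  exact isCoh_of_five δ ((RFPlus.HR P ((j : ℤ) + 1)).map (RFPlus.singMap S.f))
    ((RFPlus.HR P ((j : ℤ) + 1)).map (RFPlus.singMap S.g)) δ' w₁ w₂' w₃' e₁ e₂' e₃'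
    ((isCoh_HR_iff P S.X₃ j).2 (hE j)) ((isCoh_HR_succ_iff P S.X₁ j).2 (hB j))
    ((isCoh_HR_succ_iff P S.X₃ j).2 (hE (j + 1)))
    ((isCoh_HR_succ_iff P S.X₁ (j + 1)).2 (hB (j + 1)))

omit [IsLocallyNoetherian Y] in
/-- The cokernel of `P K → P B` is `R¹P A`. -/
theorem nonempty_cokernel_iso_quot [PreservesFiniteLimits P] {S : ShortComplex X.Modules} (hS : S.ShortExact)
    (hK : RFPlus.IsAcyclicObj P S.X₂) :
    Nonempty (cokernel (P.map S.g) ≅ (P.rightDerived 1).obj S.X₁) := by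
  obtain ⟨w₂, δ, w₃, w₁, -, e₃, e₁⟩ := RFPlus.exists_long_exact_sing P S hS 0
  haveI := RFPlus.isIso_η P S.X₂
  haveI := RFPlus.isIso_η P S.X₃
  have h1 : IsZero ((RFPlus.HR P (0 + 1 : ℤ)).obj (RFPlus.sing S.X₂)) :=
    (hK 1 Nat.one_pos).of_iso (RFPlus.rightDerivedIso P S.X₂ 1)
  haveI : Epi δ := e₁.epi_f (h1.eq_of_tgt _ _)
  exact ⟨cokernel.mapIso _ _ (asIso (RFPlus.η P S.X₂)) (asIso (RFPlus.η P S.X₃)) (RFPlus.η_naturality P S.g) ≪≫
    (colimit.isColimit _).coconePointUniqueUpToIso e₃.gIsCokernel ≪≫ RFPlus.rightDerivedIso P S.X₁ 1⟩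

/-- The cokernel of `P B → P Z`. -/
theorem isCoh_cokernel_mid [PreservesFiniteLimits P] {S : ShortComplex X.Modules} (hS : S.ShortExact)
    (hB : ∀ j, Coh.IsCoh ((P.rightDerived (j + 1)).obj S.X₁)) (hE : DCohObj P S.X₃) :
    Coh.IsCoh (cokernel (P.map S.f)) := by
  obtain ⟨w₂, δ, w₃, w₁, e₂, e₃, -⟩ := RFPlus.exists_long_exact_sing P S hS 0
  haveI := RFPlus.isIso_η P S.X₁
  haveI := RFPlus.isIso_η P S.X₂
  refine isCoh_of_iso (cokernel.mapIso _ _ (asIso (RFPlus.η P S.X₁)) (asIso (RFPlus.η P S.X₂))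
    (RFPlus.η_naturality P S.f)).symm ?_
  let c := cokernel.desc ((RFPlus.HR P 0).map (RFPlus.singMap S.f)) _ w₂
  haveI : Mono c := e₂.mono_cokernelDesc
  have wc : c ≫ δ = 0 := by
    rw [← cancel_epi (cokernel.π ((RFPlus.HR P 0).map (RFPlus.singMap S.f))), comp_zero, ← Category.assoc,
      cokernel.π_desc, w₃]
  have hex : (ShortComplex.mk c δ wc).Exact := by
    let φ : ShortComplex.mk ((RFPlus.HR P 0).map (RFPlus.singMap S.g)) δ w₃ ⟶ ShortComplex.mk c δ wc :=
      { τ₁ := cokernel.π _, τ₂ := 𝟙 _, τ₃ := 𝟙 _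
        comm₁₂ := by simp [c]
        comm₂₃ := by simp }
    haveI : Epi φ.τ₁ := inferInstanceAs (Epi (cokernel.π _))
    haveI : IsIso φ.τ₂ := inferInstanceAs (IsIso (𝟙 _))
    haveI : Mono φ.τ₃ := inferInstanceAs (Mono (𝟙 _))
    exact (ShortComplex.exact_iff_of_epi_of_isIso_of_mono φ).1 e₃
  exact isCoh_of_iso ((limit.isLimit _).conePointUniqueUpToIso hex.fIsKernel)
    (M1.isCoh_kernel ((isCoh_HR_iff P S.X₃ 0).2 (hE 0)) ((isCoh_HR_succ_iff P S.X₁ 0).2 (hB 0)).1 δ)

variable (K : CochainComplex X.Modules ℕ) (hK : ∀ n, RFPlus.IsAcyclicObj P (K.X n))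
  (hH : ∀ n, DCohObj P (K.homology n))

omit [IsLocallyNoetherian Y] in
theorem toB_condition (n : ℕ) : K.toCycles n (n + 1) ≫ K.homologyπ (n + 1) = 0 := by simp

/-- The map to boundaries. -/
noncomputable abbrev toB (n : ℕ) : K.X n ⟶ kernel (K.homologyπ (n + 1)) :=
  kernel.lift _ (K.toCycles n (n + 1)) (toB_condition K n)

omit [IsLocallyNoetherian Y] in
theorem shortExact_cycles (n : ℕ) :
    ∃ w : K.iCycles n ≫ toB K n = 0, (ShortComplex.mk (K.iCycles n) (toB K n) w).ShortExact := by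
  have hq : (ShortComplex.mk (K.toCycles n (n + 1)) (K.homologyπ (n + 1)) (toB_condition K n)).Exact :=
    ShortComplex.exact_of_g_is_cokernel _ (K.homologyIsCokernel n (n + 1) (by simp))
  haveI : Epi (toB K n) := hq.epi_kernelLift
  have hd : toB K n ≫ kernel.ι _ ≫ K.iCycles (n + 1) = K.d n (n + 1) := by
    rw [← Category.assoc, kernel.lift_ι, HomologicalComplex.toCycles_i]
  have w : K.iCycles n ≫ toB K n = 0 := by
    rw [← cancel_mono (kernel.ι (K.homologyπ (n + 1)) ≫ K.iCycles (n + 1)), Category.assoc, hd,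
      HomologicalComplex.iCycles_d, zero_comp]
  refine ⟨w, ShortComplex.ShortExact.mk' (ShortComplex.exact_of_f_is_kernel _ ?_) inferInstance inferInstance⟩
  exact KernelFork.IsLimit.ofι' _ w fun {W} k hk =>
    ⟨K.liftCycles k (n + 1) (by simp) (by rw [← hd, reassoc_of% hk, zero_comp]), K.liftCycles_i _ _ _ _⟩

omit [IsLocallyNoetherian Y] in
theorem shortExact_homology (n : ℕ) :
    (ShortComplex.mk (kernel.ι (K.homologyπ n)) (K.homologyπ n) (kernel.condition _)).ShortExact :=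
  ShortComplex.ShortExact.mk' (ShortComplex.exact_kernel _) inferInstance inferInstance

include hK hH in
/-- Cycles have coherent higher derived images. -/
theorem isCoh_rightDerived_cycles : ∀ (n j : ℕ), Coh.IsCoh ((P.rightDerived (j + 1)).obj (K.cycles n))
  | 0, j => isCoh_of_iso ((P.rightDerived (j + 1)).mapIso (CochainComplex.isoHomologyπ₀ K)).symm (hH 0 (j + 1))
  | n + 1, j => by
    obtain ⟨w, hS⟩ := shortExact_cycles K n
    exact isCoh_rightDerived_mid P (shortExact_homology K (n + 1))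
      (fun j => isCoh_rightDerived_quot P hS (hK n) (fun j => isCoh_rightDerived_cycles n j) j) (hH (n + 1)) j

include hK hH in
/-- The homology of `P K` is coherent. -/
theorem isCoh_homology_map [PreservesFiniteLimits P] :
    ∀ p : ℕ, Coh.IsCoh (((P.mapHomologicalComplex (ComplexShape.up ℕ)).obj K).homology p) := by
  intro p
  let PK := (P.mapHomologicalComplex (ComplexShape.up ℕ)).obj K
  have hlim : ∀ n, IsLimit (KernelFork.ofι (P.map (K.iCycles n))
      ((P.map_comp _ _).symm.trans ((congrArg P.map (K.iCycles_d n (n + 1))).trans (P.map_zero _ _)) : P.map (K.iCycles n) ≫ PK.d n (n + 1) = 0)) :=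
    fun n => KernelFork.mapIsLimit _ (K.cyclesIsKernel n (n + 1) (by simp)) P
  let c : ∀ n, PK.cycles n ≅ P.obj (K.cycles n) := fun n =>
    (PK.cyclesIsKernel n (n + 1) (by simp)).conePointUniqueUpToIso (hlim n)
  rcases p with - | n
  · exact isCoh_of_iso ((CochainComplex.isoHomologyπ₀ PK).symm ≪≫ c 0 ≪≫
      P.mapIso (CochainComplex.isoHomologyπ₀ K) ≪≫ P.rightDerivedZeroIsoSelf.symm.app _).symm (hH 0 0)
  obtain ⟨w, hS⟩ := shortExact_cycles K n
  let u := P.map (toB K n)
  let v := P.map (kernel.ι (K.homologyπ (n + 1)))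
  haveI : Mono v := inferInstanceAs (Mono (P.map _))
  obtain ⟨e⟩ := nonempty_cokernel_iso_quot P hS (hK n)
  have hu : Coh.IsCoh (cokernel u) := isCoh_of_iso e.symm (isCoh_rightDerived_cycles P K hK hH n 0)
  have hv : Coh.IsCoh (cokernel v) := isCoh_cokernel_mid P (shortExact_homology K (n + 1))
    (fun j => isCoh_rightDerived_quot P hS (hK n) (fun j => isCoh_rightDerived_cycles P K hK hH n j) j) (hH (n + 1))
  have hsq : PK.toCycles n (n + 1) ≫ (c (n + 1)).hom = (Iso.refl (PK.X n)).hom ≫ u ≫ v := by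
    haveI : Mono (P.map (K.iCycles (n + 1))) := inferInstance
    rw [← cancel_mono (P.map (K.iCycles (n + 1))), Category.assoc,
      show (c (n + 1)).hom ≫ P.map (K.iCycles (n + 1)) = PK.iCycles (n + 1) from
        IsLimit.conePointUniqueUpToIso_hom_comp _ (hlim (n + 1)) WalkingParallelPair.zero,
      HomologicalComplex.toCycles_i]
    simp [u, v, PK, ← P.map_comp, toB]
  refine isCoh_of_iso ((PK.homologyIsCokernel n (n + 1) (by simp)).coconePointUniqueUpToIso (colimit.isColimit _) ≪≫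
    cokernel.mapIso _ (u ≫ v) (Iso.refl _) (c (n + 1)) hsq).symm ?_
  have hseq := kernelCokernelCompSequence_exact u v
  have e2 := hseq.exact 2
  have e3 := hseq.exact 3
  haveI : Mono ((kernelCokernelCompSequence u v).map' 3 4 (by decide) (by decide)) := e2.mono_g ((KernelFork.IsLimit.isZero_of_mono
    (limit.isLimit (parallelPair v 0))).eq_of_src _ _)
  haveI : Epi ((kernelCokernelCompSequence u v).map' 4 5 (by decide) (by decide)) := inferInstance
  exact isCoh_of_shortExact' ((kernelCokernelCompSequence u v).map' 3 4 _ _)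
    ((kernelCokernelCompSequence u v).map' 4 5 _ _) (((kernelCokernelCompSequence u v).sc hseq.toIsComplex 3 (by decide)).zero) e3 hu hv

end Groth.Agent.CohMop

namespace Groth.Agent.CohMop

open Groth.Agent

attribute [local instance] HasDerivedCategory.standard

variable {X Y : Scheme.{u}}

/-- Direct images of internal homs into injective modules are acyclic. -/
theorem isAcyclicObj_push_ihom (f : X ⟶ Y) (F I : X.Modules) [Injective I] :
    RFPlus.IsAcyclicObj (Scheme.Modules.pushforward f) ((ihom F).obj I) := by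
  haveI : ModSite.HasSheafHom (O := X.sheaf) F := isLeftAdjoint_tenR F
  haveI : PreservesFiniteLimits (Scheme.Modules.pushforward f) :=
    haveI : PreservesLimitsOfSize.{0, 0} (Scheme.Modules.pushforward f) :=
      (Scheme.Modules.pullbackPushforwardAdjunction f).rightAdjoint_preservesLimits
    PreservesLimitsOfSize.preservesFiniteLimits _
  haveI : PreservesFiniteColimits (SheafOfModules.toSheaf.{u} (ModSite.ringSh X.sheaf)) :=
    haveI : PreservesColimitsOfSize.{u, u} (SheafOfModules.toSheaf.{u} (ModSite.ringSh X.sheaf)) := ⟨inferInstance⟩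
    PreservesColimitsOfSize.preservesFiniteColimits _
  haveI : PreservesFiniteLimits (SheafOfModules.toSheaf.{u} (ModSite.ringSh X.sheaf)) :=
    inferInstanceAs (PreservesFiniteLimits (SheafOfModules.toSheaf.{u} X.ringCatSheaf))
  refine ExtSupp8.isAcyclicObj_of_class (Scheme.Modules.pushforward f)
    (fun M => CohCx.IsTotallyAcyclic (ModSite.toAb (O := X.sheaf) M))
    (fun I hI => haveI : Injective (C := ModSite.Mod X.sheaf) I := hI
      SiteCoh.isTotallyAcyclic_injective (ModSite.ringSh X.sheaf) I) (fun S hS h₁ h₂ => ?_) _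
    (haveI : Injective (C := ModSite.Mod X.sheaf) I := ‹Injective I›;
      SiteCoh.isTotallyAcyclic_sheafHom X.sheaf F I)
  let S' : ShortComplex (ModSite.Mod X.sheaf) := S
  have hS' : (S'.map (SheafOfModules.toSheaf.{u} (ModSite.ringSh X.sheaf))).ShortExact := hS.map_of_exact _
  refine ⟨ExtSupp8.isTotallyAcyclic_X₃ hS' h₁ h₂, ?_⟩
  refine (SheafOfModules.toSheaf.{u} (ModSite.ringSh Y.sheaf)).epi_of_epi_map ?_
  exact SiteCoh.epi_of_surjective_sections _ fun V => SiteCoh.surjective_sections _ hS'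
    (SiteCoh.subsingleton_HU_of_totallyAcyclic h₁ ((Opens.map f.base).obj V) 0)

/-- Relative Ext sheaves of coherent modules along proper morphisms are coherent. -/
theorem isCoh_relExt (f : X ⟶ Y) [IsProper f] [IsLocallyNoetherian Y] {F G : X.Modules} (hF : Coh.IsCoh F)
    (hG : Coh.IsCoh G) [(ihom F ⋙ Scheme.Modules.pushforward f).Additive] (p : ℕ) :
    Coh.IsCoh (((ihom F ⋙ Scheme.Modules.pushforward f).rightDerived p).obj G) := by
  haveI : IsLocallyNoetherian X := LocallyOfFiniteType.isLocallyNoetherian f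
  haveI : PreservesFiniteLimits (Scheme.Modules.pushforward f) :=
    haveI : PreservesLimitsOfSize.{0, 0} (Scheme.Modules.pushforward f) :=
      (Scheme.Modules.pullbackPushforwardAdjunction f).rightAdjoint_preservesLimits
    PreservesLimitsOfSize.preservesFiniteLimits _
  let I := injectiveResolution G
  let P := Scheme.Modules.pushforward f
  refine isCoh_of_iso (I.isoRightDerivedObj (ihom F ⋙ P) p ≪≫
    (HomologicalComplex.homologyFunctor _ _ p).mapIso
      ((Functor.mapHomologicalComplexCompIso (Iso.refl (ihom F ⋙ P)) (ComplexShape.up ℕ)).symm.app _)).symm ?_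
  exact isCoh_homology_map P (((ihom F).mapHomologicalComplex _).obj I.cocomplex)
    (fun n => @isAcyclicObj_push_ihom X Y f F (I.cocomplex.X n) (I.injective n))
    (fun n j => CohFound.isCoh_rpush f
      (isCoh_of_iso (I.isoRightDerivedObj (ihom F) n) (isCoh_extSheaf n F G hF hG)) j) p

end Groth.Agent.CohMop
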