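import Groth.Agent.Lib.CohMop.SectVanish
import Groth.Agent.Lib.CohMop.RelExtSeq
import Groth.Agent.Lib.CohMop.TensorDerived
import Groth.Agent.Lib.ExtSupp8.GammaAcyclic
import Groth.Agent.Lib.ExtSupp8.Hom

/-!
# Vanishing and coherence of local Ext sheaves with supports
-/

set_option autoImplicit false
set_option linter.style.haveILetI false
set_option linter.unusedSectionVars false
set_option backward.isDefEq.respectTransparency false
set_option backward.isDefEq.respectTransparency.types false

universe u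

open CategoryTheory CategoryTheory.Limits AlgebraicGeometry Opposite TopologicalSpace

noncomputable section

namespace Groth.Agent.CohMop

open Groth.Agent M1

attribute [local instance] HasDerivedCategory.standard

variable {X : Scheme.{u}} (U : X.Opens)

/-- Derived `ℋom(F, Γ_Z -)` vanishes below the vanishing range of `ℋ_Z`. -/
theorem isZero_gammaHom_below [IsLocallyNoetherian X] (F : X.Modules) [(gammaHom U F).Additive]
    [(DCoh.gammaZ U.ι).Additive] : ∀ (n : ℕ) (M : X.Modules), Coh.IsQCoh M →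
      (∀ q, q < n → IsZero (((DCoh.gammaZ U.ι).rightDerived q).obj M)) →
        ∀ i, i < n → IsZero (((gammaHom U F).rightDerived i).obj M) := by
  haveI := LocCohZQ.preservesFiniteLimits_gammaZ U.ι
  haveI := additive_ihom F
  intro n
  induction n with
  | zero => intro M _ _ i hi; omega
  | succ n ih =>
    intro M hM h i hi
    have h0 : IsZero ((DCoh.gammaZ U.ι).obj M) :=
      (h 0 (Nat.succ_pos n)).of_iso ((DCoh.gammaZ U.ι).rightDerivedZeroIsoSelf.app M).symm
    rcases i with - | j
    · exact ((ihom F).map_isZero h0).of_iso ((gammaHom U F).rightDerivedZeroIsoSelf.app M)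
    · obtain ⟨S, hS, rfl, hI, hf, -, h₃⟩ := exists_qcoh_hull hM
      have hI0 : IsZero ((DCoh.gammaZ U.ι).obj S.X₂) := isZero_gammaZ_of_essential U hf h0
      have hG : ∀ q, IsZero (((DCoh.gammaZ U.ι).rightDerived q).obj S.X₂) := fun q => by
        rcases q with - | q
        · exact hI0.of_iso ((DCoh.gammaZ U.ι).rightDerivedZeroIsoSelf.app S.X₂)
        · exact (DCoh.gammaZ U.ι).isZero_rightDerived_obj_injective_succ q S.X₂
      have hP : ∀ q, IsZero (((gammaHom U F).rightDerived q).obj S.X₂) := fun q => by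
        rcases q with - | q
        · exact ((ihom F).map_isZero hI0).of_iso ((gammaHom U F).rightDerivedZeroIsoSelf.app S.X₂)
        · exact (gammaHom U F).isZero_rightDerived_obj_injective_succ q S.X₂
      obtain ⟨T⟩ := RDerLES.exists_sesRes hS
      have h3 : ∀ q, q < n → IsZero (((DCoh.gammaZ U.ι).rightDerived q).obj S.X₃) := fun q hq => by
        obtain ⟨w, he⟩ := (RDerLES.exact_sequences (DCoh.gammaZ U.ι) T q (q + 1) rfl).2.1
        exact he.isZero_of_both_zeros ((hG q).eq_of_src _ _) ((h (q + 1) (by omega)).eq_of_tgt _ _)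
      obtain ⟨w, he⟩ := (RDerLES.exact_sequences (gammaHom U F) T j (j + 1) rfl).2.2
      exact he.isZero_of_both_zeros ((ih S.X₃ h₃ h3 j (by omega)).eq_of_src _ _) ((hP (j + 1)).eq_of_tgt _ _)

theorem isZero_of_stFun {M : X.Modules} (h : ∀ x : X, IsZero ((stFun x).obj M)) : IsZero M := by
  refine isZero_of_restrict fun x => ⟨⊤, trivial, isZero_restrict_of_support ⊤ fun y _ =>
    (M1.notMem_support_iff M y).2 fun a => ?_⟩
  haveI := ModuleCat.subsingleton_of_isZero (h y)
  exact (modCmp y M).injective (Subsingleton.elim (α := (stFun y).obj M) _ _)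

/-- `ℋom(F, -)` followed by sections with supports. -/
abbrev extZFun (F : X.Modules) [ModSite.HasPushOver X.sheaf U] : X.Modules ⥤ X.Modules :=
  ihom F ⋙ ModSite.sectOn X.sheaf U

instance additive_sectOn [ModSite.HasPushOver X.sheaf U] :
    (show X.Modules ⥤ X.Modules from ModSite.sectOn X.sheaf U).Additive :=
  ModSite.sectOn_additive (C := X.Opens) X.sheaf U

instance additive_gammaZ : (DCoh.gammaZ U.ι).Additive :=
  haveI : ModSite.HasPushOver X.sheaf U := inferInstance
  @Functor.additive_of_iso _ _ _ _ _ _ _ (additive_sectOn U) _ (gammaSectIso U).symm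

instance additive_gammaHom (F : X.Modules) : (gammaHom U F).Additive :=
  haveI := additive_ihom F
  inferInstanceAs (DCoh.gammaZ U.ι ⋙ ihom F).Additive

instance additive_extZFun (F : X.Modules) [ModSite.HasPushOver X.sheaf U] : (extZFun U F).Additive :=
  haveI := additive_ihom F
  ⟨fun {M N} {f g} => ((congrArg (ModSite.sectOn X.sheaf U).map ((ihom F).map_add (f := f) (g := g))).trans
    (@Functor.map_add X.Modules X.Modules _ _ _ _ (show X.Modules ⥤ X.Modules from ModSite.sectOn X.sheaf U)
      (additive_sectOn U) _ _ _ _))⟩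

/-- For `F` supported in a closed set, only the part of the support in it matters. -/
def extZIso (T : Closeds X) {F : X.Modules} (hFT : CohB1.support F ⊆ (T : Set X)) :
    extZFun U F ≅ gammaHom (U ⊔ T.compl) F :=
  haveI : ModSite.HasSheafHom (O := X.sheaf) F := isLeftAdjoint_tenR F
  sectSupIso U T.compl (ihom F) (fun G => isNullOn_ihom T.compl (fun x hx hs => hx (hFT hs)) G) ≪≫
    ExtSupp8.sectHomIso X.sheaf (U ⊔ T.compl) F ≪≫
    Functor.isoWhiskerRight (gammaSectIso (U ⊔ T.compl)).symm (ihom F)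

variable [IsLocallyNoetherian X]

/-- Vanishing below the depth. -/
theorem isZero_extZ_below (T : Closeds X) {F G : X.Modules} (hFT : CohB1.support F ⊆ (T : Set X))
    (hG : Coh.IsCoh G) {n : ℕ}
    (hd : ∀ x ∈ T, x ∉ (U : Set X) → (n : ℕ∞) ≤ LocCoh.depth (X.presheaf.stalk x) (G.presheaf.stalk x))
    {i : ℕ} (hi : i < n) : IsZero (((extZFun U F).rightDerived i).obj G) := by
  refine (isZero_gammaHom_below (U ⊔ T.compl) F n G hG.1 (fun q hq => ?_) i hi).of_iso
    ((rdMapIso (extZIso U T hFT) i).app G)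
  refine (LocCohZQ.isZero_HZshM_iff (U ⊔ T.compl) G q).2
    ((LocCohZQ.vanish_iff_depth (U ⊔ T.compl) G hG n).2 (fun x hx => ?_) q hq)
  exact hd x (by_contra fun h => hx (Or.inr h)) fun h => hx (Or.inl h)

theorem isZero_stFun_rightDerived_of_null {T : X.Modules ⥤ X.Modules} [T.Additive]
    (hT : ∀ M, ModSite.IsNullOn X.sheaf U (T.obj M)) (i : ℕ) (G : X.Modules) {x : X} (hx : x ∈ U) :
    IsZero ((stFun x).obj ((T.rightDerived i).obj G)) := by
  haveI := preservesHomology_stFun x
  let I := injectiveResolution G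
  let K := (T.mapHomologicalComplex (ComplexShape.up ℕ)).obj I.cocomplex
  have h0 : IsZero ((stFun x).obj (T.obj (I.cocomplex.X i))) := by
    haveI : Subsingleton ((stFun x).obj (T.obj (I.cocomplex.X i))) := ⟨fun a b => by
      obtain ⟨a, rfl⟩ := (modCmp x _).surjective a
      obtain ⟨b, rfl⟩ := (modCmp x _).surjective b
      have h := (M1.notMem_support_iff _ x).1 ((isNullOn_iff U _).1 (hT (I.cocomplex.X i)) x hx)
      rw [h a, h b]⟩
    exact ModuleCat.isZero_of_subsingleton _
  refine IsZero.of_iso ?_ ((stFun x).mapIso (I.isoRightDerivedObj T i) ≪≫ ((K.sc i).mapHomologyIso (stFun x)).symm)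
  exact (ShortComplex.exact_iff_isZero_homology _).1 (ShortComplex.exact_of_isZero_X₂ ((K.sc i).map (stFun x)) h0)

theorem stalk_regular' (hreg : ∀ x : X, IsRegularLocalRing (X.presheaf.stalk x)) (x : X) {i : ℕ}
    (hx : ringKrullDim (X.presheaf.stalk x) < ((i + 1 : ℕ) : WithBot ℕ∞))
    (M : ModuleCat.{u} (ModSite.stalkRing (pt x) X.sheaf)) : HasInjectiveDimensionLT M (i + 1) := by
  haveI := hreg x
  haveI : IsRegularLocalRing (ModSite.stalkRing (pt x) X.sheaf) := IsRegularLocalRing.of_ringEquiv (ringCmp x)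
  rw [ringKrullDim_eq_of_ringEquiv (ringCmp x),
    ← IsRegularLocalRing.spanFinrank_maximalIdeal (R := ModSite.stalkRing (pt x) X.sheaf)] at hx
  have hd : (IsLocalRing.maximalIdeal (ModSite.stalkRing (pt x) X.sheaf)).spanFinrank < i + 1 := by exact_mod_cast hx
  refine HomDim.hasInjectiveDimensionLT_of_subsingleton_ext i M fun I => ?_
  haveI : HasProjectiveDimensionLT (ModuleCat.of (ModSite.stalkRing (pt x) X.sheaf)
      ((ModSite.stalkRing (pt x) X.sheaf : Type u) ⧸ I))
      ((IsLocalRing.maximalIdeal (ModSite.stalkRing (pt x) X.sheaf)).spanFinrank + 1) :=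
    RegLoc.hasProjectiveDimensionLT_of_regular rfl _
  exact HasProjectiveDimensionLT.subsingleton _
    ((IsLocalRing.maximalIdeal (ModSite.stalkRing (pt x) X.sheaf)).spanFinrank + 1) _ (by omega) _

/-- Vanishing above the dimension. -/
theorem isZero_extZ_above (hreg : ∀ x : X, IsRegularLocalRing (X.presheaf.stalk x)) (T : Closeds X)
    {F G : X.Modules} (hF : Coh.IsCoh F) (hFT : CohB1.support F ⊆ (T : Set X)) (hG : Coh.IsQCoh G) {i : ℕ}
    (hd : ∀ x ∈ T, x ∉ (U : Set X) → ringKrullDim (X.presheaf.stalk x) < (i : WithBot ℕ∞)) :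
    IsZero (((extZFun U F).rightDerived i).obj G) := by
  refine IsZero.of_iso (isZero_of_stFun fun x => ?_) ((rdMapIso (extZIso U T hFT) i).app G)
  by_cases hx : x ∈ U ⊔ T.compl
  · exact isZero_stFun_rightDerived_of_null (U ⊔ T.compl) (fun M => (isNullOn_iff _ _).2 fun y hy hs =>
      (isNullOn_iff _ _).1 (isNullOn_gammaHom (U ⊔ T.compl) F M) y hy hs) i G hx
  · have hd' := hd x (by_contra fun h => hx (Or.inr h)) fun h => hx (Or.inl h)
    rcases i with - | i
    · exact absurd hd' (not_lt_of_ge (ringKrullDim_nonneg_of_nontrivial))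
    · exact isZero_stFun_gammaHom (U ⊔ T.compl) hF x i G hG (stalk_regular' hreg x hd' _)
where
  isNullOn_gammaHom (V : X.Opens) (F M : X.Modules) : ModSite.IsNullOn X.sheaf V ((gammaHom V F).obj M) :=
    haveI : ModSite.HasSheafHom (O := X.sheaf) F := isLeftAdjoint_tenR F
    ExtSupp8.isNullOn_sheafHom (O := X.sheaf) (U := V) F (isNullOn_gammaZ V M)

set_option maxHeartbeats 1600000 in
/-- The sequence of `Γ_Z ℋom(-, I)`. -/
theorem shortExact_extZFun {S : ShortComplex X.Modules} (hS : S.ShortExact) (I : X.Modules) (hI : Injective I)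
    (w : (Functor.whiskerRight (ihomNat S.g) (ModSite.sectOn X.sheaf U)).app I ≫
      (Functor.whiskerRight (ihomNat S.f) (ModSite.sectOn X.sheaf U)).app I = 0) :
    (ShortComplex.mk _ _ w).ShortExact := by
  haveI : ModSite.HasSheafHom (O := X.sheaf) S.X₃ := isLeftAdjoint_tenR _
  haveI : PreservesLimitsOfSize.{0, 0} (ModSite.sectOn X.sheaf U) :=
    (ExtSupp8.quotSectAdj X.sheaf U).rightAdjoint_preservesLimits
  haveI : PreservesFiniteLimits (ModSite.sectOn X.sheaf U) := PreservesLimitsOfSize.preservesFiniteLimits _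
  haveI : Injective (C := ModSite.Mod X.sheaf) I := hI
  have hac : RFPlus.IsAcyclicObj (ModSite.sectOn X.sheaf U) ((ihom S.X₃).obj I) :=
    ExtSupp8.isAcyclicObj_sectOn X.sheaf U _ (SiteCoh.isTotallyAcyclic_sheafHom X.sheaf S.X₃ I)
  exact RFPlus.shortExact_map_of_isZero (ModSite.sectOn X.sheaf U) _ (shortExact_ihom_of_injective hS I hI)
    (hac 1 Nat.one_pos)

/-- Reduction to modules supported in the closure of the support on `U`. -/
theorem isCoh_extZ_of_isZero {F G : X.Modules} (hF : Coh.IsCoh F) (hG : Coh.IsCoh G) (i : ℕ)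
    (h : ∀ F' : X.Modules, Coh.IsCoh F' → CohB1.support F' ⊆ closure (CohB1.support F ∩ (U : Set X)) →
      IsZero (((extZFun U F').rightDerived i).obj G)) :
    Coh.IsCoh (((extZFun U F).rightDerived i).obj G) := by
  haveI := LocCohZQ.mono_gammaι U F
  haveI := fun Q : X.Modules => additive_extZFun U Q
  haveI : ∀ Q : X.Modules, (ihom Q ⋙ ModSite.sectOn X.sheaf U).Additive := this
  let S : ShortComplex X.Modules := ShortComplex.mk ((LocCohZQ.gammaι U.ι).app F)
    (cokernel.π ((LocCohZQ.gammaι U.ι).app F)) (cokernel.condition _)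
  have hS : S.ShortExact := ShortComplex.ShortExact.mk' (ShortComplex.exact_cokernel _) inferInstance inferInstance
  have hKq : Coh.IsQCoh S.X₁ := M1.isQCoh_of_isIso ((gammaSectIso U).app F).symm (isQCoh_sectOn U hF.1)
  have hK : Coh.IsCoh S.X₁ := M1.isCoh_of_mono ((LocCohZQ.gammaι U.ι).app F) hF hKq
  have hQ : Coh.IsCoh S.X₃ := M1.isCoh_cokernel hKq hF _
  have hsupp : CohB1.support S.X₃ ⊆ closure (CohB1.support F ∩ (U : Set X)) := fun x hx => by
    by_contra hx'
    refine (M1.notMem_support_iff S.X₃ x).2 (fun a => ?_) hx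
    obtain ⟨b, rfl⟩ := (M1.epi_iff_stalk S.g).1 inferInstance x a
    obtain ⟨c, rfl⟩ := (mem_range_stalk_gammaι_iff U F x b).2 fun z hzU hz =>
      (M1.notMem_support_iff F z).1 (fun hzF => hx' (hz.mem_closed isClosed_closure (subset_closure ⟨hzF, hzU⟩))) _
    rw [← M1.stalk_comp_apply]
    exact (congrArg (fun f => (M1.stalkAb x).map f c) S.zero).trans (M1.stalkAb_map_zero x c)
  have h1 : IsZero (((extZFun U S.X₃).rightDerived i).obj G) := h S.X₃ hQ hsupp
  have w : ∀ M, (Functor.whiskerRight (ihomNat S.g) (ModSite.sectOn X.sheaf U)).app M ≫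
      (Functor.whiskerRight (ihomNat S.f) (ModSite.sectOn X.sheaf U)).app M = 0 := fun M => by
    change (ModSite.sectOn X.sheaf U).map _ ≫ (ModSite.sectOn X.sheaf U).map _ = 0
    rw [← Functor.map_comp, ihomNat_zero, Functor.map_zero]
  have he := RDSeq.exact_rightDerived_mid (Functor.whiskerRight (ihomNat S.g) (ModSite.sectOn X.sheaf U))
    (Functor.whiskerRight (ihomNat S.f) (ModSite.sectOn X.sheaf U)) w
    (fun I hI => shortExact_extZFun U hS I hI (w I)) i G
  haveI : Mono ((NatTrans.rightDerived (Functor.whiskerRight (ihomNat S.f) (ModSite.sectOn X.sheaf U)) i).app G) :=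
    he.mono_g (h1.eq_of_src _ _)
  have hK' : Coh.IsCoh (((extZFun U S.X₁).rightDerived i).obj G) :=
    isCoh_of_iso ((rdMapIso (sectIhomIso U (F := S.X₁)
      fun x hx => (isNullOn_iff U _).1 (isNullOn_gammaZ U F) x hx) i).app G).symm (isCoh_extSheaf i S.X₁ G hK hG)
  exact M1.isCoh_of_mono
    ((NatTrans.rightDerived (Functor.whiskerRight (ihomNat S.f) (ModSite.sectOn X.sheaf U)) i).app G) hK' (isQCoh_extZ U hF hG.1 i)

end Groth.Agent.CohMop
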