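import Groth.Agent.Lib.CohMop.StalkExt
import Groth.Agent.Lib.LocCohZ.DepthVanish
import Groth.Agent.Lib.ModM1.Stalk

/-!
# Depth and finiteness of stalks over the site stalk ring
-/

set_option autoImplicit false
set_option linter.style.haveILetI false

universe u
open CategoryTheory AlgebraicGeometry TopologicalSpace

namespace Groth.Agent.CohMop

/-- The depth of a stalk, computed in modules over the site stalk ring. -/
theorem depth_stFun {X : Scheme.{u}} (x : X) [IsLocalRing (ModSite.stalkRing (pt x) X.sheaf)] (M : X.Modules) :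
    LocCoh.depth (X.presheaf.stalk x) (M.presheaf.stalk x) =
      LocCoh.depth (ModSite.stalkRing (pt x) X.sheaf) ((stFun x).obj M) :=
  LocCohZQ.depth_congr_semilinear (ringCmp x) (modCmp x M) (modCmp_smul x M)

theorem finite_stFun {X : Scheme.{u}} (x : X) {M : X.Modules} (hM : Coh.IsCoh M) :
    Module.Finite (ModSite.stalkRing (pt x) X.sheaf) ((stFun x).obj M) := by
  haveI := M1.finite_stalk hM.1 hM.2 x
  obtain ⟨s, hs⟩ := (Module.finite_def.1 ‹_› : (⊤ : Submodule (X.presheaf.stalk x) (M.presheaf.stalk x)).FG)
  classical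
  refine ⟨⟨s.image (modCmp x M), eq_top_iff.2 fun z _ => ?_⟩⟩
  obtain ⟨a, rfl⟩ := (modCmp x M).surjective z
  have ha : a ∈ Submodule.span (X.presheaf.stalk x) (s : Set (M.presheaf.stalk x)) := hs ▸ Submodule.mem_top
  clear * - ha
  induction ha using Submodule.span_induction with
  | mem a h => exact Submodule.subset_span (Finset.mem_image_of_mem _ h)
  | zero => rw [map_zero]; exact zero_mem _
  | add a b _ _ h₁ h₂ => rw [map_add]; exact add_mem h₁ h₂
  | smul r a _ h => rw [modCmp_smul]; exact Submodule.smul_mem _ _ h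

end Groth.Agent.CohMop
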