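import Groth.Prelude.Def_ModSite2
import Groth.Agent.Lib.InjMod.StalkInj
import Mathlib.Topology.Sheaves.Points
import Mathlib.RingTheory.Noetherian.Basic
import Mathlib.Algebra.Module.Injective

/-!
# Stalks at the points of the site of opens are the usual stalks
-/

set_option autoImplicit false
set_option linter.style.haveILetI false
set_option linter.unusedSectionVars false
set_option backward.isDefEq.respectTransparency false
set_option backward.isDefEq.respectTransparency.types false

universe v u

open CategoryTheory CategoryTheory.Limits Opposite AlgebraicGeometry TopologicalSpace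

namespace Groth.Agent.CohMop

section Generic

variable {X : TopCat.{u}} {A : Type v} [Category.{u} A] [HasColimitsOfSize.{u, u} A] (x : X)
  (P : (Opens X)ᵒᵖ ⥤ A)

/-- The point of the site of opens. -/
abbrev pt : GrothendieckTopology.Point.{u} (Opens.grothendieckTopology X) :=
  Opens.pointGrothendieckTopology x

/-- The neighbourhood. -/
abbrev nb {U : Opens X} (h : x ∈ U) : (pt x).fiber.obj U := ⟨⟨h⟩⟩

/-- The comparison of the stalk with the fibre at the point. -/
noncomputable def stalkFiberIso : TopCat.Presheaf.stalk (C := A) P x ≅ (pt x).presheafFiber.obj P where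
  hom := colimit.desc _
    { pt := (pt x).presheafFiber.obj P
      ι :=
        { app := fun U => (pt x).toPresheafFiber U.unop.1 (nb x U.unop.2) P
          naturality := fun U V f => by
            refine Eq.trans ?_ (Category.comp_id _).symm
            exact (pt x).toPresheafFiber_w _ _ P } }
  inv := (pt x).presheafFiberDesc (fun U h => TopCat.Presheaf.germ (C := A) P U x h.down.down)
    (fun U V f h => TopCat.Presheaf.germ_res (C := A) P f x h.down.down)
  hom_inv_id := TopCat.Presheaf.stalk_hom_ext (C := A) P fun U hx => by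
    rw [← Category.assoc, Category.comp_id]
    refine (congrArg (· ≫ _) (colimit.ι_desc _ (op (⟨U, hx⟩ : OpenNhds x)))).trans ?_
    exact (pt x).toPresheafFiber_presheafFiberDesc _ _ U (nb x hx)
  inv_hom_id := (pt x).presheafFiber_hom_ext fun U h => by
    rw [← Category.assoc, Category.comp_id]
    refine (congrArg (· ≫ _) ((pt x).toPresheafFiber_presheafFiberDesc
      (fun U h => TopCat.Presheaf.germ (C := A) P U x h.down.down)
      (fun U V f h => TopCat.Presheaf.germ_res (C := A) P f x h.down.down) U h)).trans ?_
    exact colimit.ι_desc _ (op (⟨U, h.down.down⟩ : OpenNhds x))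

theorem germ_stalkFiberIso {U : Opens X} (hx : x ∈ U) :
    TopCat.Presheaf.germ (C := A) P U x hx ≫ (stalkFiberIso x P).hom = (pt x).toPresheafFiber U (nb x hx) P :=
  colimit.ι_desc _ (op (⟨U, hx⟩ : OpenNhds x))

end Generic

variable {X : Scheme.{u}} (x : X)

/-- The ring isomorphism. -/
noncomputable def ringCmp : (X.presheaf.stalk x : Type u) ≃+* ModSite.stalkRing (pt x) X.sheaf :=
  (stalkFiberIso (A := CommRingCat.{u}) x X.presheaf).commRingCatIsoToRingEquiv

theorem ringCmp_germ {U : X.Opens} (hx : x ∈ U) (r : Γ(X, U)) :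
    ringCmp x (X.presheaf.germ U x hx r) = ModSite.germRing (pt x) (O := X.sheaf) U (nb x hx) r :=
  ConcreteCategory.congr_hom (germ_stalkFiberIso (A := CommRingCat.{u}) x X.presheaf hx) r

/-- The comparison of stalks of modules. -/
noncomputable def modCmp (M : X.Modules) :
    (M.presheaf.stalk x : Type u) ≃+ ModSite.stalkMod (O := X.sheaf) (pt x) M :=
  (stalkFiberIso (A := AddCommGrpCat.{u}) x M.presheaf).addCommGroupIsoToAddEquiv

theorem modCmp_germ (M : X.Modules) {U : X.Opens} (hx : x ∈ U) (s : Γ(M, U)) :
    modCmp x M (M.presheaf.germ U x hx s) = ModSite.germ (pt x) (O := X.sheaf) M U (nb x hx) s :=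
  ConcreteCategory.congr_hom (germ_stalkFiberIso (A := AddCommGrpCat.{u}) x M.presheaf hx) s

theorem modCmp_smul (M : X.Modules) (r : X.presheaf.stalk x) (a : M.presheaf.stalk x) :
    modCmp x M (r • a) = ringCmp x r • modCmp x M a := by
  obtain ⟨U, hU, r, rfl⟩ := X.presheaf.exists_germ_eq r
  obtain ⟨V, hV, a, rfl⟩ := TopCat.Presheaf.exists_germ_eq M.presheaf a
  have hUV : x ∈ U ⊓ V := ⟨hU, hV⟩
  rw [← X.presheaf.germ_res_apply (homOfLE inf_le_left : U ⊓ V ⟶ U) x hUV r,
    ← TopCat.Presheaf.germ_res_apply M.presheaf (homOfLE inf_le_right : U ⊓ V ⟶ V) x hUV a,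
    ringCmp_germ, modCmp_germ]
  refine Eq.trans ?_ (ModSite.germ_smul (pt x) (O := X.sheaf) M _ (nb x hUV) _ _)
  refine Eq.trans (congrArg (modCmp x M) ?_) (modCmp_germ x M _ _)
  exact (PresheafOfModules.germ_smul M.val x (U ⊓ V) hUV _ _).symm

theorem isNoetherianRing_stalkRing [IsLocallyNoetherian X] :
    IsNoetherianRing (ModSite.stalkRing (pt x) X.sheaf) :=
  isNoetherianRing_of_ringEquiv _ (ringCmp x)

/-- Module injectivity transfers along a semilinear equivalence. -/
theorem injective_of_semilinear {A B : Type u} [CommRing A] [CommRing B] (ρ : A ≃+* B) {M N : Type u}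
    [AddCommGroup M] [Module A M] [AddCommGroup N] [Module B N] (e : M ≃+ N)
    (he : ∀ (r : A) (m : M), e (r • m) = ρ r • e m) (h : Module.Injective A M) : Module.Injective B N := by
  refine Module.Baer.injective fun I g => ?_
  let g' : ↥(I.comap ρ) →ₗ[A] M :=
    { toFun := fun a => e.symm (g ⟨ρ a.1, a.2⟩)
      map_add' := fun a b => by
        rw [← map_add, ← map_add]
        congr 2
        exact Subtype.ext (map_add ρ _ _)
      map_smul' := fun r a => e.injective (by
        rw [RingHom.id_apply, he, e.apply_symm_apply, e.apply_symm_apply, ← map_smul]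
        congr 1
        exact Subtype.ext (map_mul ρ _ _)) }
  obtain ⟨h', hh'⟩ := Module.Baer.of_injective h (I.comap ρ) g'
  refine ⟨{ toFun := fun b => e (h' (ρ.symm b))
            map_add' := fun a b => by rw [map_add, map_add, map_add]
            map_smul' := fun r b => ?_ }, fun b hb => ?_⟩
  · rw [RingHom.id_apply, smul_eq_mul, map_mul, ← smul_eq_mul, map_smul, he, ρ.apply_symm_apply]
  · have hb' : ρ.symm b ∈ I.comap ρ := by
      rw [Ideal.mem_comap, ρ.apply_symm_apply]; exact hb
    refine (congrArg e (hh' _ hb')).trans ((e.apply_symm_apply _).trans (congrArg g (Subtype.ext ?_)))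
    exact ρ.apply_symm_apply b

theorem injective_stalkMod [IsLocallyNoetherian X] (I : X.Modules) [Injective I] :
    Injective (ModSite.stalkMod (O := X.sheaf) (pt x) I) :=
  haveI : Module.Injective (ModSite.stalkRing (pt x) X.sheaf) (ModSite.stalkMod (O := X.sheaf) (pt x) I) :=
    injective_of_semilinear (ringCmp x) (modCmp x I) (modCmp_smul x I) (InjMod.injective_stalk I x)
  Module.injective_object_of_injective_module _ _

end Groth.Agent.CohMop
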