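import Groth.Agent.Lib.CohMop.StalkHom
import Groth.Agent.Lib.CohMop.SiteStalk
import Groth.Agent.Lib.CohMop.ExtCoh
import Groth.Agent.Lib.CohMop.ExtLin
import Mathlib.CategoryTheory.Preadditive.Injective.Resolution
import Mathlib.CategoryTheory.Sites.Point.Skyscraper

/-!
# Stalks of local Ext sheaves
-/

set_option autoImplicit false
set_option linter.style.haveILetI false
set_option linter.unusedSectionVars false
set_option backward.isDefEq.respectTransparency false
set_option backward.isDefEq.respectTransparency.types false

universe u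

open CategoryTheory CategoryTheory.Limits AlgebraicGeometry Opposite TopologicalSpace

namespace Groth.Agent.CohMop

variable {X : Scheme.{u}} (x : X)

/-- The stalk functor to modules over the local ring. -/
noncomputable def stFun : X.Modules ⥤ ModuleCat.{u} (ModSite.stalkRing (pt x) X.sheaf) where
  obj F := ModSite.stalkMod (O := X.sheaf) (pt x) F
  map φ := ModSite.stalkMap (O := X.sheaf) (pt x) φ
  map_id F := ModuleCat.hom_ext (LinearMap.ext fun a => by
    show ((pt x).sheafFiber.map ((SheafOfModules.toSheaf (ModSite.ringSh X.sheaf)).map (𝟙 F))).hom a = a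
    rw [CategoryTheory.Functor.map_id, CategoryTheory.Functor.map_id]
    rfl)
  map_comp φ ψ := ModuleCat.hom_ext (LinearMap.ext fun a => by
    show ((pt x).sheafFiber.map ((SheafOfModules.toSheaf (ModSite.ringSh X.sheaf)).map (φ ≫ ψ))).hom a = _
    rw [Functor.map_comp, Functor.map_comp]
    rfl)

instance preservesFiniteLimits_toSheaf :
    PreservesFiniteLimits (SheafOfModules.toSheaf.{u} (ModSite.ringSh X.sheaf)) :=
  inferInstanceAs (PreservesFiniteLimits (SheafOfModules.toSheaf.{u} X.ringCatSheaf))

instance preservesFiniteColimits_toSheaf :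
    PreservesFiniteColimits (SheafOfModules.toSheaf.{u} (ModSite.ringSh X.sheaf)) :=
  haveI : PreservesColimitsOfSize.{u, u} (SheafOfModules.toSheaf.{u} (ModSite.ringSh X.sheaf)) := ⟨inferInstance⟩
  PreservesColimitsOfSize.preservesFiniteColimits _

instance additive_sheafFiber : ((pt x).sheafFiber (A := AddCommGrpCat.{u})).Additive := by
  haveI := preservesBinaryBiproducts_of_preservesBinaryCoproducts ((pt x).sheafFiber (A := AddCommGrpCat.{u}))
  exact Functor.additive_of_preservesBinaryBiproducts _

/-- On underlying groups it is the fibre functor. -/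
noncomputable def stFunForget :
    stFun x ⋙ forget₂ _ AddCommGrpCat.{u} ≅ SheafOfModules.toSheaf (ModSite.ringSh X.sheaf) ⋙ (pt x).sheafFiber :=
  NatIso.ofComponents (fun _ => Iso.refl _) fun _ => by
    ext a
    rfl

instance additive_stFun : (stFun x).Additive where
  map_add {F G f g} := ModuleCat.hom_ext (LinearMap.ext fun a => by
    show ((pt x).sheafFiber.map ((SheafOfModules.toSheaf (ModSite.ringSh X.sheaf)).map (f + g))).hom a = _
    rw [Functor.map_add, Functor.map_add]
    rfl)

instance preservesHomology_stFun : (stFun x).PreservesHomology := by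
  refine Functor.preservesHomology_of_map_exact _ fun S hS => ?_
  rw [← ShortComplex.exact_map_iff_of_faithful _ (forget₂ (ModuleCat.{u} (ModSite.stalkRing (pt x) X.sheaf)) AddCommGrpCat.{u})]
  let T : X.Modules ⥤ AddCommGrpCat.{u} := SheafOfModules.toSheaf (ModSite.ringSh X.sheaf) ⋙ (pt x).sheafFiber
  haveI h1 : PreservesFiniteLimits T :=
    comp_preservesFiniteLimits (SheafOfModules.toSheaf.{u} (ModSite.ringSh X.sheaf)) ((pt x).sheafFiber (A := AddCommGrpCat.{u}))
  haveI h2 : PreservesFiniteColimits T :=
    comp_preservesFiniteColimits (SheafOfModules.toSheaf.{u} (ModSite.ringSh X.sheaf)) ((pt x).sheafFiber (A := AddCommGrpCat.{u}))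
  haveI h3 : T.Additive := by
    haveI := preservesBinaryBiproducts_of_preservesBinaryCoproducts T
    exact Functor.additive_of_preservesBinaryBiproducts _
  exact ShortComplex.exact_of_iso (S.mapNatIso (show T ≅ stFun x ⋙ forget₂ _ AddCommGrpCat.{u} from (stFunForget x).symm))
    (hS.map T)

variable {x} {F : X.Modules}

/-- Stalks of the internal hom out of a finitely presented module. -/
noncomputable def stalkIhomIso [ModSite.HasSheafHom (O := X.sheaf) F]
    [SheafOfModules.IsFinitePresentation (R := ModSite.ringSh X.sheaf) F] :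
    ModSite.sheafHom (O := X.sheaf) F ⋙ stFun x ≅
      stFun x ⋙ (linearCoyoneda (ModSite.stalkRing (pt x) X.sheaf) (ModuleCat.{u} (ModSite.stalkRing (pt x) X.sheaf))).obj
        (op ((stFun x).obj F)) :=
  NatIso.ofComponents
    (fun G => ((LinearEquiv.ofBijective (SH.evLin (M := F) (N := G) (x := x))
      ⟨SH.evLin_injective, SH.evLin_surjective⟩).trans (ModuleCat.homLinearEquiv (S := ModSite.stalkRing (pt x) X.sheaf)
        (M := (stFun x).obj F) (N := (stFun x).obj G)).symm).toModuleIso)
    fun {G G'} f => ModuleCat.hom_ext (LinearMap.ext fun a => ModuleCat.hom_ext (LinearMap.ext fun b =>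
      SH.evLin_natural f a b))

/-- The stalk of an injective resolution. -/
noncomputable def stResolution [IsLocallyNoetherian X] {G : X.Modules} (I : InjectiveResolution G) :
    InjectiveResolution ((stFun x).obj G) where
  cocomplex := ((stFun x).mapHomologicalComplex _).obj I.cocomplex
  injective n := injective_stalkMod x (I.cocomplex.X n)
  ι := (HomologicalComplex.singleMapHomologicalComplex (stFun x) (ComplexShape.up ℕ) 0).inv.app G ≫
    ((stFun x).mapHomologicalComplex _).map I.ι
  quasiIso := by
    haveI : QuasiIso (((stFun x).mapHomologicalComplex (ComplexShape.up ℕ)).map I.ι) :=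
      HomologicalComplex.quasiIso_map_of_preservesHomology _ _
    exact quasiIso_comp _ _

variable (x)

/-- Stalks of local Ext sheaves. -/
theorem nonempty_stalk_extSh [IsLocallyNoetherian X] (hF : Coh.IsCoh F) (G : X.Modules) (i : ℕ) :
    Nonempty ((stFun x).obj (((ihom F).rightDerived i).obj G) ≅
      ModuleCat.of _ (Abelian.Ext ((stFun x).obj F) ((stFun x).obj G) i)) := by
  haveI : ModSite.HasSheafHom (O := X.sheaf) F := isLeftAdjoint_tenR F
  haveI : SheafOfModules.IsFinitePresentation (R := ModSite.ringSh X.sheaf) F := M1.isFP_of_isCoh hF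
  let A := ModSite.stalkRing (pt x) X.sheaf
  let θ : ihom F ⋙ stFun x ≅ stFun x ⋙ (linearCoyoneda A (ModuleCat.{u} A)).obj (op ((stFun x).obj F)) :=
    stalkIhomIso
  let I := injectiveResolution G
  exact ⟨(stFun x).mapIso (I.isoRightDerivedObj (ihom F) i) ≪≫
    (((((ihom F).mapHomologicalComplex _).obj I.cocomplex).sc i).mapHomologyIso (stFun x)).symm ≪≫
    (HomologicalComplex.homologyFunctor _ _ i).mapIso
      ((Functor.mapHomologicalComplexCompIso (Iso.refl (ihom F ⋙ stFun x)) (ComplexShape.up ℕ)).app _ ≪≫
        (NatIso.mapHomologicalComplex θ _).app I.cocomplex ≪≫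
        (Functor.mapHomologicalComplexCompIso
          (Iso.refl (stFun x ⋙ (linearCoyoneda A (ModuleCat.{u} A)).obj (op ((stFun x).obj F))))
          (ComplexShape.up ℕ)).symm.app _) ≪≫
    linHomCxHomologyIso A ((stFun x).obj F) (stResolution I) i⟩

end Groth.Agent.CohMop
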