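import Groth.Agent.Lib.CohFound.ClosedImmPush
import Groth.Agent.Lib.CohGab13.Basic

/-!
# A coherent module with prescribed closed support, on any scheme with coherent closed immersions
-/

set_option autoImplicit false
set_option linter.style.haveILetI false
set_option backward.isDefEq.respectTransparency false
set_option backward.isDefEq.respectTransparency.types false

universe u
open CategoryTheory AlgebraicGeometry TopologicalSpace

namespace Groth.Agent.CohMop

open Groth.Agent Groth.Agent.CohFound

theorem mem_support_structureModule' {X : Scheme.{u}} (x : X) : x ∈ CohB1.support (Coh.structureModule X) := by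
  intro h
  haveI := h
  let s : Γ(Coh.structureModule X, (⊤ : X.Opens)) := (1 : Γ(X, ⊤))
  obtain ⟨W, hxW, i, j, e⟩ := (Coh.structureModule X).presheaf.germ_eq x (TopologicalSpace.Opens.mem_top x)
    (TopologicalSpace.Opens.mem_top x) s 0 (Subsingleton.elim _ _)
  rw [map_zero] at e
  have e' : (1 : Γ(X, W)) = 0 := (map_one (X.presheaf.map i.op).hom).symm.trans e
  have := congrArg (X.presheaf.germ W x hxW) e'
  rw [map_one, map_zero] at this
  exact one_ne_zero this

/-- On a locally Noetherian scheme each closed set is the support of a coherent module. -/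
theorem exists_isCoh_support_eq {X : Scheme.{u}} [IsLocallyNoetherian X] (Z : Closeds X) :
    ∃ F : X.Modules, Coh.IsCoh F ∧ CohB1.support F = (Z : Set X) := by
  let i := (Scheme.IdealSheafData.vanishingIdeal Z).subschemeι
  have hrange : Set.range i = (Z : Set X) := by
    rw [Scheme.IdealSheafData.range_subschemeι, Scheme.IdealSheafData.coe_support_vanishingIdeal]
  let N := (Scheme.Modules.pullback i).obj (Coh.structureModule X)
  have hO := M1.isCoh_structureModule X
  refine ⟨(Scheme.Modules.pushforward i).obj N, isCoh_push_closedImm _ (M1.isCoh_pullback _ hO), ?_⟩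
  have hbij : ∀ z, Function.Bijective (TopCat.Presheaf.stalkPushforward AddCommGrpCat.{u} i.base N.presheaf z) :=
    fun z => by
      have := TopCat.Presheaf.stalkPushforward.stalkPushforward_iso_of_isInducing (C := AddCommGrpCat.{u})
        (f := i.base) i.isClosedEmbedding.isInducing N.presheaf z
      exact ConcreteCategory.bijective_of_isIso _
  ext x
  by_cases hx : x ∈ (Z : Set X)
  · obtain ⟨z, rfl⟩ : x ∈ Set.range i := hrange.symm ▸ hx
    refine iff_of_true (fun hs => ?_) hx
    have : z ∈ CohB1.support N := by
      rw [M2.support_pullback i hO.1 hO.2]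
      exact mem_support_structureModule' (i z)
    exact this (@Equiv.subsingleton _ _ (Equiv.ofBijective _ (hbij z)).symm hs)
  · refine iff_of_false (not_not_intro ?_) hx
    have hxr : x ∉ Set.range i := hrange ▸ hx
    exact ⟨fun a b => (M1.eq_zero_stalk_push i _ hxr a).trans (M1.eq_zero_stalk_push i _ hxr b).symm⟩

end Groth.Agent.CohMop
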