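import Groth.Agent.Lib.CohMop.TildeExt
import Groth.Agent.Lib.ExtSupp8.Quot
import Groth.Agent.Lib.RFPlus.Acyclic
import Groth.Agent.Lib.LocCohZ.QCoh
import Groth.Prelude.Def_ModSite2

/-!
# Local Ext sheaves with supports are quasi-coherent
-/

set_option autoImplicit false
set_option linter.style.haveILetI false
set_option linter.unusedSectionVars false
set_option backward.isDefEq.respectTransparency false
set_option backward.isDefEq.respectTransparency.types false

universe u

open CategoryTheory CategoryTheory.Limits AlgebraicGeometry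

namespace Groth.Agent.CohMop

open Groth.Agent

attribute [local instance] HasDerivedCategory.standard

variable {X : Scheme.{u}}

/-- A left exact functor preserving quasi-coherence has quasi-coherent derived functors on quasi-coherent
modules, on a locally Noetherian scheme. -/
theorem isQCoh_rightDerived [IsLocallyNoetherian X] (T : X.Modules ⥤ X.Modules) [T.Additive]
    [PreservesFiniteLimits T] (hT : ∀ M, Coh.IsQCoh M → Coh.IsQCoh (T.obj M)) :
    ∀ (i : ℕ) (M : X.Modules), Coh.IsQCoh M → Coh.IsQCoh ((T.rightDerived i).obj M)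
  | 0, M, hM => M1.isQCoh_of_isIso (T.rightDerivedZeroIsoSelf.app M).symm (hT M hM)
  | i + 1, M, hM => by
    obtain ⟨I, f, hI, hf⟩ := InjMod.exists_injectiveHull.{u} M
    haveI := hf.mono
    have hq : Coh.IsQCoh I := InjMod.isQCoh_of_essential hM hf
    let S : ShortComplex X.Modules := ShortComplex.mk f (cokernel.π f) (cokernel.condition f)
    have hS : S.ShortExact := ShortComplex.ShortExact.mk' (ShortComplex.exact_cokernel f) inferInstance inferInstance
    obtain ⟨w₂, δ, w₃, w₁, -, e₃, e₁⟩ := RFPlus.exists_long_exact_sing T S hS i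
    have h0 : IsZero ((RFPlus.HR T ((i : ℤ) + 1)).obj (RFPlus.sing I)) :=
      ((T.isZero_rightDerived_obj_injective_succ i I).of_iso (RFPlus.rightDerivedIso T I (i + 1)))
    haveI : Epi δ := e₁.epi_f (h0.eq_of_tgt _ _)
    have h₂ := M1.isQCoh_of_isIso (RFPlus.rightDerivedIso T I i).symm (isQCoh_rightDerived T hT i I hq)
    have h₃ := M1.isQCoh_of_isIso (RFPlus.rightDerivedIso T (cokernel f) i).symm
      (isQCoh_rightDerived T hT i (cokernel f) (M1.isQCoh_cokernel hM hq f))
    exact M1.isQCoh_of_isIso ((colimit.isColimit _).coconePointUniqueUpToIso e₃.gIsCokernel ≪≫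
      RFPlus.rightDerivedIso T M (i + 1))
      (M1.isQCoh_cokernel h₂ h₃ ((RFPlus.HR T (i : ℤ)).map (RFPlus.singMap S.g)))

/-- Restriction followed by direct image, for the two descriptions of modules on an open. -/
noncomputable def pushOverObjIso (U : X.Opens) [ModSite.HasPushOver X.sheaf U] (M : X.Modules) :
    (ModSite.pushOver X.sheaf U).obj ((ModSite.restr X.sheaf U).obj M) ≅
      (Scheme.Modules.pushforward U.ι).obj ((Scheme.Modules.restrictFunctor U.ι).obj M) :=
  let E := Scheme.Modules.overEquiv U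
  let e : E.inverse ⋙ ModSite.pushOver X.sheaf U ≅ Scheme.Modules.pushforward U.ι :=
    (((ModSite.restrPushOverAdj X.sheaf U).comp E.toAdjunction).ofNatIsoLeft
      (Scheme.Modules.overFunctorEquiv U)).rightAdjointUniq (Scheme.Modules.restrictAdjunction U.ι)
  (ModSite.pushOver X.sheaf U).mapIso (E.unitIso.app _) ≪≫ e.app _ ≪≫
    (Scheme.Modules.pushforward U.ι).mapIso ((Scheme.Modules.overFunctorEquiv U).app M)

/-- Sections with supports of quasi-coherent modules are quasi-coherent. -/
theorem isQCoh_sectOn [IsLocallyNoetherian X] (U : X.Opens) [ModSite.HasPushOver X.sheaf U] {M : X.Modules}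
    (hM : Coh.IsQCoh M) : Coh.IsQCoh ((ModSite.sectOn X.sheaf U).obj M) := by
  haveI := LocCohZQ.preservesFiniteLimits_pp U.ι
  have h : Coh.IsQCoh ((ModSite.pushOver X.sheaf U).obj ((ModSite.restr X.sheaf U).obj M)) :=
    M1.isQCoh_of_isIso (pushOverObjIso U M).symm
      (M1.isQCoh_of_isIso ((LocCohZQ.pp U.ι).rightDerivedZeroIsoSelf.app M)
        (LocCohZQ.isQCoh_pp_derived U.ι hM 0))
  exact M1.isQCoh_kernel hM h ((ModSite.restrPushOverAdj X.sheaf U).unit.app M)

/-- Local Ext sheaves with supports are quasi-coherent. -/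
theorem isQCoh_extZ [IsLocallyNoetherian X] (U : X.Opens) [ModSite.HasPushOver X.sheaf U]
    {F G : X.Modules} (hF : Coh.IsCoh F) (hG : Coh.IsQCoh G)
    [(ihom F ⋙ ModSite.sectOn X.sheaf U).Additive] (i : ℕ) :
    Coh.IsQCoh (((ihom F ⋙ ModSite.sectOn X.sheaf U).rightDerived i).obj G) := by
  haveI : PreservesLimitsOfSize.{0, 0} (ModSite.sectOn X.sheaf U) :=
    (ExtSupp8.quotSectAdj X.sheaf U).rightAdjoint_preservesLimits
  haveI : PreservesLimitsOfSize.{0, 0} (ihom F) := preservesLimits_ihom F
  haveI : PreservesLimitsOfSize.{0, 0} (ihom F ⋙ ModSite.sectOn X.sheaf U) :=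
    comp_preservesLimits (ihom F) (ModSite.sectOn X.sheaf U)
  haveI : PreservesFiniteLimits (ihom F ⋙ ModSite.sectOn X.sheaf U) :=
    PreservesLimitsOfSize.preservesFiniteLimits _
  exact isQCoh_rightDerived (ihom F ⋙ ModSite.sectOn X.sheaf U)
    (fun M hM => isQCoh_sectOn U (homQC_of_isFP (M1.isFP_of_isCoh hF) M hM)) i G hG

end Groth.Agent.CohMop
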