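import Groth.Agent.Lib.CohMop.ExtCoh
import Groth.Agent.Lib.InjMod.QCohInj

/-!
# Local Ext along isomorphisms of schemes
-/

set_option autoImplicit false
set_option linter.style.haveILetI false
set_option linter.unusedSectionVars false
set_option backward.isDefEq.respectTransparency false
set_option backward.isDefEq.respectTransparency.types false

universe u

open CategoryTheory CategoryTheory.Limits AlgebraicGeometry

noncomputable section

namespace Groth.Agent.CohMop

open Groth.Agent KFlat KFlat.Sch

variable {X Y : Scheme.{u}} (e : X ⟶ Y) [IsIso e]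

/-- Tensor commutes with transport. -/
def isoTenIso (F : Y.Modules) :
    tenR F ⋙ (InjMod.restrictEquiv e).functor ≅
      (InjMod.restrictEquiv e).functor ⋙ tenR ((InjMod.restrictEquiv e).functor.obj F) :=
  NatIso.ofComponents (fun M => M2.restrictTensorIso e M F) fun {M M'} f => by
    change (Scheme.Modules.restrictFunctor e).map (((TX Y).map f).app F) ≫ _ =
      _ ≫ ((TX X).map ((Scheme.Modules.restrictFunctor e).map f)).app ((Scheme.Modules.restrictFunctor e).obj F)
    rw [RHom.map_eq_tensorMap_left, RHom.map_eq_tensorMap_left, ← CategoryTheory.Functor.map_id]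
    exact RHom.restrictTensorIso_natural e f (𝟙 F)

/-- Internal Hom commutes with transport. -/
def isoIhomIso (F : Y.Modules) :
    ihom F ⋙ (InjMod.restrictEquiv e).functor ≅
      (InjMod.restrictEquiv e).functor ⋙ ihom ((InjMod.restrictEquiv e).functor.obj F) :=
  let E := InjMod.restrictEquiv e
  (E.symm.toAdjunction.comp (ihomAdj F)).rightAdjointUniq
    (((ihomAdj (E.functor.obj F)).comp E.symm.toAdjunction).ofNatIsoLeft
      (Functor.isoWhiskerRight ((Functor.leftUnitor _).symm ≪≫ Functor.isoWhiskerRight E.counitIso.symm _ ≪≫
          Functor.associator _ _ _ ≪≫ Functor.isoWhiskerLeft E.inverse (isoTenIso e F).symm ≪≫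
          (Functor.associator _ _ _).symm) E.inverse ≪≫
        Functor.associator _ _ _ ≪≫ Functor.isoWhiskerLeft _ E.unitIso.symm ≪≫ Functor.rightUnitor _))

attribute [local instance] HasDerivedCategory.standard in
/-- Local Ext commutes with transport. -/
def isoExtIso (F : Y.Modules) (i : ℕ) :
    haveI := fun Q : X.Modules => additive_ihom Q
    haveI := fun Q : Y.Modules => additive_ihom Q
    (ihom F).rightDerived i ⋙ Scheme.Modules.restrictFunctor e ≅
      Scheme.Modules.restrictFunctor e ⋙ (ihom ((Scheme.Modules.restrictFunctor e).obj F)).rightDerived i :=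
  haveI := fun Q : X.Modules => additive_ihom Q
  haveI := fun Q : Y.Modules => additive_ihom Q
  let R := (InjMod.restrictEquiv e).functor
  haveI : R.Additive := Functor.additive_of_preserves_binary_products R
  haveI : R.PreservesHomology := inferInstance
  haveI : R.PreservesInjectiveObjects := Functor.preservesInjectiveObjects_of_adjunction_of_preservesMonomorphisms
    (InjMod.restrictEquiv e).symm.toAdjunction
  (RDComp.rightDerivedPostIso (ihom F) R i).symm ≪≫
    { hom := NatTrans.rightDerived (isoIhomIso e F).hom i
      inv := NatTrans.rightDerived (isoIhomIso e F).inv i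
      hom_inv_id := by rw [← NatTrans.rightDerived_comp, Iso.hom_inv_id, NatTrans.rightDerived_id]
      inv_hom_id := by rw [← NatTrans.rightDerived_comp, Iso.inv_hom_id, NatTrans.rightDerived_id] } ≪≫
    RDComp.rightDerivedCompIso R (ihom _) i

end Groth.Agent.CohMop
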