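import Groth.Agent.Lib.CohMop.ExtZVanish
import Groth.Agent.Lib.Depth.CM
import Groth.Agent.Lib.UCat.Universal
import Groth.Agent.Lib.UCat.Grading
import Groth.Agent.Lib.UCat.Formal
import Groth.Agent.Lib.RefHull26.Dual

/-!
# Local Ext with supports into the structure sheaf of a regular scheme
-/

set_option autoImplicit false
set_option linter.style.haveILetI false
set_option linter.unusedSectionVars false
set_option backward.isDefEq.respectTransparency false
set_option backward.isDefEq.respectTransparency.types false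

universe u

open CategoryTheory CategoryTheory.Limits AlgebraicGeometry TopologicalSpace

noncomputable section

namespace Groth.Agent.CohMop

open Groth.Agent

/-- Heights of primes between two primes of a Cohen-Macaulay ring take all intermediate values. -/
theorem exists_height_eq {R : Type u} [CommRing R] [LocCoh.IsCohenMacaulayRing R] (n : ℕ) :
    ∀ (k : ℕ) (p q : PrimeSpectrum R), p ≤ q → p.asIdeal.height + k = n → (n : ℕ∞) ≤ q.asIdeal.height →
      ∃ r, p ≤ r ∧ r ≤ q ∧ r.asIdeal.height = n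
  | 0, p, q, hpq, hp, _ => ⟨p, le_rfl, hpq, by simpa using hp⟩
  | k + 1, p, q, hpq, hp, hq => by
    have hlt : p < q := by
      refine lt_of_le_of_ne hpq fun h => ?_
      subst h
      obtain ⟨a, ha⟩ := ENat.ne_top_iff_exists.1 (show p.asIdeal.height ≠ ⊤ from fun h => by rw [h] at hp; simp at hp)
      rw [← ha] at hp hq
      norm_cast at hp hq
      omega
    obtain ⟨r', hcov, hr'q⟩ := UCat.exists_covBy_le hlt
    obtain ⟨r, h1, h2, h3⟩ := exists_height_eq n k r' q hr'q
      (by rw [UCat.height_eq_height_add_one hcov, add_assoc, add_comm (1 : ℕ∞), ← Nat.cast_one, ← Nat.cast_add]; exact hp) hq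
    exact ⟨r, hcov.le.trans h1, h2, h3⟩

variable {X : Scheme.{u}}

/-- The dimension of the local ring at a point of an affine open. -/
theorem ringKrullDim_stalk_eq_height {A : X.Opens} (hA : IsAffineOpen A) {y : X} (hy : y ∈ A) :
    ringKrullDim (X.presheaf.stalk y) = (hA.primeIdealOf ⟨y, hy⟩).asIdeal.height := by
  let := TopCat.Presheaf.algebra_section_stalk X.presheaf (⟨y, hy⟩ : A)
  haveI := hA.isLocalization_stalk ⟨y, hy⟩
  exact IsLocalization.AtPrime.ringKrullDim_eq_height (hA.primeIdealOf ⟨y, hy⟩).asIdeal (X.presheaf.stalk y)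

theorem primeIdealOf_le_of_specializes {A : X.Opens} (hA : IsAffineOpen A) {η y : X} (hη : η ∈ A) (hy : y ∈ A)
    (h : η ⤳ y) : hA.primeIdealOf ⟨η, hη⟩ ≤ hA.primeIdealOf ⟨y, hy⟩ :=
  (PrimeSpectrum.le_iff_specializes _ _).2 <| hA.fromSpec.isOpenEmbedding.isInducing.specializes_iff.1 <| by
    rwa [IsAffineOpen.fromSpec_primeIdealOf, IsAffineOpen.fromSpec_primeIdealOf]

theorem isRegularRing_of_stalks (hreg : ∀ x : X, IsRegularLocalRing (X.presheaf.stalk x)) [IsLocallyNoetherian X]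
    {A : X.Opens} (hA : IsAffineOpen A) : IsRegularRing Γ(X, A) := by
  haveI := IsLocallyNoetherian.component_noetherian (X := X) ⟨A, hA⟩
  refine isRegularRing_iff.2 fun p hp => ?_
  have hy : hA.fromSpec ⟨p, hp⟩ ∈ A := hA.range_fromSpec.le ⟨_, rfl⟩
  let := TopCat.Presheaf.algebra_section_stalk X.presheaf (⟨hA.fromSpec ⟨p, hp⟩, hy⟩ : A)
  haveI := hA.isLocalization_stalk ⟨hA.fromSpec ⟨p, hp⟩, hy⟩
  have he : hA.primeIdealOf ⟨hA.fromSpec ⟨p, hp⟩, hy⟩ = ⟨p, hp⟩ :=
    hA.fromSpec.isOpenEmbedding.injective (hA.fromSpec_primeIdealOf _)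
  haveI : IsLocalization.AtPrime (X.presheaf.stalk (hA.fromSpec ⟨p, hp⟩)) p := by
    have h := hA.isLocalization_stalk ⟨hA.fromSpec ⟨p, hp⟩, hy⟩
    rw [he] at h
    exact h
  haveI := hreg (hA.fromSpec ⟨p, hp⟩)
  exact IsRegularLocalRing.of_ringEquiv
    (IsLocalization.algEquiv p.primeCompl (X.presheaf.stalk (hA.fromSpec ⟨p, hp⟩)) (Localization.AtPrime p)).toRingEquiv

variable [IsLocallyNoetherian X]

/-- Near a point of dimension above `n` of a closed set avoiding dimension `n`, all dimensions are above `n`. -/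
theorem exists_nhd_dim_gt (hreg : ∀ x : X, IsRegularLocalRing (X.presheaf.stalk x)) (Z : Closeds X) (n : ℕ)
    (hn : ∀ y ∈ Z, ringKrullDim (X.presheaf.stalk y) ≠ (n : WithBot ℕ∞)) {x : X}
    (hx : (n : WithBot ℕ∞) < ringKrullDim (X.presheaf.stalk x)) :
    ∃ W : X.Opens, x ∈ W ∧ ∀ y ∈ W, y ∈ Z → (n : WithBot ℕ∞) < ringKrullDim (X.presheaf.stalk y) := by
  obtain ⟨A, hA, hxA, -⟩ := exists_isAffineOpen_mem_and_subset (X := X) (x := x) (U := ⊤) trivial
  have hNS : NoetherianSpace A := by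
    haveI := IsLocallyNoetherian.component_noetherian (X := X) ⟨A, hA⟩
    exact noetherianSpace_of_isAffineOpen A hA
  haveI := isRegularRing_of_stalks hreg hA
  haveI := IsLocallyNoetherian.component_noetherian (X := X) ⟨A, hA⟩
  haveI : LocCoh.IsCohenMacaulayRing Γ(X, A) := UCat.isCM_of_regular _
  let S : Set A := Subtype.val ⁻¹' (Z : Set X)
  have hScl : IsClosed S := Z.isClosed.preimage continuous_subtype_val
  obtain ⟨P, hPfin, hPcl, hPirr, hSP⟩ :=
    @NoetherianSpace.exists_finite_set_isClosed_irreducible _ _ hNS S hScl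
  let Bad := {C ∈ P | (⟨x, hxA⟩ : A) ∉ C}
  have hBad : IsClosed (⋃₀ Bad) := Set.sUnion_eq_biUnion ▸
    (hPfin.subset fun C hC => hC.1).isClosed_biUnion fun C hC => hPcl C hC.1
  obtain ⟨W₀, hW₀, hW₀eq⟩ := isOpen_induced_iff.1 hBad.isOpen_compl
  refine ⟨⟨W₀, hW₀⟩ ⊓ A, ⟨?_, hxA⟩, fun y hy hyZ => ?_⟩
  · show (⟨x, hxA⟩ : A) ∈ Subtype.val ⁻¹' W₀
    rw [hW₀eq]
    rintro ⟨C, hC, hxC⟩
    exact hC.2 hxC
  have hyS : (⟨y, hy.2⟩ : A) ∈ ⋃₀ P := hSP ▸ hyZ
  obtain ⟨C, hCP, hyC⟩ := hyS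
  have hxC : (⟨x, hxA⟩ : A) ∈ C := by
    by_contra hxC
    have h : (⟨y, hy.2⟩ : A) ∈ Subtype.val ⁻¹' W₀ := hy.1
    rw [hW₀eq] at h
    exact h ⟨C, ⟨hCP, hxC⟩, hyC⟩
  haveI : QuasiSober A := A.2.isOpenEmbedding_subtypeVal.quasiSober
  obtain ⟨η, hη⟩ := QuasiSober.sober (hPirr C hCP) (hPcl C hCP)
  have hηS : η ∈ S := hSP ▸ ⟨C, hCP, hη.mem⟩
  have hηy : η.1 ⤳ y := (hη.specializes hyC).map continuous_subtype_val
  have hηx : η.1 ⤳ x := (hη.specializes hxC).map continuous_subtype_val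
  let pη := hA.primeIdealOf ⟨η.1, η.2⟩
  let py := hA.primeIdealOf ⟨y, hy.2⟩
  let px := hA.primeIdealOf ⟨x, hxA⟩
  have hle : pη ≤ py := primeIdealOf_le_of_specializes hA η.2 hy.2 hηy
  have hlex : pη ≤ px := primeIdealOf_le_of_specializes hA η.2 hxA hηx
  rw [ringKrullDim_stalk_eq_height hA hxA] at hx
  have hx' : (n : ℕ∞) < px.asIdeal.height := by exact_mod_cast hx
  rw [ringKrullDim_stalk_eq_height hA hy.2]
  have : (n : ℕ∞) < pη.asIdeal.height := by
    by_contra hcon
    obtain ⟨a, ha⟩ := ENat.ne_top_iff_exists.1 (show pη.asIdeal.height ≠ ⊤ from fun h => by rw [h] at hcon; simp at hcon)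
    rw [← ha] at hcon
    have han : a ≤ n := by exact_mod_cast not_lt.1 hcon
    obtain ⟨r, hr1, -, hr⟩ := exists_height_eq n (n - a) pη px hlex
      (by rw [← ha]; exact_mod_cast (Nat.add_sub_cancel' han)) hx'.le
    let z := hA.fromSpec r
    have hzA : z ∈ A := hA.range_fromSpec.le ⟨_, rfl⟩
    have hzr : hA.primeIdealOf ⟨z, hzA⟩ = r := hA.fromSpec.isOpenEmbedding.injective (hA.fromSpec_primeIdealOf _)
    have hηz : η.1 ⤳ z := by
      have h := ((PrimeSpectrum.le_iff_specializes _ _).1 hr1).map hA.fromSpec.continuous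
      rwa [IsAffineOpen.fromSpec_primeIdealOf] at h
    refine hn z (hηz.mem_closed Z.isClosed hηS) ?_
    rw [ringKrullDim_stalk_eq_height hA hzA, hzr, hr]
    rfl
  exact_mod_cast this.trans_le (Ideal.height_mono hle)

/-- Restriction of derived `ℋom(F, Γ_Z -)` to an open. -/
theorem nonempty_restrict_gammaHom (U W : X.Opens) (F : X.Modules) (i : ℕ) :
    Nonempty ((gammaHom U F).rightDerived i ⋙ Scheme.Modules.restrictFunctor W.ι ≅
      Scheme.Modules.restrictFunctor W.ι ⋙
        (gammaHom (W.ι ⁻¹ᵁ U) ((Scheme.Modules.restrictFunctor W.ι).obj F)).rightDerived i) := by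
  haveI := LocCohZQ.preservesHomology_restrict (X := X) W.ι
  let θ : gammaHom U F ⋙ Scheme.Modules.restrictFunctor W.ι ≅
      Scheme.Modules.restrictFunctor W.ι ⋙ gammaHom (W.ι ⁻¹ᵁ U) ((Scheme.Modules.restrictFunctor W.ι).obj F) :=
    Functor.associator _ _ _ ≪≫ Functor.isoWhiskerLeft _ (restrictIhomIso W F) ≪≫ (Functor.associator _ _ _).symm ≪≫
      Functor.isoWhiskerRight (LocCohZQ.restrictIso U W.ι) _ ≪≫ Functor.associator _ _ _
  exact ⟨(RDComp.rightDerivedPostIso (gammaHom U F) (Scheme.Modules.restrictFunctor W.ι) i).symm ≪≫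
    rdMapIso θ i ≪≫ RDComp.rightDerivedCompIso (Scheme.Modules.restrictFunctor W.ι) _ i⟩

attribute [local instance] HasDerivedCategory.standard in
/-- Vanishing of local Ext with supports into `O` away from the critical dimension. -/
theorem isZero_extZ_structureModule (U : X.Opens) (hreg : ∀ x : X, IsRegularLocalRing (X.presheaf.stalk x))
    (T : Closeds X) {F : X.Modules} (hF : Coh.IsCoh F) (hFT : CohB1.support F ⊆ (T : Set X)) {n : ℕ}
    (hn : ∀ x ∈ T, x ∉ (U : Set X) → ringKrullDim (X.presheaf.stalk x) ≠ (n : WithBot ℕ∞)) :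
    IsZero (((extZFun U F).rightDerived n).obj (Coh.structureModule X)) := by
  have hO : Coh.IsCoh (Coh.structureModule X) := M1.isCoh_structureModule X
  refine IsZero.of_iso (isZero_of_stFun fun x => ?_) ((rdMapIso (extZIso U T hFT) n).app _)
  let U' := U ⊔ T.compl
  by_cases hx : x ∈ U'
  · exact isZero_stFun_rightDerived_of_null U' (fun M => isZero_extZ_above.isNullOn_gammaHom U' F M) n _ hx
  have hxT : x ∈ T := by_contra fun h => hx (Or.inr h)
  have hxU : x ∉ U := fun h => hx (Or.inl h)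
  rcases lt_or_gt_of_ne (hn x hxT hxU) with hlt | hgt
  · rcases n with - | m
    · exact absurd hlt (not_lt_of_ge ringKrullDim_nonneg_of_nontrivial)
    · exact isZero_stFun_gammaHom U' hF x m _ hO.1 (stalk_regular' hreg x hlt _)
  · obtain ⟨W, hxW, hW⟩ := exists_nhd_dim_gt hreg ⟨(U' : Set X)ᶜ, U'.2.isClosed_compl⟩ n
      (fun y hy => hn y (by_contra fun h => hy (Or.inr h)) fun h => hy (Or.inl h)) hgt
    have hz : IsZero ((Scheme.Modules.restrictFunctor W.ι).obj
        (((gammaHom U' F).rightDerived n).obj (Coh.structureModule X))) := by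
      obtain ⟨e⟩ := nonempty_restrict_gammaHom U' W F n
      refine IsZero.of_iso ?_ (e.app _)
      have hOW := DPerf.isCoh_restrict hO W.ι
      refine isZero_gammaHom_below (W.ι ⁻¹ᵁ U') _ (n + 1) _ hOW.1 (fun q hq => ?_) n (Nat.lt_succ_self n)
      refine (LocCohZQ.isZero_HZshM_iff (W.ι ⁻¹ᵁ U') _ q).2
        ((LocCohZQ.vanish_iff_depth (W.ι ⁻¹ᵁ U') _ hOW (n + 1)).2 (fun y hy => ?_) q hq)
      rw [← LocCohZQ.depth_restrict (Coh.structureModule X) W]
      have hd : (n : WithBot ℕ∞) < ringKrullDim (X.presheaf.stalk (W.ι y)) := hW (W.ι y) y.2 hy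
      haveI := hreg (W.ι y)
      haveI := Groth.Agent.DepthLib.isCohenMacaulayLocalRing_of_isRegularLocalRing (R := X.presheaf.stalk (W.ι y))
      rw [← Module.supportDim_self_eq_ringKrullDim, LocCoh.IsCohenMacaulayLocalRing.supportDim_eq_depth] at hd
      refine le_of_le_of_eq ?_ (DepthLib.idealDepth_congr (RH26.str (W.ι y)))
      show (((n + 1 : ℕ)) : ℕ∞) ≤ LocCoh.depth (X.presheaf.stalk (W.ι y)) (X.presheaf.stalk (W.ι y))
      rw [Nat.cast_add, Nat.cast_one]
      exact Order.add_one_le_of_lt (by exact_mod_cast hd)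
    haveI : Subsingleton ((stFun x).obj (((gammaHom U' F).rightDerived n).obj (Coh.structureModule X))) := ⟨fun a b => by
      obtain ⟨a, rfl⟩ := (modCmp x _).surjective a
      obtain ⟨b, rfl⟩ := (modCmp x _).surjective b
      have h := (M1.notMem_support_iff _ x).1 fun hs =>
        notMem_support_of_isZero hz ⟨x, hxW⟩ ((M1.subsingleton_stalk_restrict_iff W.ι _ ⟨x, hxW⟩).2 hs)
      rw [h a, h b]⟩
    exact ModuleCat.isZero_of_subsingleton _

end Groth.Agent.CohMop
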