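import Groth.Agent.Lib.InjMod.Coprod
import Groth.Agent.Lib.InjMod.Noeth
import Groth.Agent.Lib.InjMod.Hull
import Groth.Agent.Lib.InjMod.Scheme
import Mathlib.Order.Zorn
import Mathlib.CategoryTheory.Abelian.Refinements

/-!
# Decomposition of injective modules into indecomposables
-/

set_option autoImplicit false
set_option linter.style.haveILetI false
set_option linter.unusedSectionVars false
set_option backward.isDefEq.respectTransparency false
set_option backward.isDefEq.respectTransparency.types false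

universe u

open CategoryTheory CategoryTheory.Limits AlgebraicGeometry

namespace Groth.Agent.CohMop

open Groth.Agent InjMod

variable {X : Scheme.{u}}

/-- An indecomposable injective. -/
structure IsIndecInj (J : X.Modules) : Prop where
  inj : Injective J
  ne : ¬ IsZero J
  indec : ∀ A B : X.Modules, Nonempty (J ≅ A ⊞ B) → IsZero A ∨ IsZero B

/-- A nonzero injective contains an indecomposable injective. -/
theorem exists_indecInj_sub [IsLocallyNoetherian X] (K : X.Modules) [Injective K] (hK : ¬ IsZero K) :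
    ∃ (E : X.Modules) (f : E ⟶ K), Mono f ∧ IsIndecInj E := by
  have hs : ∃ (V : X.Opens) (_ : IsAffineOpen V) (s : Γ(K, V)), s ≠ 0 := by
    by_contra h
    push Not at h
    apply hK
    rw [IsZero.iff_id_eq_zero]
    refine Scheme.Modules.hom_ext _ _ fun V => ?_
    ext s
    refine M1.section_ext _ _ fun x hx => ?_
    obtain ⟨W, hW, hxW, hWV⟩ := exists_isAffineOpen_mem_and_subset (x := x) (U := V) hx
    have h0 : M1.mres K hWV (show Γ(K, V) from s) = 0 := h W hW _
    have h1 : K.presheaf.germ V x hx (show Γ(K, V) from s) = 0 := by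
      rw [← M1.germ_mres K hWV hxW, h0, map_zero]
    exact h1.trans (map_zero _).symm
  obtain ⟨V, hV, s, hs⟩ := hs
  obtain ⟨q₀, hq₀⟩ := exists_hom_gen V (M := K) s
  have hq0 : q₀ ≠ 0 := fun h => hs (by rw [← hq₀, h]; rfl)
  let N := CxOX.extZeroUnit V.ι
  let π : N ⟶ Abelian.coimage q₀ := Abelian.coimage.π q₀
  let ι' : Abelian.coimage q₀ ⟶ K := Abelian.factorThruCoimage q₀
  have hπι : π ≫ ι' = q₀ := Abelian.coimage.fac q₀
  haveI : WellFoundedGT (Subobject N) :=
    wellFoundedGT_iff_monotone_chain_condition.2 fun c => chain_stabilizes hV c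
  let s' : Set (Subobject N) :=
    {Q | ∃ (T : X.Modules) (g : Abelian.coimage q₀ ⟶ T) (P : X.Modules) (p : P ⟶ Abelian.coimage q₀),
      ¬ IsZero P ∧ Mono (p ≫ g) ∧ Q = kernelSubobject (π ≫ g)}
  have hL : ¬ IsZero (Abelian.coimage q₀) := fun h => hq0 (by rw [← hπι, h.eq_of_src ι' 0, comp_zero])
  have hne : s'.Nonempty := ⟨kernelSubobject (π ≫ 𝟙 _), Abelian.coimage q₀, 𝟙 _, Abelian.coimage q₀, 𝟙 _, hL, inferInstance, rfl⟩
  obtain ⟨Q, ⟨T, g, P, p, hP, hpg, rfl⟩, hmax⟩ := (wellFounded_gt (α := Subobject N)).has_min s' hne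
  have unif : ∀ {A B S : X.Modules} (a : A ⟶ P) (b : B ⟶ P) (q : P ⟶ S),
      Mono a → a ≫ q = 0 → Mono (b ≫ q) → IsZero A ∨ IsZero B := by
    intro A B S a b q ha haq hbq
    by_contra hcon
    push Not at hcon
    let g' := g ≫ cokernel.π (a ≫ p ≫ g)
    have hb : Mono ((b ≫ p) ≫ g') := by
      refine Preadditive.mono_of_cancel_zero _ fun {W} z hz => ?_
      haveI : Mono (p ≫ g) := hpg
      haveI : Mono a := ha
      haveI : Mono (a ≫ p ≫ g) := mono_comp _ _
      have hz' : (z ≫ b ≫ p ≫ g) ≫ cokernel.π (a ≫ p ≫ g) = 0 := by simpa [g', Category.assoc] using hz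
      let w := Abelian.monoLift (a ≫ p ≫ g) _ hz'
      have hw : w ≫ a = z ≫ b := by
        rw [← cancel_mono (p ≫ g)]
        have h := Abelian.monoLift_comp (a ≫ p ≫ g) _ hz'
        simp only [Category.assoc] at h ⊢
        exact h
      apply (cancel_mono (b ≫ q)).1
      rw [zero_comp, ← Category.assoc, ← hw, Category.assoc, haq, comp_zero]
    have hle : kernelSubobject (π ≫ g) ≤ kernelSubobject (π ≫ g') := by
      refine le_kernelSubobject _ _ ?_
      have aux : ∀ {Z : X.Modules} (k : T ⟶ Z), (kernelSubobject (π ≫ g)).arrow ≫ π ≫ g ≫ k = 0 := fun k => by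
        rw [← Category.assoc π, ← Category.assoc, kernelSubobject_arrow_comp, zero_comp]
      exact aux _
    have hmem : kernelSubobject (π ≫ g') ∈ s' := ⟨_, g', B, b ≫ p, hcon.2, hb, rfl⟩
    have heq : kernelSubobject (π ≫ g) = kernelSubobject (π ≫ g') :=
      hle.lt_or_eq.resolve_left (hmax _ hmem)
    obtain ⟨A', e, he, y, hy⟩ := surjective_up_to_refinements_of_epi π (a ≫ p)
    have hy0 : y ≫ π ≫ g' = 0 := by
      refine (Category.assoc y π g').symm.trans ((congrArg (· ≫ g') hy.symm).trans ?_)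
      have c : a ≫ p ≫ g ≫ cokernel.π (a ≫ p ≫ g) = 0 := by
        simpa only [Category.assoc] using cokernel.condition (a ≫ p ≫ g)
      simp only [g', Category.assoc]
      rw [c, comp_zero]
    have hy1 : y ≫ π ≫ g = 0 := by
      rw [← factorThruKernelSubobject_comp_arrow (π ≫ g') y hy0]
      have h : (kernelSubobject (π ≫ g')).arrow ≫ π ≫ g = 0 := by
        rw [← heq, kernelSubobject_arrow_comp]
      rw [Category.assoc, h, comp_zero]
    apply hcon.1
    haveI : Mono (p ≫ g) := hpg
    haveI : Mono a := ha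
    haveI : Mono (a ≫ p ≫ g) := mono_comp _ _
    refine IsZero.of_mono_eq_zero (a ≫ p ≫ g) ?_
    haveI : Epi e := he
    rw [← cancel_epi e, comp_zero, ← hy1, ← Category.assoc y, ← hy]
    simp [Category.assoc]
  haveI : Mono p := mono_of_mono p g
  haveI : Mono (p ≫ ι') := mono_comp _ _
  obtain ⟨E, i, hE, hi⟩ := exists_injectiveHull.{u} P
  haveI := hi.mono
  let f := Injective.factorThru (p ≫ ι') i
  have hf : i ≫ f = p ≫ ι' := Injective.comp_factorThru _ _
  refine ⟨E, f, hi.detect f (hf ▸ inferInstance), hE, fun h => hP (IsZero.of_mono i h), fun A B ⟨e⟩ => ?_⟩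
  let qA := i ≫ e.hom ≫ biprod.fst
  let qB := i ≫ e.hom ≫ biprod.snd
  have hb : Mono (kernel.ι qA ≫ qB) := by
    refine Preadditive.mono_of_cancel_zero _ fun {W} z hz => ?_
    haveI : Mono (kernel.ι qA ≫ i ≫ e.hom) := mono_comp _ _
    apply (cancel_mono (kernel.ι qA ≫ i ≫ e.hom)).1
    rw [zero_comp]
    refine biprod.hom_ext _ _ ?_ ?_
    · simp only [Category.assoc, zero_comp]
      rw [show kernel.ι qA ≫ i ≫ e.hom ≫ biprod.fst = 0 from kernel.condition qA, comp_zero]
    · simp only [Category.assoc, zero_comp]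
      exact hz
  rcases unif (kernel.ι qB) (kernel.ι qA) qB inferInstance (kernel.condition _) hb with h | h
  · left
    haveI : Mono qB := Preadditive.mono_of_isZero_kernel _ h
    haveI : Mono (e.hom ≫ (biprod.snd : A ⊞ B ⟶ B)) := hi.detect _ ‹Mono qB›
    haveI : Mono (biprod.snd : A ⊞ B ⟶ B) := by
      have : Mono (e.inv ≫ e.hom ≫ (biprod.snd : A ⊞ B ⟶ B)) := mono_comp _ _
      simpa using this
    rw [IsZero.iff_id_eq_zero, ← cancel_mono (biprod.inl : A ⟶ A ⊞ B),
      ← cancel_mono (biprod.snd : A ⊞ B ⟶ B)]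
    simp
  · right
    haveI : Mono qA := Preadditive.mono_of_isZero_kernel _ h
    haveI : Mono (e.hom ≫ (biprod.fst : A ⊞ B ⟶ A)) := hi.detect _ ‹Mono qA›
    haveI : Mono (biprod.fst : A ⊞ B ⟶ A) := by
      have : Mono (e.inv ≫ e.hom ≫ (biprod.fst : A ⊞ B ⟶ A)) := mono_comp _ _
      simpa using this
    rw [IsZero.iff_id_eq_zero, ← cancel_mono (biprod.inr : B ⟶ A ⊞ B),
      ← cancel_mono (biprod.fst : A ⊞ B ⟶ A)]
    simp

variable (I : X.Modules)

/-- The objects of a set of subobjects. -/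
noncomputable abbrev subObj (i : Shrink.{u} (Subobject I)) : X.Modules :=
  Subobject.underlying.obj ((equivShrink (Subobject I)).symm i)

/-- Their sum. -/
noncomputable abbrev sumMap (F : Set (Shrink.{u} (Subobject I))) : (∐ fun i : F => subObj I i.1) ⟶ I :=
  Sigma.desc fun i : F => ((equivShrink (Subobject I)).symm i.1).arrow

/-- Independent families of indecomposable injective submodules. -/
def IsGoodFam (F : Set (Shrink.{u} (Subobject I))) : Prop :=
  (∀ i ∈ F, IsIndecInj (subObj I i)) ∧ Mono (sumMap I F)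

theorem mono_sumMap_union {c : Set (Set (Shrink.{u} (Subobject I)))} (hc : IsChain (· ⊆ ·) c)
    (hne : c.Nonempty) (h : ∀ F ∈ c, Mono (sumMap I F)) : Mono (sumMap I (⋃₀ c)) := by
  classical
  refine (M1.mono_iff_stalk _).2 fun x => ?_
  change Function.Injective (CurveCoh17.stalkLin (sumMap I (⋃₀ c)) x)
  rw [injective_iff_map_eq_zero]
  intro a ha
  obtain ⟨S, b, hb⟩ := exists_mem_range_incPart _ x a
  obtain ⟨F, hF, hSF⟩ : ∃ F ∈ c, ∀ i ∈ S, i.1 ∈ F := by
    clear hb b
    induction S using Finset.induction_on with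
    | empty => exact ⟨hne.some, hne.some_mem, fun i hi => absurd hi (Finset.notMem_empty i)⟩
    | @insert i S hi ih =>
      obtain ⟨F, hF, hS⟩ := ih
      obtain ⟨G, hG, hiG⟩ := Set.mem_sUnion.1 i.2
      rcases hc.total hF hG with hle | hle
      · exact ⟨G, hG, fun j hj => (Finset.mem_insert.1 hj).elim (fun e => e ▸ hiG) fun hj => hle (hS j hj)⟩
      · exact ⟨F, hF, fun j hj => (Finset.mem_insert.1 hj).elim (fun e => e ▸ hle hiG) fun hj => hS j hj⟩
  let t : partSum (fun i : ↥(⋃₀ c) => subObj I i.1) S ⟶ ∐ fun i : F => subObj I i.1 :=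
    Sigma.desc fun i => Sigma.ι (fun i : F => subObj I i.1) ⟨i.1.1, hSF i.1 i.2⟩
  let r : (∐ fun i : F => subObj I i.1) ⟶ ∐ fun i : ↥(⋃₀ c) => subObj I i.1 :=
    Sigma.desc fun i => Sigma.ι (fun i : ↥(⋃₀ c) => subObj I i.1) ⟨i.1, Set.mem_sUnion.2 ⟨F, hF, i.2⟩⟩
  have h1 : incPart (fun i : ↥(⋃₀ c) => subObj I i.1) S = t ≫ r := Sigma.hom_ext _ _ fun i => by
    simp [incPart, t, r]
  have h2 : r ≫ sumMap I (⋃₀ c) = sumMap I F := Sigma.hom_ext _ _ fun i => by simp [r, sumMap]
  rw [h1, stalkLin_comp_apply] at hb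
  have h3 : CurveCoh17.stalkLin (sumMap I F) x (CurveCoh17.stalkLin t x b) = 0 := by
    rw [← h2, stalkLin_comp_apply, hb]; exact ha
  have h4 : CurveCoh17.stalkLin t x b = 0 :=
    (M1.mono_iff_stalk _).1 (h F hF) x (h3.trans (map_zero _).symm)
  rw [← hb, h4, map_zero]

/-- Every injective is a sum of indecomposable injectives. -/
theorem exists_decomposition [IsLocallyNoetherian X] [Injective I] :
    ∃ (ι : Type u) (J : ι → X.Modules), (∀ i, IsIndecInj (J i)) ∧ Nonempty (I ≅ ∐ J) := by
  classical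
  have h0 : IsGoodFam I ∅ := by
    refine ⟨fun i hi => absurd hi (Set.notMem_empty i), ⟨fun {W} a b _ => IsZero.eq_of_tgt ?_ a b⟩⟩
    rw [IsZero.iff_id_eq_zero]
    exact Sigma.hom_ext _ _ fun i => absurd i.2 (Set.notMem_empty i.1)
  obtain ⟨F, -, hF⟩ := zorn_subset_nonempty {F | IsGoodFam I F} (fun c hcs hc hne =>
    ⟨⋃₀ c, ⟨fun i hi => by
      obtain ⟨G, hG, hiG⟩ := Set.mem_sUnion.1 hi
      exact (hcs hG).1 i hiG, mono_sumMap_union I hc hne fun G hG => (hcs hG).2⟩,
      fun G hG => Set.subset_sUnion_of_mem hG⟩) ∅ h0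
  obtain ⟨hind, hmono⟩ := hF.prop
  haveI : Injective (∐ fun i : F => subObj I i.1) := injective_coproduct _ fun i => (hind i.1 i.2).inj
  let r := Injective.factorThru (𝟙 _) (sumMap I F)
  have hr : sumMap I F ≫ r = 𝟙 _ := Injective.comp_factorThru _ _
  have hk : IsZero (kernel r) := by
    by_contra hk
    let pr : I ⟶ kernel r := kernel.lift r (𝟙 I - r ≫ sumMap I F)
      (by rw [Preadditive.sub_comp, Category.id_comp, Category.assoc, hr, Category.comp_id, sub_self])
    have hpr : kernel.ι r ≫ pr = 𝟙 _ := by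
      rw [← cancel_mono (kernel.ι r), Category.assoc, kernel.lift_ι, Preadditive.comp_sub, Category.comp_id,
        ← Category.assoc, kernel.condition, zero_comp, sub_zero, Category.id_comp]
    haveI : Injective (kernel r) := Retract.injective ⟨kernel.ι r, pr, hpr⟩
    obtain ⟨E, f, hf, hE⟩ := exists_indecInj_sub (kernel r) hk
    haveI : Mono (f ≫ kernel.ι r) := mono_comp _ _
    let e : Shrink.{u} (Subobject I) := equivShrink _ (Subobject.mk (f ≫ kernel.ι r))
    let d : subObj I e ≅ E := (eqToIso (by simp [subObj, e])) ≪≫ Subobject.underlyingIso (f ≫ kernel.ι r)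
    have harr : ((equivShrink (Subobject I)).symm e).arrow ≫ r = 0 := by
      have hgen : ∀ S : Subobject I, S = Subobject.mk (f ≫ kernel.ι r) → S.arrow ≫ r = 0 := by
        rintro S rfl
        rw [← cancel_epi (Subobject.underlyingIso (f ≫ kernel.ι r)).inv, ← Category.assoc,
          Subobject.underlyingIso_arrow, comp_zero, Category.assoc, kernel.condition, comp_zero]
      exact hgen _ (by simp [e])
    have hEi : IsIndecInj (subObj I e) :=
      ⟨Injective.of_iso d.symm hE.inj, fun h => hE.ne (h.of_iso d.symm),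
        fun A B ⟨w⟩ => hE.indec A B ⟨d.symm ≪≫ w⟩⟩
    have he : e ∉ F := fun he => by
      apply hE.ne
      refine IsZero.of_iso ?_ d.symm
      haveI : Mono (Sigma.ι (fun i : F => subObj I i.1) ⟨e, he⟩) := inferInstance
      refine IsZero.of_mono_eq_zero (Sigma.ι (fun i : F => subObj I i.1) ⟨e, he⟩) ?_
      rw [← Category.comp_id (Sigma.ι _ _), ← hr, ← Category.assoc]
      simpa [sumMap] using harr
    have hgood : IsGoodFam I (insert e F) := by
      refine ⟨fun i hi => hi.elim (fun h => h ▸ hEi) (hind i), ?_⟩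
      let F' := insert e F
      let φ : (∐ fun i : F' => subObj I i.1) ⟶ (∐ fun i : F => subObj I i.1) ⊞ subObj I e :=
        Sigma.desc fun i => if h : i.1 ∈ F then Sigma.ι (fun i : F => subObj I i.1) ⟨i.1, h⟩ ≫ biprod.inl
          else eqToHom (by rw [i.2.resolve_right h]) ≫ biprod.inr
      let ψ : (∐ fun i : F => subObj I i.1) ⊞ subObj I e ⟶ ∐ fun i : F' => subObj I i.1 :=
        biprod.desc (Sigma.desc fun i => Sigma.ι (fun i : F' => subObj I i.1) ⟨i.1, Set.mem_insert_of_mem _ i.2⟩)
          (Sigma.ι (fun i : F' => subObj I i.1) ⟨e, Set.mem_insert _ _⟩)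
      have hφψ : φ ≫ ψ = 𝟙 _ := Sigma.hom_ext _ _ fun i => by
        by_cases h : i.1 ∈ F
        · simp [φ, ψ, h]
        · obtain ⟨i, hi⟩ := i
          obtain rfl : i = e := hi.resolve_right h
          simp [φ, ψ, h]
      haveI : Mono φ := (IsSplitMono.mk' ⟨ψ, hφψ⟩).mono
      let m : (∐ fun i : F => subObj I i.1) ⊞ subObj I e ⟶ I :=
        biprod.desc (sumMap I F) ((equivShrink (Subobject I)).symm e).arrow
      have hm : Mono m := by
        refine Preadditive.mono_of_cancel_zero _ fun {W} z hz => ?_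
        have hz' : (z ≫ biprod.fst) ≫ sumMap I F +
            (z ≫ biprod.snd) ≫ ((equivShrink (Subobject I)).symm e).arrow = 0 := by
          rw [← hz, ← Category.comp_id z]
          simp only [Category.comp_id, m, biprod.desc_eq, Preadditive.comp_add, Category.assoc]
        have h1 : z ≫ biprod.fst = 0 := by
          have := congrArg (· ≫ r) hz'
          simpa [Preadditive.add_comp, hr, harr] using this
        rw [h1, zero_comp, zero_add] at hz'
        have h2 : z ≫ biprod.snd = 0 :=
          (cancel_mono ((equivShrink (Subobject I)).symm e).arrow).1 (hz'.trans zero_comp.symm)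
        exact biprod.hom_ext _ _ (by simpa using h1) (by simpa using h2)
      have hφm : φ ≫ m = sumMap I F' := Sigma.hom_ext _ _ fun i => by
        by_cases h : i.1 ∈ F
        · simp [φ, m, h, sumMap]
        · obtain ⟨i, hi⟩ := i
          obtain rfl : i = e := hi.resolve_right h
          simp [φ, m, h, sumMap]
      rw [← hφm]
      exact mono_comp _ _
    exact he (hF.eq_of_subset hgood (Set.subset_insert e F) ▸ Set.mem_insert e F)
  haveI : Mono r := Preadditive.mono_of_isZero_kernel _ hk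
  haveI : IsSplitEpi r := IsSplitEpi.mk' ⟨_, hr⟩
  haveI : IsIso r := isIso_of_mono_of_isSplitEpi r
  exact ⟨F, fun i => subObj I i.1, fun i => hind i.1 i.2, ⟨asIso r⟩⟩

end Groth.Agent.CohMop
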