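import Groth.Agent.Lib.CohMop.IhomSeq
import Groth.Agent.Lib.InjMod.QCohInj
import Groth.Agent.Lib.InjMod.HomFlasque
import Groth.Agent.Lib.KFlat.Symm
import Groth.Agent.Lib.RFPlus.Acyclic
import Groth.Agent.Lib.ModM1.Sub

/-!
# Injectivity of quasi-coherent modules from vanishing of the first local Ext sheaves
-/

set_option autoImplicit false
set_option linter.style.haveILetI false
set_option linter.unusedSectionVars false
set_option backward.isDefEq.respectTransparency false
set_option backward.isDefEq.respectTransparency.types false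

universe u

open CategoryTheory CategoryTheory.Limits AlgebraicGeometry

namespace Groth.Agent.CohMop

open Groth.Agent KFlat KFlat.Sch CurveCoh17

attribute [local instance] HasDerivedCategory.standard

variable {X : Scheme.{u}}

/-- `j_!` of a smaller open tensored with a module injects. -/
theorem mono_gen_tensor {U V : X.Opens} (hUV : U ≤ V) (G : X.Modules)
    (w : CxOX.extZeroUnit U.ι ⟶ CxOX.extZeroUnit V.ι)
    (hw : w.app U (InjMod.gen U) = M1.mres _ hUV (InjMod.gen V)) :
    Mono (((TX X).map w).app G) := by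
  haveI : Mono (((TX X).obj G).map w) := InjMod.mono_tensor_gen hUV G w hw
  haveI : IsIso ((KFlat.Site.flipObjIso (O := X.sheaf) G).hom.app (CxOX.extZeroUnit V.ι)) := inferInstance
  have h : ((TX X).map w).app G = (KFlat.Site.flipObjIso (O := X.sheaf) G).inv.app (CxOX.extZeroUnit U.ι) ≫
      ((TX X).obj G).map w ≫ (KFlat.Site.flipObjIso (O := X.sheaf) G).hom.app (CxOX.extZeroUnit V.ι) := by
    have h1 : ((TX X).obj G).map w ≫ (KFlat.Site.flipObjIso (O := X.sheaf) G).hom.app (CxOX.extZeroUnit V.ι) =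
        (KFlat.Site.flipObjIso (O := X.sheaf) G).hom.app (CxOX.extZeroUnit U.ι) ≫ ((TX X).map w).app G :=
      (KFlat.Site.flipObjIso (O := X.sheaf) G).hom.naturality w
    rw [h1, Iso.inv_hom_id_app_assoc]
  rw [h]
  infer_instance

variable [IsLocallyNoetherian X]

/-- A nonzero quasi-coherent module has a coherent submodule on some open, coming from a coherent module. -/
theorem exists_coherent_local_sub {Q : X.Modules} (hQ : Coh.IsQCoh Q) (h0 : ¬ IsZero Q) :
    ∃ (U : X.Opens) (x : X) (_ : x ∈ U) (G : X.Modules), Coh.IsCoh G ∧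
      ∃ g : (Scheme.Modules.restrictFunctor U.ι).obj G ⟶ (Scheme.Modules.restrictFunctor U.ι).obj Q,
        Mono g ∧ ∃ a : ((Scheme.Modules.restrictFunctor U.ι).obj G).presheaf.stalk ⟨x, ‹x ∈ U›⟩, a ≠ 0 := by
  have hex : ∃ (x : X) (b : Q.presheaf.stalk x), b ≠ 0 := by
    by_contra hne
    push Not at hne
    refine h0 ((IsZero.iff_id_eq_zero Q).2 (Scheme.Modules.hom_ext _ _ fun V => ?_))
    ext s
    refine M1.section_ext _ _ fun x hx => ?_
    rw [hne x (Q.presheaf.germ V x hx _)]
    exact (hne x _).symm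
  obtain ⟨x, b, hb⟩ := hex
  obtain ⟨W, hxW, s₀, rfl⟩ := Q.presheaf.exists_germ_eq b
  obtain ⟨U, hU, hxU, hUW⟩ := exists_isAffineOpen_mem_and_subset hxW
  haveI : IsAffine (U : Scheme.{u}) := hU
  let R := Scheme.Modules.restrictFunctor U.ι
  let s : Γ(R.obj Q, ⊤) := M1.mres Q ((M1.image_ι_top U).le.trans hUW) s₀
  let H : M1.Sub ((Coh.structureModule X).restrict U.ι) :=
    M1.Sub.ker ((Scheme.Modules.restrictUnitIso U.ι).hom ≫ M1.secHom s)
  have hOU : Coh.IsQCoh ((Coh.structureModule X).restrict U.ι) := M1.isQCoh_restrict (M1.isQCoh_structureModule X) _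
  have hH : Coh.IsQCoh H.P := M1.isQCoh_kernel hOU (M1.isQCoh_restrict hQ _) _
  let K := M1.Sub.ext U.ι H
  have hK : Coh.IsQCoh K.P := M1.Sub.isQCoh_ext U.ι (M1.isQCoh_structureModule X) H hH
  let G := cokernel K.i
  have hG : Coh.IsCoh G := M1.isCoh_cokernel hK (M1.isCoh_structureModule X) _
  obtain ⟨e, he⟩ := M1.Sub.exists_iso (K.res U.ι) H (M1.Sub.mem_res_ext U.ι H)
  let f := (Scheme.Modules.restrictUnitIso U.ι).hom ≫ M1.secHom s
  -- restriction of `G` is the coimage of `f`
  let c : R.obj G ≅ Abelian.coimage f :=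
    PreservesCokernel.iso R K.i ≪≫ cokernel.mapIso (R.map K.i) (kernel.ι f) e (Iso.refl _)
      ((Category.comp_id _).trans he.symm)
  refine ⟨U, x, hxU, G, hG, c.hom ≫ Abelian.factorThruCoimage f, mono_comp _ _, ?_⟩
  refine ⟨stalkLin (PreservesCokernel.iso R K.i).inv ⟨x, hxU⟩
    (stalkLin (cokernel.π (R.map K.i)) ⟨x, hxU⟩
      (stalkLin (Scheme.Modules.restrictUnitIso U.ι).inv ⟨x, hxU⟩
        ((Coh.structureModule (U : Scheme.{u})).presheaf.germ ⊤ ⟨x, hxU⟩ trivial (M1.one ⊤)))), fun ha => hb ?_⟩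
  have hfac : (Scheme.Modules.restrictUnitIso U.ι).inv ≫ cokernel.π (R.map K.i) ≫
      (PreservesCokernel.iso R K.i).inv ≫ c.hom ≫ Abelian.factorThruCoimage f = M1.secHom s := by
    simp only [c, Iso.trans_hom, cokernel.mapIso_hom, Category.assoc, Iso.inv_hom_id_assoc, cokernel.π_desc_assoc,
      Iso.refl_hom, Category.id_comp]
    exact (congrArg ((Scheme.Modules.restrictUnitIso U.ι).inv ≫ ·) (Abelian.coimage.fac f)).trans
      ((Scheme.Modules.restrictUnitIso U.ι).inv_hom_id_assoc (M1.secHom s))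
  have h1 := congrArg (fun φ => stalkLin φ (⟨x, hxU⟩ : (U : Scheme.{u}))
    ((Coh.structureModule (U : Scheme.{u})).presheaf.germ ⊤ ⟨x, hxU⟩ trivial (M1.one ⊤))) hfac
  simp only [InjMod.stalkLin_comp_apply] at h1
  rw [ha, map_zero, map_zero] at h1
  have h2 : ((R.obj Q).presheaf.germ ⊤ ⟨x, hxU⟩ trivial s : (R.obj Q).presheaf.stalk ⟨x, hxU⟩) = 0 := by
    rw [h1, stalkLin_apply, M1.germ_naturality, M1.secHom_app_one]
  have h3 := ((Scheme.Modules.restrictStalkNatIso U.ι (⟨x, hxU⟩ : (U : Scheme.{u}))).app Q).addCommGroupIsoToAddEquiv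
  have hx' : x ∈ U.ι ''ᵁ ⊤ := (M1.image_ι_top U).ge hxU
  have h4 : Q.presheaf.germ (U.ι ''ᵁ ⊤) x hx' s = 0 :=
    (ConcreteCategory.congr_hom (Scheme.Modules.germ_restrictStalkNatIso_hom_app (U := (⊤ : (U : Scheme.{u}).Opens)) U.ι (⟨x, hxU⟩ : (U : Scheme.{u})) Q trivial) s).symm.trans
      ((congrArg _ h2).trans (map_zero (ConcreteCategory.hom
        ((Scheme.Modules.restrictStalkNatIso U.ι (⟨x, hxU⟩ : (U : Scheme.{u}))).hom.app Q))))
  rw [← h4]
  exact (M1.germ_mres Q ((M1.image_ι_top U).le.trans hUW) hx' s₀).symm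

set_option maxHeartbeats 1000000 in
/-- A quasi-coherent module is injective if all first local Ext sheaves out of coherent modules vanish. -/
theorem injective_of_isZero_extSheaf_one (F : X.Modules) (hF : Coh.IsQCoh F)
    (h : ∀ G : X.Modules, Coh.IsCoh G → IsZero (((ihom G).rightDerived 1).obj F)) : Injective F := by
  obtain ⟨I, i, hI, hi⟩ := InjMod.exists_injectiveHull.{u} F
  haveI := hi.mono
  haveI := hI
  let Q := cokernel i
  let q : I ⟶ Q := cokernel.π i
  have hIq : Coh.IsQCoh I := InjMod.isQCoh_of_essential hF hi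
  have hQ : Coh.IsQCoh Q := M1.isQCoh_cokernel hF hIq i
  suffices hz : IsZero Q by
    haveI : Epi i := Abelian.epi_of_cokernel_π_eq_zero i (hz.eq_of_tgt _ _)
    haveI : IsIso i := isIso_of_mono_of_epi i
    exact Injective.of_iso (asIso i).symm hI
  by_contra h0
  obtain ⟨U, x, hxU, G, hG, g, hg, a, ha⟩ := exists_coherent_local_sub hQ h0
  let O_U := Coh.structureModule (U : Scheme.{u})
  let R := Scheme.Modules.restrictFunctor U.ι
  let u₀ : ((TX (U : Scheme.{u})).obj O_U).obj (R.obj G) ⟶ R.obj Q := (M2.tensorLUnit (R.obj G)).hom ≫ g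
  haveI : Mono u₀ := mono_comp _ _
  let f₀ : (tenR G).obj (CxOX.extZeroUnit U.ι) ⟶ Q :=
    (RHom.projIso U O_U G).inv ≫ (CxOX.extZero U.ι).map u₀ ≫ (CxOX.extZeroAdj U.ι).counit.app Q
  haveI : Mono f₀ := by
    haveI := DMV.mono_counit U Q
    infer_instance
  -- lift locally through `I`
  let S : ShortComplex X.Modules := ShortComplex.mk i q (cokernel.condition i)
  have hS : S.ShortExact := ShortComplex.ShortExact.mk' (ShortComplex.exact_cokernel i) inferInstance inferInstance
  haveI : PreservesFiniteLimits (ihom G) := PreservesLimitsOfSize.preservesFiniteLimits (ihom G)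
  haveI : Epi ((ihom G).map q) := (RFPlus.shortExact_map_of_isZero (ihom G) S hS (h G hG)).epi_g
  let k := (ihomAdj G).homEquiv _ _ f₀
  let β := (CxOX.extZeroUnit U.ι).presheaf.germ U x hxU (InjMod.gen U)
  obtain ⟨γ, hγ⟩ := (M1.epi_iff_stalk ((ihom G).map q)).1 inferInstance x (stalkLin k x β)
  obtain ⟨V₀, hxV₀, t₀, rfl⟩ := ((ihom G).obj I).presheaf.exists_germ_eq γ
  have hγ' : ((ihom G).obj Q).presheaf.germ V₀ x hxV₀ (((ihom G).map q).app V₀ t₀) =
      ((ihom G).obj Q).presheaf.germ U x hxU (k.app U (InjMod.gen U)) :=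
    (M1.germ_naturality _ V₀ x hxV₀ t₀).symm.trans (hγ.trans (M1.germ_naturality k U x hxU _))
  obtain ⟨(V : X.Opens), hxV, i₁, i₂, heq⟩ := ((ihom G).obj Q).presheaf.germ_eq x hxV₀ hxU _ _ hγ'
  obtain ⟨c, hc⟩ := InjMod.exists_hom_gen V (M1.mres (CxOX.extZeroUnit U.ι) i₂.le (InjMod.gen U))
  obtain ⟨l, hl⟩ := InjMod.exists_hom_gen V (M1.mres ((ihom G).obj I) i₁.le t₀)
  haveI : Mono (((TX X).map c).app G) := mono_gen_tensor i₂.le G c hc
  have hlk : l ≫ (ihom G).map q = c ≫ k := by
    haveI := InjMod.isIso_unit_extZero V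
    apply ((CxOX.extZeroAdj V.ι).homEquiv _ _).injective
    refine M1.unit_hom_ext ?_
    rw [Adjunction.homEquiv_unit, Adjunction.homEquiv_unit]
    have key : ((ihom G).map q).app V (l.app V (InjMod.gen V)) = k.app V (c.app V (InjMod.gen V)) := by
      rw [hl, hc]
      exact (M1.app_mres _ _ _).trans (heq.trans (M1.app_mres k _ _).symm)
    have := congrArg (M1.mres ((ihom G).obj Q) (M1.image_ι_top V).le) key
    rw [← M1.app_mres, ← M1.app_mres, ← M1.app_mres, ← M1.app_mres] at this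
    simp only [InjMod.gen, M1.mres_mres, M1.mres_id] at this
    exact this
  let l' : (tenR G).obj (CxOX.extZeroUnit V.ι) ⟶ I := ((ihomAdj G).homEquiv _ _).symm l
  have hl' : l' ≫ q = (tenR G).map c ≫ f₀ := by
    apply ((ihomAdj G).homEquiv _ _).injective
    rw [Adjunction.homEquiv_naturality_right, Adjunction.homEquiv_naturality_left, Equiv.apply_symm_apply]
    exact hlk
  haveI : Mono ((tenR G).map c) := ‹Mono (((TX X).map c).app G)›
  haveI : Mono (l' ≫ q) := by rw [hl']; infer_instance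
  -- the lift misses `F`, so it vanishes
  haveI : Mono (cokernel.π l') := by
    refine hi.detect _ (Preadditive.mono_of_isZero_kernel _ ?_)
    rw [IsZero.iff_id_eq_zero, ← cancel_mono (kernel.ι (i ≫ cokernel.π l')), Category.id_comp, zero_comp]
    have hexl : (ShortComplex.mk l' (cokernel.π l') (cokernel.condition _)).Exact := ShortComplex.exact_cokernel l'
    haveI : Mono l' := mono_of_mono l' q
    let d := hexl.lift (kernel.ι (i ≫ cokernel.π l') ≫ i) (by rw [Category.assoc, kernel.condition])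
    have hd : d ≫ l' = kernel.ι (i ≫ cokernel.π l') ≫ i := hexl.lift_f _ _
    have hd0 : d = 0 := by
      rw [← cancel_mono (l' ≫ q), ← Category.assoc, hd, Category.assoc, cokernel.condition, comp_zero, zero_comp]
    rw [← cancel_mono i, ← hd, hd0, zero_comp, zero_comp]
  have hl0 : l' = 0 := by rw [← cancel_mono (cokernel.π l'), cokernel.condition, zero_comp]
  have hsrc : IsZero ((tenR G).obj (CxOX.extZeroUnit V.ι)) := by
    rw [IsZero.iff_id_eq_zero, ← cancel_mono (l' ≫ q)]
    simp [hl0]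
  -- but its source is nonzero at `x`
  have h1 : IsZero ((CxOX.extZero V.ι).obj (((TX (V : Scheme.{u})).obj (Coh.structureModule (V : Scheme.{u}))).obj
      ((Scheme.Modules.restrictFunctor V.ι).obj G))) := hsrc.of_iso (RHom.projIso V _ G)
  have h2 : IsZero ((Scheme.Modules.restrictFunctor V.ι).obj G) := by
    haveI := InjMod.isIso_unit_extZero V
    exact ((((Scheme.Modules.restrictFunctor V.ι).map_isZero h1).of_iso
      (asIso ((CxOX.extZeroAdj V.ι).unit.app _)))).of_iso (M2.tensorLUnit _).symm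
  have hxs : x ∈ CohB1.support G := (M1.subsingleton_stalk_restrict_iff U.ι G ⟨x, hxU⟩).1
    ((M1.mem_support_iff _ _).2 ⟨a, ha⟩)
  obtain ⟨a', ha'⟩ := (M1.mem_support_iff _ _).1 ((M1.subsingleton_stalk_restrict_iff V.ι G ⟨x, hxV⟩).2 hxs)
  refine ha' ?_
  have h5 := congrArg (fun φ => stalkLin φ (⟨x, hxV⟩ : (V : Scheme.{u})) a')
    ((IsZero.iff_id_eq_zero ((Scheme.Modules.restrictFunctor V.ι).obj G)).1 h2)
  exact (InjMod.stalkLin_id_apply _ _ a').symm.trans (h5.trans (InjMod.stalkLin_zero_apply _ _ _ _))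

end Groth.Agent.CohMop
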