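import Groth.Agent.Lib.CohFound.DevissageExt
import Groth.Agent.Lib.CohMop.ExtSupport

/-!
# Filtrations of coherent modules by ideals of integral closed subschemes
-/

set_option autoImplicit false
set_option linter.style.haveILetI false

universe u

open CategoryTheory CategoryTheory.Limits AlgebraicGeometry

namespace Groth.Agent.CohMop

variable {X : Scheme.{u}}

/-- A graded piece. -/
def IsIntegralPiece (C : X.Modules) : Prop :=
  ∃ (Z : Scheme.{u}) (i : Z ⟶ X), IsClosedImmersion i ∧ IsIntegral Z ∧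
    ∃ (I : Z.Modules) (ι : I ⟶ Coh.structureModule Z), Mono ι ∧ Coh.IsQCoh I ∧ ¬ IsZero I ∧
      Nonempty (C ≅ (Coh.push i).obj I)

theorem IsIntegralPiece.of_iso {C C' : X.Modules} (e : C ≅ C') (h : IsIntegralPiece C) : IsIntegralPiece C' := by
  obtain ⟨Z, i, hi, hZ, I, ι, h1, h2, h3, ⟨e'⟩⟩ := h
  exact ⟨Z, i, hi, hZ, I, ι, h1, h2, h3, ⟨e.symm ≪≫ e'⟩⟩

/-- Modules with a filtration by such pieces. -/
inductive HasIntFilt : X.Modules → Prop
  | zero {M : X.Modules} (h : IsZero M) : HasIntFilt M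
  | step {A B : X.Modules} (f : A ⟶ B) (hf : Mono f) (hA : Coh.IsCoh A) (h : HasIntFilt A)
      (hq : IsIntegralPiece (cokernel f)) : HasIntFilt B

theorem HasIntFilt.of_iso {M N : X.Modules} (e : M ≅ N) (h : HasIntFilt M) : HasIntFilt N := by
  cases h with
  | zero h => exact .zero (h.of_iso e.symm)
  | step f hf hA h hq =>
    exact .step (f ≫ e.hom) inferInstance hA h (hq.of_iso (cokernelCompIsIso f e.hom).symm)

theorem HasIntFilt.ext [IsLocallyNoetherian X] {C : X.Modules} (hC : HasIntFilt C) :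
    ∀ {A B : X.Modules} (f : A ⟶ B) (g : B ⟶ C) (w : f ≫ g = 0), (ShortComplex.mk f g w).ShortExact →
      Coh.IsCoh A → Coh.IsCoh B → HasIntFilt A → HasIntFilt B := by
  induction hC with
  | zero hz =>
    intro A B f g w hS _ _ hfA
    haveI : IsIso f := hS.isIso_f_iff.2 hz
    exact hfA.of_iso (asIso f)
  | @step A' C a ha hA' h hq ih =>
    intro A B f g w hS hA hB hfA
    haveI : Mono f := hS.mono_f
    haveI : Epi g := hS.epi_g
    let p := pullback.fst g a
    let q := pullback.snd g a
    have hsq : p ≫ g = q ≫ a := pullback.condition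
    let l : A ⟶ pullback g a := pullback.lift f 0 (by rw [w, zero_comp])
    have hlp : l ≫ p = f := pullback.lift_fst _ _ _
    have wq : l ≫ q = 0 := pullback.lift_snd _ _ _
    haveI : Mono l := mono_of_mono_fac hlp
    have hk : (ShortComplex.mk l q wq).Exact := by
      refine ShortComplex.exact_of_f_is_kernel _ ?_
      refine KernelFork.IsLimit.ofι' (f := q) l wq fun {W} t ht => ?_
      have ht' : (t ≫ p) ≫ g = 0 := by rw [Category.assoc, hsq, ← Category.assoc, ht, zero_comp]
      refine ⟨hS.exact.lift (t ≫ p) ht', ?_⟩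
      apply pullback.hom_ext
      · rw [Category.assoc, hlp]; exact hS.exact.lift_f (t ≫ p) ht'
      · rw [Category.assoc, wq, comp_zero, ht]
    have hS' : (ShortComplex.mk l q wq).ShortExact :=
      { exact := hk, mono_f := inferInstance, epi_g := inferInstanceAs (Epi (pullback.snd g a)) }
    have hB' : Coh.IsCoh (pullback g a) :=
      M1.isCoh_of_mono p hB (M1.isQCoh_of_shortExact hS' hA.1 hA'.1)
    have hfp : f ≫ cokernel.π p = 0 := by rw [← hlp, Category.assoc, cokernel.condition, comp_zero]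
    obtain ⟨ψ, hψ⟩ : ∃ ψ : C ⟶ cokernel p, g ≫ ψ = cokernel.π p :=
      ⟨hS.exact.desc (cokernel.π p) hfp, hS.exact.g_desc (cokernel.π p) hfp⟩
    have h1 : a ≫ ψ = 0 := by
      rw [← cancel_epi q, comp_zero, ← Category.assoc, ← hsq, Category.assoc, hψ, cokernel.condition]
    refine .step p inferInstance hB' (ih l q wq hS' hA hB' hfA) (hq.of_iso ?_)
    refine { hom := cokernel.desc a ψ h1, inv := cokernel.desc p (g ≫ cokernel.π a) ?_, hom_inv_id := ?_, inv_hom_id := ?_ }
    · rw [← Category.assoc, hsq, Category.assoc, cokernel.condition, comp_zero]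
    · apply coequalizer.hom_ext
      rw [← cancel_epi g, Category.comp_id, cokernel.π_desc_assoc, reassoc_of% hψ, cokernel.π_desc]
    · apply coequalizer.hom_ext
      rw [Category.comp_id, cokernel.π_desc_assoc, Category.assoc, cokernel.π_desc, hψ]

theorem hasIntFilt_of_isCoh [IsNoetherian X] [Nonempty X] {M : X.Modules} (hM : Coh.IsCoh M) : HasIntFilt M := by
  refine CohFound.holds_of_extensions (fun M => HasIntFilt M) (fun M N e h => h.of_iso e.some)
    (fun S hS h1 h2 _ p1 p3 => p3.ext S.f S.g S.zero hS h1 h2 p1) (fun Z i hi hZ I ι hι hI => ?_) hM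
  by_cases hI0 : IsZero I
  · exact .zero (Functor.map_isZero _ hI0)
  · haveI := hi
    haveI : IsLocallyNoetherian Z := LocallyOfFiniteType.isLocallyNoetherian i
    let P := (Coh.push i).obj I
    have hP : Coh.IsCoh P :=
      CohFound.isCoh_push_closedImm i (M1.isCoh_of_mono ι (M1.isCoh_structureModule Z) hI)
    have hz : IsZero (kernel (𝟙 P)) := isZero_kernel_of_mono _
    exact .step (0 : kernel (𝟙 P) ⟶ P) ⟨fun _ _ _ => hz.eq_of_tgt _ _⟩ (M1.isCoh_kernel hP hP.1 _) (.zero hz)
      ⟨Z, i, hi, hZ, I, ι, hι, hI, hI0, ⟨cokernelZeroIsoTarget⟩⟩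

end Groth.Agent.CohMop
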