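import Groth.Agent.Lib.CohMop.RelExtSeq

/-!
# Relative Ext sheaves from an acyclic resolution
-/

set_option autoImplicit false
set_option linter.style.haveILetI false
set_option linter.unusedSectionVars false
set_option backward.isDefEq.respectTransparency false
set_option backward.isDefEq.respectTransparency.types false

universe u

open CategoryTheory CategoryTheory.Limits AlgebraicGeometry

namespace Groth.Agent.CohMop

open Groth.Agent KFlat KFlat.Sch

variable {X Y : Scheme.{u}} (f : X ⟶ Y)

instance preservesFiniteLimits_phom (M : X.Modules) : PreservesFiniteLimits (phom f M) :=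
  haveI : PreservesFiniteLimits (ihom M) := PreservesLimitsOfSize.preservesFiniteLimits _
  comp_preservesFiniteLimits _ _

/-- No higher relative Ext into `G`. -/
def PHomExact (M : X.Modules) (G : X.Modules) : Prop :=
  ∀ p : ℕ, IsZero (((phom f M).rightDerived (p + 1)).obj G)

/-- A complex computing direct images of internal homs out of a chain complex. -/
structure PHomData (G : X.Modules) (E : ChainComplex X.Modules ℕ) (C : CochainComplex Y.Modules ℕ) where
  e : ∀ j, C.X j ≅ (phom f (E.X j)).obj G
  comm : ∀ j, C.d j (j + 1) ≫ (e (j + 1)).hom = (e j).hom ≫ (phomNat f (E.d (j + 1) j)).app G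

variable {f} {G : X.Modules}

/-- Data for the tail. -/
noncomputable def PHomData.tail {E : ChainComplex X.Modules ℕ} {C : CochainComplex Y.Modules ℕ} (D : PHomData f G E C) :
    PHomData f G (ChainComplex.truncate.obj E) (CohMop.tail C) where
  e j := D.e (j + 1)
  comm j := (congrArg (· ≫ (D.e (j + 2)).hom) (CohMop.tail_d C j)).trans (D.comm (j + 1))

theorem mono_phomNat {A B : X.Modules} (p : A ⟶ B) [Epi p] : Mono ((phomNat f p).app G) := by
  obtain ⟨h, ⟨hl⟩⟩ := nonempty_isLimit_ihom (kernel.ι p) G
  have hex : (ShortComplex.mk (kernel.ι p) p (kernel.condition p)).Exact := ShortComplex.exact_kernel p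
  haveI : Epi (ShortComplex.mk (kernel.ι p) p (kernel.condition p)).g := ‹Epi p›
  obtain ⟨hk⟩ := nonempty_isLimit_ihomSeq hex G
  haveI : Mono ((ihomNat p).app G) := mono_of_isLimit_fork hk
  exact inferInstanceAs (Mono ((Scheme.Modules.pushforward f).map ((ihomNat p).app G)))

set_option maxHeartbeats 1600000 in
/-- The kernel fork attached to the beginning of a resolution. -/
theorem PHomData.exists_kernel {E : ChainComplex X.Modules ℕ} {C : CochainComplex Y.Modules ℕ} (D : PHomData f G E C)
    (j : ℕ) {K : X.Modules} (p : E.X j ⟶ K) [Epi p] (hp : E.d (j + 1) j ≫ p = 0)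
    (hex : (ShortComplex.mk (E.d (j + 1) j) p hp).Exact) :
    ∃ (l : (phom f K).obj G ⟶ C.X j) (hl : l ≫ C.d j (j + 1) = 0),
      l ≫ (D.e j).hom = (phomNat f p).app G ∧ Nonempty (IsLimit (KernelFork.ofι l hl)) := by
  haveI : Epi (ShortComplex.mk (E.d (j + 1) j) p hp).g := ‹Epi p›
  obtain ⟨hk₀⟩ := nonempty_isLimit_ihomSeq hex G
  let hk := KernelFork.mapIsLimit _ hk₀ (Scheme.Modules.pushforward f)
  have hl : ((phomNat f p).app G ≫ (D.e j).inv) ≫ C.d j (j + 1) = 0 := by
    rw [← cancel_mono (D.e (j + 1)).hom, Category.assoc, D.comm, Category.assoc, Iso.inv_hom_id_assoc, zero_comp]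
    exact phomNat_zero f (ShortComplex.mk (E.d (j + 1) j) p hp) G
  refine ⟨(phomNat f p).app G ≫ (D.e j).inv, hl,
    (Category.assoc _ _ _).trans ((congrArg (fun φ => (phomNat f p).app G ≫ φ) (D.e j).inv_hom_id).trans (Category.comp_id _)), ⟨?_⟩⟩
  haveI : Mono ((phomNat f p).app G) := mono_phomNat p
  exact KernelFork.IsLimit.ofι' _ hl fun {W} k hk0 =>
    let r := KernelFork.IsLimit.lift' hk (k ≫ (D.e j).hom)
      (by
        change _ ≫ (phomNat f (E.d (j + 1) j)).app G = 0
        rw [Category.assoc, ← D.comm, ← Category.assoc, hk0, zero_comp])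
    ⟨r.1, by
      rw [← cancel_mono (D.e j).hom, Category.assoc, Category.assoc, Iso.inv_hom_id, Category.comp_id]
      exact r.2⟩

set_option maxHeartbeats 3200000 in
/-- Relative Ext sheaves from a resolution. -/
theorem nonempty_homology_iso_relExt : ∀ (i : ℕ) (F : X.Modules) (E : ChainComplex X.Modules ℕ) (π : E.X 0 ⟶ F) (_ : Epi π)
    (hπ : E.d 1 0 ≫ π = 0) (_ : (ShortComplex.mk (E.d 1 0) π hπ).Exact) (_ : ∀ j, E.ExactAt (j + 1))
    (_ : ∀ j, PHomExact f (E.X j) G) (C : CochainComplex Y.Modules ℕ) (_ : PHomData f G E C),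
    Nonempty (C.homology i ≅ ((phom f F).rightDerived i).obj G) := by
  intro i
  induction i with
  | zero =>
    intro F E π hπe hπ hex0 hex hE C D
    obtain ⟨l, hl, -, ⟨hlim⟩⟩ := D.exists_kernel 0 π hπ hex0
    exact ⟨(CochainComplex.isoHomologyπ₀ C).symm ≪≫ (C.cyclesIsKernel 0 1 (by simp)).conePointUniqueUpToIso hlim ≪≫
      (phom f F).rightDerivedZeroIsoSelf.symm.app G⟩
  | succ i ih =>
    intro F E π hπe hπ hex0 hex hE C D
    let K := kernel π
    let p : E.X 1 ⟶ K := kernel.lift π (E.d 1 0) hπ
    haveI : Epi p := hex0.epi_kernelLift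
    have hp : E.d 2 1 ≫ p = 0 := by
      rw [← cancel_mono (kernel.ι π), Category.assoc, kernel.lift_ι, E.d_comp_d, zero_comp]
    have hex1 : (ShortComplex.mk (E.d 2 1) p hp).Exact := by
      have h1 : (E.sc' 2 1 0).Exact := (E.exactAt_iff' 2 1 0 (by simp) (by simp)).1 (hex 0)
      let φ : ShortComplex.mk (E.d 2 1) p hp ⟶ E.sc' 2 1 0 :=
        { τ₁ := 𝟙 _, τ₂ := 𝟙 _, τ₃ := kernel.ι π
          comm₁₂ := (Category.id_comp _).trans (Category.comp_id _).symm
          comm₂₃ := (Category.id_comp _).trans (kernel.lift_ι _ _ _).symm }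
      haveI : Epi φ.τ₁ := inferInstanceAs (Epi (𝟙 (E.X 2)))
      haveI : IsIso φ.τ₂ := inferInstanceAs (IsIso (𝟙 (E.X 1)))
      haveI : Mono φ.τ₃ := inferInstanceAs (Mono (kernel.ι π))
      exact (ShortComplex.exact_iff_of_epi_of_isIso_of_mono φ).2 h1
    let S : ShortComplex X.Modules := ShortComplex.mk (kernel.ι π) π (kernel.condition π)
    have hS : S.ShortExact := ShortComplex.ShortExact.mk' (ShortComplex.exact_kernel π) inferInstance inferInstance
    let δ := (RDSeq.delta (phomNat f S.g) (phomNat f S.f) (phomNat_zero f S) (shortExact_phom_of_injective f hS) i).app G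
    haveI : Epi δ := RDSeq.epi_delta_app _ _ _ _ i G (hE 0 i)
    rcases i with - | i
    · obtain ⟨l, hl, hle, ⟨hlim⟩⟩ := D.exists_kernel 1 p hp hex1
      let η : (phom f (E.X 0)).obj G ≅ ((phom f (E.X 0)).rightDerived 0).obj G :=
        (phom f (E.X 0)).rightDerivedZeroIsoSelf.symm.app G
      let c : C.cycles 1 ≅ (phom f K).obj G := (C.cyclesIsKernel 1 2 (by simp)).conePointUniqueUpToIso hlim
      have hc : c.hom ≫ l = C.iCycles 1 :=
        IsLimit.conePointUniqueUpToIso_hom_comp (C.cyclesIsKernel 1 2 (by simp)) hlim WalkingParallelPair.zero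
      let c' : C.cycles 1 ≅ ((phom f K).rightDerived 0).obj G :=
        c ≪≫ (phom f K).rightDerivedZeroIsoSelf.symm.app G
      have hsq : C.toCycles 0 1 ≫ c'.hom =
          ((D.e 0) ≪≫ η).hom ≫ (NatTrans.rightDerived (phomNat f S.f) 0).app G := by
        haveI : Mono l := mono_of_isLimit_fork hlim
        have h0 : C.toCycles 0 1 ≫ c.hom = (D.e 0).hom ≫ (phomNat f S.f).app G := by
          haveI : Mono ((phomNat f p).app G) := mono_phomNat p
          rw [← cancel_mono ((phomNat f p).app G)]
          simp only [Category.assoc]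
          conv_lhs => rw [← hle, ← Category.assoc c.hom, hc, ← Category.assoc, HomologicalComplex.toCycles_i]
          rw [D.comm 0]
          refine congrArg ((D.e 0).hom ≫ ·) ?_
          change (Scheme.Modules.pushforward f).map _ = (Scheme.Modules.pushforward f).map _ ≫
            (Scheme.Modules.pushforward f).map _
          rw [← Functor.map_comp, ihomNat_app, ihomNat_app, ihomNat_app, ihomMap_comp]
          congr 2
          exact (kernel.lift_ι _ _ _).symm
        have h2 := RDSeq.toRightDerivedZero_natural (phomNat f S.f) G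
        change C.toCycles 0 1 ≫ c.hom ≫ (phom f K).toRightDerivedZero.app G =
          ((D.e 0).hom ≫ (phom f (E.X 0)).toRightDerivedZero.app G) ≫ (NatTrans.rightDerived (phomNat f S.f) 0).app G
        rw [Category.assoc, ← h2, reassoc_of% h0]
      exact ⟨(C.homologyIsCokernel 0 1 (by simp)).coconePointUniqueUpToIso (colimit.isColimit _) ≪≫
        cokernel.mapIso _ _ (D.e 0 ≪≫ η) c' hsq ≪≫
        (colimit.isColimit _).coconePointUniqueUpToIso
          (RDSeq.exact_rightDerived_delta (phomNat f S.g) (phomNat f S.f) (phomNat_zero f S)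
            (shortExact_phom_of_injective f hS) 0 G).gIsCokernel⟩
    · haveI := RDSeq.isIso_delta_app (phomNat f S.g) (phomNat f S.f) (phomNat_zero f S)
        (shortExact_phom_of_injective f hS) (i + 1) G (hE 0 i) (hE 0 (i + 1))
      have hex' : ∀ j, (ChainComplex.truncate.obj E).ExactAt (j + 1) := fun j => by
        rw [(ChainComplex.truncate.obj E).exactAt_iff' (j + 2) (j + 1) j (by simp) (by simp)]
        exact (E.exactAt_iff' (j + 3) (j + 2) (j + 1) (by simp) (by simp)).1 (hex (j + 1))
      obtain ⟨e⟩ := ih K (ChainComplex.truncate.obj E) p inferInstance hp hex1 hex' (fun j => hE (j + 1))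
        (tail C) D.tail
      exact ⟨(tailHomologyIso C i).symm ≪≫ e ≪≫ asIso δ⟩

end Groth.Agent.CohMop
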