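import Groth.Agent.Lib.CohMop.ExtSupport
import Groth.Agent.Lib.CohMop.ExtZQCoh
import Groth.Agent.Lib.CohMop.StalkExt
import Groth.Agent.Lib.LocCohZ.DimVanish

/-!
# Sections with supports: supports, stalks
-/

set_option autoImplicit false
set_option linter.style.haveILetI false
set_option linter.unusedSectionVars false
set_option backward.isDefEq.respectTransparency false
set_option backward.isDefEq.respectTransparency.types false

universe u

open CategoryTheory CategoryTheory.Limits AlgebraicGeometry Opposite TopologicalSpace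

noncomputable section

namespace Groth.Agent.CohMop

open Groth.Agent M1

variable {X : Scheme.{u}}

theorem notMem_support_of_isZero {M : X.Modules} (h : IsZero M) (x : X) : x ∉ CohB1.support M := by
  rw [M1.notMem_support_iff]
  intro a
  obtain ⟨V, hV, s, rfl⟩ := TopCat.Presheaf.exists_germ_eq M.presheaf a
  rw [LocCohZQ.eq_zero_of_isZero M h V s, map_zero]

/-- Null on an open means no support in it. -/
theorem isNullOn_iff (U : X.Opens) (M : X.Modules) :
    ModSite.IsNullOn X.sheaf U M ↔ ∀ x ∈ U, x ∉ CohB1.support M := by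
  constructor
  · intro h x hx hs
    have h1 : IsZero ((Scheme.Modules.restrictFunctor U.ι).obj M) :=
      ((Scheme.Modules.overEquiv U).functor.map_isZero h).of_iso
        ((Scheme.Modules.overFunctorEquiv U).app M).symm
    exact notMem_support_of_isZero h1 ⟨x, hx⟩ ((M1.subsingleton_stalk_restrict_iff U.ι M ⟨x, hx⟩).2 hs)
  · intro h
    exact ((Scheme.Modules.overEquiv U).inverse.map_isZero
      ((isZero_restrict_of_support U h).of_iso ((Scheme.Modules.overFunctorEquiv U).app _))).of_iso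
      ((Scheme.Modules.overEquiv U).unitIso.app _)

theorem isNullOn_gammaZ (U : X.Opens) (M : X.Modules) :
    ModSite.IsNullOn X.sheaf U ((DCoh.gammaZ U.ι).obj M) := by
  refine (isNullOn_iff U _).2 fun x hx => (M1.notMem_support_iff _ x).2 fun a => ?_
  obtain ⟨V, hV, s, rfl⟩ := TopCat.Presheaf.exists_germ_eq ((DCoh.gammaZ U.ι).obj M).presheaf a
  have h0 : mres ((DCoh.gammaZ U.ι).obj M) (inf_le_left : V ⊓ U ≤ V) s = 0 := by
    apply LocCohZQ.gammaι_injective U M (V ⊓ U)
    rw [map_zero, M1.app_mres]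
    exact LocCohZQ.gammaι_vanish U M V s
  rw [← M1.germ_mres _ (inf_le_left : V ⊓ U ≤ V) (⟨hV, hx⟩ : x ∈ V ⊓ U), h0, map_zero]

/-- The two descriptions of sections with supports agree. -/
def gammaSectIso (U : X.Opens) [ModSite.HasPushOver X.sheaf U] :
    DCoh.gammaZ U.ι ≅ ModSite.sectOn X.sheaf U :=
  NatIso.ofComponents (fun M =>
    { hom := ExtSupp8.sectLift ((LocCohZQ.gammaι U.ι).app M)
        (ExtSupp8.restr_map_eq_zero_of_null_src (isNullOn_gammaZ U M) _)
      inv := LocCohZQ.gammaLift U ((ModSite.sectOnι X.sheaf U).app M) fun V s => by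
        rw [← M1.app_mres]
        refine (congrArg _ (M1.section_ext _ _ fun y hy => ?_)).trans (map_zero _)
        rw [map_zero]
        exact (M1.notMem_support_iff _ y).1
          ((isNullOn_iff U _).1 (ExtSupp8.isNullOn_sectOn X.sheaf U M) y hy.2) _
      hom_inv_id := by
        haveI := LocCohZQ.mono_gammaι U M
        refine (cancel_mono ((LocCohZQ.gammaι U.ι).app M)).1 ?_
        refine (Category.assoc _ _ _).trans (Eq.trans ?_ (Category.id_comp _).symm)
        exact (congrArg (_ ≫ ·) (LocCohZQ.gammaLift_ι U _ _)).trans (ExtSupp8.sectLift_ι _ _)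
      inv_hom_id := by
        haveI := ExtSupp8.mono_sectOnι X.sheaf U M
        refine (cancel_mono ((ModSite.sectOnι X.sheaf U).app M)).1 ?_
        refine (Category.assoc _ _ _).trans (Eq.trans ?_ (Category.id_comp _).symm)
        exact (congrArg (_ ≫ ·) (ExtSupp8.sectLift_ι _ _)).trans (LocCohZQ.gammaLift_ι U _ _) })
    fun {M M'} g => by
      haveI := ExtSupp8.mono_sectOnι X.sheaf U M'
      refine (cancel_mono ((ModSite.sectOnι X.sheaf U).app M')).1 ?_
      refine (Category.assoc _ _ _).trans (Eq.trans ?_ (Category.assoc _ _ _).symm)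
      refine ((congrArg (_ ≫ ·) (ExtSupp8.sectLift_ι _
        (ExtSupp8.restr_map_eq_zero_of_null_src (isNullOn_gammaZ U M') _))).trans
          ((LocCohZQ.gammaι U.ι).naturality g)).trans ?_
      refine Eq.trans ?_ (congrArg (_ ≫ ·) ((ModSite.sectOnι X.sheaf U).naturality g).symm)
      exact (congrArg (· ≫ g) (ExtSupp8.sectLift_ι _
        (ExtSupp8.restr_map_eq_zero_of_null_src (isNullOn_gammaZ U M) _)).symm).trans (Category.assoc _ _ _)

section Union

variable (U V : X.Opens) [ModSite.HasPushOver X.sheaf U] [ModSite.HasPushOver X.sheaf (U ⊔ V)]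

theorem isNullOn_sectOn_sup {M : X.Modules} (h : ModSite.IsNullOn X.sheaf V M) :
    ModSite.IsNullOn X.sheaf (U ⊔ V) ((ModSite.sectOn X.sheaf U).obj M) := by
  refine (isNullOn_iff _ _).2 fun x hx => ?_
  rcases hx with hx | hx
  · exact (isNullOn_iff U _).1 (ExtSupp8.isNullOn_sectOn X.sheaf U M) x hx
  · refine (M1.notMem_support_iff _ x).2 fun a => ?_
    haveI := ExtSupp8.mono_sectOnι X.sheaf U M
    exact (M1.mono_iff_stalk ((ModSite.sectOnι X.sheaf U).app M)).1 inferInstance x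
      (((M1.notMem_support_iff M x).1 ((isNullOn_iff V M).1 h x hx) _).trans
        ((M1.notMem_support_iff M x).1 ((isNullOn_iff V M).1 h x hx) _).symm)

/-- For a module null on `V`, sections with supports off `U` are sections with supports off `U ⊔ V`. -/
def sectSupIso (T : X.Modules ⥤ X.Modules) (h : ∀ G, ModSite.IsNullOn X.sheaf V (T.obj G)) :
    T ⋙ ModSite.sectOn X.sheaf U ≅ T ⋙ ModSite.sectOn X.sheaf (U ⊔ V) :=
  NatIso.ofComponents (fun G =>
    { hom := ExtSupp8.sectLift ((ModSite.sectOnι X.sheaf U).app (T.obj G))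
        (ExtSupp8.restr_map_eq_zero_of_null_src (isNullOn_sectOn_sup U V (h G)) _)
      inv := ExtSupp8.sectLift ((ModSite.sectOnι X.sheaf (U ⊔ V)).app (T.obj G))
        (ExtSupp8.restr_map_eq_zero_of_null_src ((isNullOn_iff U _).2 fun x hx =>
          (isNullOn_iff (U ⊔ V) _).1 (ExtSupp8.isNullOn_sectOn X.sheaf (U ⊔ V) _) x (Or.inl hx)) _)
      hom_inv_id := by
        haveI := ExtSupp8.mono_sectOnι X.sheaf U (T.obj G)
        refine (cancel_mono ((ModSite.sectOnι X.sheaf U).app (T.obj G))).1 ?_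
        refine (Category.assoc _ _ _).trans (Eq.trans ?_ (Category.id_comp _).symm)
        exact (congrArg (_ ≫ ·) (ExtSupp8.sectLift_ι _ _)).trans (ExtSupp8.sectLift_ι _ _)
      inv_hom_id := by
        haveI := ExtSupp8.mono_sectOnι X.sheaf (U ⊔ V) (T.obj G)
        refine (cancel_mono ((ModSite.sectOnι X.sheaf (U ⊔ V)).app (T.obj G))).1 ?_
        refine (Category.assoc _ _ _).trans (Eq.trans ?_ (Category.id_comp _).symm)
        exact (congrArg (_ ≫ ·) (ExtSupp8.sectLift_ι _ _)).trans (ExtSupp8.sectLift_ι _ _) })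
    fun {G G'} g => by
      haveI := ExtSupp8.mono_sectOnι X.sheaf (U ⊔ V) (T.obj G')
      refine (cancel_mono ((ModSite.sectOnι X.sheaf (U ⊔ V)).app (T.obj G'))).1 ?_
      refine (Category.assoc _ _ _).trans (Eq.trans ?_ (Category.assoc _ _ _).symm)
      refine ((congrArg (_ ≫ ·) (ExtSupp8.sectLift_ι _
        (ExtSupp8.restr_map_eq_zero_of_null_src (isNullOn_sectOn_sup U V (h G')) _))).trans
        ((ModSite.sectOnι X.sheaf U).naturality (T.map g))).trans ?_
      refine Eq.trans ?_ (congrArg (_ ≫ ·) ((ModSite.sectOnι X.sheaf (U ⊔ V)).naturality (T.map g)).symm)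
      exact (congrArg (· ≫ T.map g) (ExtSupp8.sectLift_ι _
        (ExtSupp8.restr_map_eq_zero_of_null_src (isNullOn_sectOn_sup U V (h G)) _)).symm).trans (Category.assoc _ _ _)

end Union

section Stalk

variable [IsLocallyNoetherian X]

/-- A germ vanishing at all generalisations in `U` comes from a section vanishing on `U`. -/
theorem exists_mres_eq_zero_of_specializes (U : X.Opens) (M : X.Modules) {x : X} {V : X.Opens} (hxV : x ∈ V)
    (s : Γ(M, V)) (h : ∀ z ∈ U, ∀ hz : z ∈ V, z ⤳ x → M.presheaf.germ V z hz s = 0) :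
    ∃ (W : X.Opens) (hW : W ≤ V), x ∈ W ∧ mres M (inf_le_left : W ⊓ U ≤ W) (mres M hW s) = 0 := by
  obtain ⟨A, hA, hxA, hAV⟩ := exists_isAffineOpen_mem_and_subset (X := X) (x := x) (U := V) hxV
  haveI : TopologicalSpace.NoetherianSpace A := by
    haveI := IsLocallyNoetherian.component_noetherian (X := X) ⟨A, hA⟩
    exact noetherianSpace_of_isAffineOpen A hA
  let S : Set A := {y | M.presheaf.germ V y.1 (hAV y.2) s ≠ 0}
  have hS : IsClosed S := by
    rw [← isOpen_compl_iff, isOpen_iff_mem_nhds]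
    intro y hy
    have hy' : M.presheaf.germ V y.1 (hAV y.2) s = M.presheaf.germ V y.1 (hAV y.2) 0 := by
      rw [map_zero]; exact not_not.1 hy
    obtain ⟨B, hB, i, j, he⟩ := M.presheaf.germ_eq y.1 _ _ _ _ hy'
    refine mem_nhds_iff.2 ⟨{z | z.1 ∈ B}, fun z hz hne => hne ?_, B.2.preimage continuous_subtype_val, hB⟩
    have := congrArg (M.presheaf.germ B z.1 hz) he
    rwa [TopCat.Presheaf.germ_res_apply, map_zero, map_zero] at this
  obtain ⟨P, hPfin, hPcl, hPirr, hSP⟩ := TopologicalSpace.NoetherianSpace.exists_finite_set_isClosed_irreducible hS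
  let Bad := {Z ∈ P | (⟨x, hxA⟩ : A) ∉ Z}
  have hBad : IsClosed (⋃₀ Bad) := Set.sUnion_eq_biUnion ▸
    (hPfin.subset fun Z hZ => hZ.1).isClosed_biUnion fun Z hZ => hPcl Z hZ.1
  obtain ⟨W₀, hW₀, hW₀eq⟩ := isOpen_induced_iff.1 hBad.isOpen_compl
  let W : X.Opens := ⟨W₀, hW₀⟩ ⊓ A
  have hxW : x ∈ W := by
    refine ⟨?_, hxA⟩
    show (⟨x, hxA⟩ : A) ∈ Subtype.val ⁻¹' W₀
    rw [hW₀eq]
    rintro ⟨Z, hZ, hxZ⟩
    exact hZ.2 hxZ
  have hWV : W ≤ V := fun y hy => hAV hy.2
  refine ⟨W, hWV, hxW, M1.section_ext _ _ fun y hy => ?_⟩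
  rw [M1.germ_mres, M1.germ_mres, map_zero]
  by_contra hne
  have hyS : (⟨y, hy.1.2⟩ : A) ∈ ⋃₀ P := hSP ▸ hne
  obtain ⟨Z, hZP, hyZ⟩ := hyS
  have hxZ : (⟨x, hxA⟩ : A) ∈ Z := by
    by_contra hxZ
    have hyW : (⟨y, hy.1.2⟩ : A) ∈ Subtype.val ⁻¹' W₀ := hy.1.1
    rw [hW₀eq] at hyW
    exact hyW ⟨Z, ⟨hZP, hxZ⟩, hyZ⟩
  haveI : QuasiSober A := A.2.isOpenEmbedding_subtypeVal.quasiSober
  obtain ⟨η, hη⟩ := QuasiSober.sober (hPirr Z hZP) (hPcl Z hZP)
  have hηZ : η ∈ Z := hη.mem
  have hηS : η ∈ S := hSP ▸ ⟨Z, hZP, hηZ⟩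
  refine hηS (h η.1 ?_ (hAV η.2) ((hη.specializes hxZ).map continuous_subtype_val))
  exact ((hη.specializes hyZ).map continuous_subtype_val).mem_open U.2 hy.2

/-- Membership in the stalk of the sections with supports. -/
theorem mem_range_stalk_gammaι_iff (U : X.Opens) (M : X.Modules) (x : X) (a : M.presheaf.stalk x) :
    a ∈ Set.range ((M1.stalkAb x).map ((LocCohZQ.gammaι U.ι).app M)) ↔
      ∀ z ∈ U, ∀ hz : z ⤳ x, M.presheaf.stalkSpecializes hz a = 0 := by
  constructor
  · rintro ⟨b, rfl⟩ z hzU hz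
    obtain ⟨V, hV, s, rfl⟩ := TopCat.Presheaf.exists_germ_eq ((DCoh.gammaZ U.ι).obj M).presheaf b
    have hzV : z ∈ V := hz.mem_open V.2 hV
    rw [show (M1.stalkAb x).map ((LocCohZQ.gammaι U.ι).app M) (((DCoh.gammaZ U.ι).obj M).presheaf.germ V x hV s) =
      M.presheaf.germ V x hV (((LocCohZQ.gammaι U.ι).app M).app V s) from
      TopCat.Presheaf.stalkFunctor_map_germ_apply V x hV
        ((Scheme.Modules.toPresheaf X).map ((LocCohZQ.gammaι U.ι).app M)) s,
      TopCat.Presheaf.germ_stalkSpecializes_apply,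
      ← M1.germ_mres M (inf_le_left : V ⊓ U ≤ V) (⟨hzV, hzU⟩ : z ∈ V ⊓ U), LocCohZQ.gammaι_vanish, map_zero]
  · intro h
    obtain ⟨V, hV, s, rfl⟩ := TopCat.Presheaf.exists_germ_eq M.presheaf a
    obtain ⟨W, hW, hxW, h0⟩ := exists_mres_eq_zero_of_specializes U M hV s fun z hzU hzV hz => by
      have := h z hzU hz
      rwa [TopCat.Presheaf.germ_stalkSpecializes_apply] at this
    obtain ⟨t, ht⟩ := LocCohZQ.exists_gamma_preimage U M W (mres M hW s) h0
    refine ⟨((DCoh.gammaZ U.ι).obj M).presheaf.germ W x hxW t, ?_⟩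
    refine (TopCat.Presheaf.stalkFunctor_map_germ_apply W x hxW
      ((Scheme.Modules.toPresheaf X).map ((LocCohZQ.gammaι U.ι).app M)) t).trans ?_
    exact (congrArg _ ht).trans (M1.germ_mres M hW hxW s)

end Stalk

end Groth.Agent.CohMop
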