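import Groth.Agent.Lib.CohMop.SectSupport
import Groth.Agent.Lib.RDerLES.Horseshoe
import Groth.Agent.Lib.RegLoc.GlobalDim
import Groth.Agent.Lib.HomDim.Basic

/-!
# Vanishing of `ℋom(F, Γ_Z -)` derived, above the dimension and below the depth
-/

set_option autoImplicit false
set_option linter.style.haveILetI false
set_option linter.unusedSectionVars false
set_option backward.isDefEq.respectTransparency false
set_option backward.isDefEq.respectTransparency.types false

universe u

open CategoryTheory CategoryTheory.Limits AlgebraicGeometry Opposite TopologicalSpace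

noncomputable section

namespace Groth.Agent.CohMop

open Groth.Agent M1

variable {X : Scheme.{u}}

theorem modCmp_natural {M N : X.Modules} (f : M ⟶ N) (x : X) (a : M.presheaf.stalk x) :
    modCmp x N ((M1.stalkAb x).map f a) = (stFun x).map f (modCmp x M a) := by
  obtain ⟨U, hU, s, rfl⟩ := TopCat.Presheaf.exists_germ_eq M.presheaf a
  rw [modCmp_germ]
  refine Eq.trans (congrArg (modCmp x _) ?_) ((modCmp_germ x _ hU _).trans
    (ModFlat16.stalkMap_germ (O := X.sheaf) f x (nb x hU) s).symm)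
  exact TopCat.Presheaf.stalkFunctor_map_germ_apply U x hU ((Scheme.Modules.toPresheaf X).map f) s

theorem stalkSpecializes_smul {x z : X} (h : z ⤳ x) (M : X.Modules) (r : X.presheaf.stalk x)
    (a : M.presheaf.stalk x) :
    M.presheaf.stalkSpecializes h (r • a) = X.presheaf.stalkSpecializes h r • M.presheaf.stalkSpecializes h a := by
  obtain ⟨U, hU, r, rfl⟩ := X.presheaf.exists_germ_eq r
  obtain ⟨V, hV, a, rfl⟩ := TopCat.Presheaf.exists_germ_eq M.presheaf a
  rw [← X.presheaf.germ_res_apply (homOfLE inf_le_left : U ⊓ V ⟶ U) x ⟨hU, hV⟩ r,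
    ← M1.germ_mres M (inf_le_right : U ⊓ V ≤ V) (⟨hU, hV⟩ : x ∈ U ⊓ V), ← M1.germ_smul,
    TopCat.Presheaf.germ_stalkSpecializes_apply, TopCat.Presheaf.germ_stalkSpecializes_apply,
    TopCat.Presheaf.germ_stalkSpecializes_apply, M1.germ_smul]

/-- The kernel of specialisation is torsion. -/
theorem exists_smul_eq_zero_of_specializes {M : X.Modules} (hM : Coh.IsQCoh M) {x z : X} (h : z ⤳ x)
    (a : M.presheaf.stalk x) (ha : M.presheaf.stalkSpecializes h a = 0) :
    ∃ r : X.presheaf.stalk x, IsUnit (X.presheaf.stalkSpecializes h r) ∧ r • a = 0 := by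
  haveI := hM
  obtain ⟨V, hV, s, rfl⟩ := TopCat.Presheaf.exists_germ_eq M.presheaf a
  obtain ⟨A, hA, hxA, hAV⟩ := exists_isAffineOpen_mem_and_subset (X := X) (x := x) (U := V) hV
  have hzA : z ∈ A := h.mem_open A.2 hxA
  rw [← M1.germ_mres M (show A ≤ V from hAV) hxA] at ha ⊢
  rw [TopCat.Presheaf.germ_stalkSpecializes_apply] at ha
  obtain ⟨r, hr, h0⟩ := M1.exists_smul_eq_zero_of_germ_eq_zero M hA hzA _ ha
  refine ⟨X.presheaf.germ A x hxA r, ?_, ?_⟩
  · rwa [TopCat.Presheaf.germ_stalkSpecializes_apply]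
  · rw [← M1.germ_smul, h0, map_zero]

variable [IsLocallyNoetherian X]

theorem mem_range_stFun_gammaι_iff (U : X.Opens) (M : X.Modules) (x : X)
    (a : ModSite.stalkMod (O := X.sheaf) (pt x) M) :
    a ∈ LinearMap.range ((stFun x).map ((LocCohZQ.gammaι U.ι).app M)).hom ↔
      ∀ z ∈ U, ∀ hz : z ⤳ x, M.presheaf.stalkSpecializes hz ((modCmp x M).symm a) = 0 := by
  rw [← mem_range_stalk_gammaι_iff U M x, LinearMap.mem_range]
  constructor
  · rintro ⟨b, hb⟩
    refine ⟨(modCmp x _).symm b, (modCmp x M).injective ?_⟩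
    refine (modCmp_natural ((LocCohZQ.gammaι U.ι).app M) x _).trans ?_
    refine (congrArg _ ((modCmp x _).apply_symm_apply b)).trans (hb.trans ?_)
    exact ((modCmp x M).apply_symm_apply a).symm
  · rintro ⟨b, hb⟩
    refine ⟨modCmp x _ b, ?_⟩
    refine (modCmp_natural ((LocCohZQ.gammaι U.ι).app M) x b).symm.trans ?_
    exact (congrArg (modCmp x M) hb).trans ((modCmp x M).apply_symm_apply a)

/-- A section on stalks preserves sections with supports. -/
theorem isSplitEpi_stFun_gamma (U : X.Opens) {S : ShortComplex X.Modules} (hS : S.ShortExact)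
    (h₃ : Coh.IsQCoh S.X₃) (x : X) [Injective ((stFun x).obj S.X₁)] :
    IsSplitEpi ((stFun x).map ((DCoh.gammaZ U.ι).map S.g)) := by
  haveI := preservesHomology_stFun x
  haveI := (stFun x).preservesFiniteLimits_of_preservesHomology
  haveI := (stFun x).preservesFiniteColimits_of_preservesHomology
  have hS' := hS.map_of_exact (stFun x)
  haveI : Injective (S.map (stFun x)).X₁ := ‹_›
  let σ : (stFun x).obj S.X₃ ⟶ (stFun x).obj S.X₂ := hS'.splittingOfInjective.s
  have hσ : σ ≫ (stFun x).map S.g = 𝟙 _ := hS'.splittingOfInjective.s_g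
  let i₂ := (stFun x).map ((LocCohZQ.gammaι U.ι).app S.X₂)
  let i₃ := (stFun x).map ((LocCohZQ.gammaι U.ι).app S.X₃)
  have hmem : ∀ t, (i₃ ≫ σ).hom t ∈ LinearMap.range i₂.hom := fun t => by
    rw [mem_range_stFun_gammaι_iff]
    intro z hzU hz
    have h0 := (mem_range_stFun_gammaι_iff U S.X₃ x (i₃.hom t)).1 ⟨t, rfl⟩ z hzU hz
    obtain ⟨r, hr, hr0⟩ := exists_smul_eq_zero_of_specializes h₃ hz _ h0
    have h1 : r • (modCmp x S.X₂).symm (σ.hom (i₃.hom t)) = 0 := by
      apply (modCmp x S.X₂).injective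
      rw [modCmp_smul, AddEquiv.apply_symm_apply, map_zero, ← σ.hom.map_smul,
        show ringCmp x r • i₃.hom t = 0 by
          have := congrArg (modCmp x S.X₃) hr0
          rwa [modCmp_smul, AddEquiv.apply_symm_apply, map_zero] at this,
        map_zero]
    have h2 := congrArg (S.X₂.presheaf.stalkSpecializes hz) h1
    rw [stalkSpecializes_smul, map_zero] at h2
    exact hr.smul_eq_zero.1 h2
  haveI := LocCohZQ.mono_gammaι U S.X₂
  have hinj : Function.Injective i₂.hom := (ModuleCat.mono_iff_injective i₂).1 inferInstance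
  let σ' : (stFun x).obj ((DCoh.gammaZ U.ι).obj S.X₃) ⟶ (stFun x).obj ((DCoh.gammaZ U.ι).obj S.X₂) :=
    ModuleCat.ofHom ((LinearEquiv.ofInjective i₂.hom hinj).symm.toLinearMap.comp ((i₃ ≫ σ).hom.codRestrict _ hmem))
  have hσ' : σ' ≫ i₂ = i₃ ≫ σ := ModuleCat.hom_ext (LinearMap.ext fun t =>
    congrArg Subtype.val ((LinearEquiv.ofInjective i₂.hom hinj).apply_symm_apply ⟨_, hmem t⟩))
  haveI := LocCohZQ.mono_gammaι U S.X₃
  haveI : Mono i₃ := inferInstanceAs (Mono ((stFun x).map ((LocCohZQ.gammaι U.ι).app S.X₃)))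
  refine IsSplitEpi.mk' ⟨σ', (cancel_mono i₃).1 ?_⟩
  have hn : (stFun x).map ((DCoh.gammaZ U.ι).map S.g) ≫ i₃ = i₂ ≫ (stFun x).map S.g :=
    ((stFun x).map_comp _ _).symm.trans ((congrArg (stFun x).map ((LocCohZQ.gammaι U.ι).naturality S.g)).trans
      ((stFun x).map_comp _ _))
  rw [Category.assoc, hn, reassoc_of% hσ', hσ, Category.comp_id, Category.id_comp]

variable (U : X.Opens) {F : X.Modules}

/-- `ℋom(F, Γ_Z -)`. -/
abbrev gammaHom (F : X.Modules) : X.Modules ⥤ X.Modules := DCoh.gammaZ U.ι ⋙ ihom F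

instance preservesFiniteLimits_gammaHom : PreservesFiniteLimits (gammaHom U F) :=
  haveI := LocCohZQ.preservesFiniteLimits_gammaZ U.ι
  haveI : PreservesFiniteLimits (ihom F) := PreservesLimitsOfSize.preservesFiniteLimits _
  comp_preservesFiniteLimits _ _

theorem epi_stFun_gammaHom (hF : Coh.IsCoh F) {S : ShortComplex X.Modules} (hS : S.ShortExact)
    (h₃ : Coh.IsQCoh S.X₃) (x : X) [Injective ((stFun x).obj S.X₁)] :
    Epi ((stFun x).map ((gammaHom U F).map S.g)) := by
  haveI : ModSite.HasSheafHom (O := X.sheaf) F := isLeftAdjoint_tenR F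
  haveI : SheafOfModules.IsFinitePresentation (R := ModSite.ringSh X.sheaf) F := M1.isFP_of_isCoh hF
  haveI := isSplitEpi_stFun_gamma U hS h₃ x
  let A := ModSite.stalkRing (pt x) X.sheaf
  let θ : ihom F ⋙ stFun x ≅ stFun x ⋙ (linearCoyoneda A (ModuleCat.{u} A)).obj (op ((stFun x).obj F)) :=
    stalkIhomIso
  haveI : Epi ((stFun x ⋙ (linearCoyoneda A (ModuleCat.{u} A)).obj (op ((stFun x).obj F))).map
      ((DCoh.gammaZ U.ι).map S.g)) :=
    inferInstanceAs (Epi (((linearCoyoneda A (ModuleCat.{u} A)).obj (op ((stFun x).obj F))).map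
      ((stFun x).map ((DCoh.gammaZ U.ι).map S.g))))
  show Epi ((ihom F ⋙ stFun x).map ((DCoh.gammaZ U.ι).map S.g))
  rw [show (ihom F ⋙ stFun x).map ((DCoh.gammaZ U.ι).map S.g) = θ.hom.app _ ≫
    (stFun x ⋙ (linearCoyoneda A (ModuleCat.{u} A)).obj (op ((stFun x).obj F))).map ((DCoh.gammaZ U.ι).map S.g) ≫
      θ.inv.app _ from (NatIso.naturality_2 θ _).symm]
  infer_instance

/-- An injective hull sequence. -/
theorem exists_qcoh_hull {M : X.Modules} (hM : Coh.IsQCoh M) :
    ∃ S : ShortComplex X.Modules, S.ShortExact ∧ S.X₁ = M ∧ Injective S.X₂ ∧ InjMod.IsEssentialMono S.f ∧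
      Coh.IsQCoh S.X₂ ∧ Coh.IsQCoh S.X₃ := by
  obtain ⟨I, f, hI, hf⟩ := InjMod.exists_injectiveHull.{u} M
  haveI := hf.mono
  have hq : Coh.IsQCoh I := InjMod.isQCoh_of_essential hM hf
  exact ⟨ShortComplex.mk f (cokernel.π f) (cokernel.condition f),
    ShortComplex.ShortExact.mk' (ShortComplex.exact_cokernel f) inferInstance inferInstance, rfl, hI, hf, hq,
    M1.isQCoh_cokernel hM hq f⟩

attribute [local instance] HasDerivedCategory.standard in
/-- Vanishing above the injective dimension. -/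
theorem isZero_stFun_gammaHom [(gammaHom U F).Additive] (hF : Coh.IsCoh F) (x : X) : ∀ (i : ℕ) (M : X.Modules),
    Coh.IsQCoh M → HasInjectiveDimensionLT ((stFun x).obj M) (i + 1) →
      IsZero ((stFun x).obj (((gammaHom U F).rightDerived (i + 1)).obj M)) := by
  haveI := preservesHomology_stFun x
  intro i
  induction i with
  | zero =>
    intro M hM hd
    obtain ⟨S, hS, rfl, hI, -, -, h₃⟩ := exists_qcoh_hull hM
    haveI : Injective ((stFun x).obj S.X₁) := injective_iff_hasInjectiveDimensionLT_one.2 hd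
    haveI := epi_stFun_gammaHom U hF hS h₃ x
    obtain ⟨T⟩ := RDerLES.exists_sesRes hS
    obtain ⟨w, he⟩ := (RDerLES.exact_sequences (gammaHom U F) T 0 1 rfl).2.1
    haveI : Epi (T.delta (gammaHom U F) 0 1 rfl) := by
      obtain ⟨w', he'⟩ := (RDerLES.exact_sequences (gammaHom U F) T 0 1 rfl).2.2
      exact he'.epi_f (((gammaHom U F).isZero_rightDerived_obj_injective_succ 0 S.X₂).eq_of_tgt _ _)
    let η := (gammaHom U F).rightDerivedZeroIsoSelf
    haveI : Epi ((stFun x).map (((gammaHom U F).rightDerived 0).map S.g)) := by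
      rw [show ((gammaHom U F).rightDerived 0).map S.g =
        η.hom.app S.X₂ ≫ (gammaHom U F).map S.g ≫ η.inv.app S.X₃ from (NatIso.naturality_2 η S.g).symm,
        Functor.map_comp, Functor.map_comp]
      infer_instance
    haveI := (stFun x).preservesFiniteColimits_of_preservesHomology
    have hz : (stFun x).map (T.delta (gammaHom U F) 0 1 rfl) = 0 := by
      rw [← cancel_epi ((stFun x).map (((gammaHom U F).rightDerived 0).map S.g)), ← Functor.map_comp, w,
        Functor.map_zero, comp_zero]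
    exact IsZero.of_epi_eq_zero _ hz
  | succ i ih =>
    intro M hM hd
    obtain ⟨S, hS, rfl, hI, -, -, h₃⟩ := exists_qcoh_hull hM
    haveI := (stFun x).preservesFiniteLimits_of_preservesHomology
    haveI := (stFun x).preservesFiniteColimits_of_preservesHomology
    have hS' := hS.map_of_exact (stFun x)
    haveI : Injective ((stFun x).obj S.X₂) := injective_stalkMod x S.X₂
    haveI : HasInjectiveDimensionLT ((stFun x).obj S.X₂) 1 := injective_iff_hasInjectiveDimensionLT_one.1 ‹_›
    have h := ih S.X₃ h₃ (hS'.hasInjectiveDimensionLT_X₃ (i + 1)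
      (hasInjectiveDimensionLT_of_ge ((stFun x).obj S.X₂) 1 (i + 1) (Nat.succ_le_succ (Nat.zero_le i))) hd)
    obtain ⟨T⟩ := RDerLES.exists_sesRes hS
    obtain ⟨w', he'⟩ := (RDerLES.exact_sequences (gammaHom U F) T (i + 1) (i + 2) rfl).2.2
    haveI : Epi (T.delta (gammaHom U F) (i + 1) (i + 2) rfl) :=
      he'.epi_f (((gammaHom U F).isZero_rightDerived_obj_injective_succ (i + 1) S.X₂).eq_of_tgt _ _)
    exact IsZero.of_epi ((stFun x).map (T.delta (gammaHom U F) (i + 1) (i + 2) rfl)) h

omit [IsLocallyNoetherian X] in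
/-- Sections with supports vanish on essential extensions. -/
theorem isZero_gammaZ_of_essential {M I : X.Modules} {f : M ⟶ I} (hf : InjMod.IsEssentialMono f)
    (h : IsZero ((DCoh.gammaZ U.ι).obj M)) : IsZero ((DCoh.gammaZ U.ι).obj I) := by
  haveI := hf.mono
  haveI := LocCohZQ.mono_gammaι U I
  let i := (LocCohZQ.gammaι U.ι).app I
  let q := cokernel.π i
  let k := kernel.ι (f ≫ q)
  have hk : k ≫ f ≫ q = 0 := kernel.condition _
  let l := Abelian.monoLift i (k ≫ f) (by rw [Category.assoc]; exact hk)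
  have hl : l ≫ i = k ≫ f := Abelian.monoLift_comp i (k ≫ f) _
  let m : kernel (f ≫ q) ⟶ (DCoh.gammaZ U.ι).obj M := LocCohZQ.gammaLift U k fun V s => by
    apply M1.app_injective f (V ⊓ U)
    rw [map_zero, M1.app_mres, ← M1.comp_app_apply, ← hl, M1.comp_app_apply]
    exact LocCohZQ.gammaι_vanish U I V _
  have hk0 : k = 0 := by
    rw [← LocCohZQ.gammaLift_ι U k _]
    exact (congrArg (· ≫ _) (h.eq_of_tgt m 0)).trans zero_comp
  haveI : Mono (f ≫ q) := Preadditive.mono_of_kernel_zero hk0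
  haveI : Mono q := hf.detect q inferInstance
  exact IsZero.of_mono_eq_zero i (by rw [← cancel_mono q, zero_comp]; exact cokernel.condition i)

end Groth.Agent.CohMop
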