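import Groth.Agent.Lib.FinPres16.HomSheafColim
import Groth.Agent.Lib.ModFlat16.StalkFree
import Mathlib.CategoryTheory.Linear.Yoneda

/-!
# Stalks of internal homs out of finitely presented modules
-/

set_option autoImplicit false
set_option linter.style.haveILetI false
set_option linter.unusedSectionVars false
set_option backward.isDefEq.respectTransparency false
set_option backward.isDefEq.respectTransparency.types false

universe u

open CategoryTheory CategoryTheory.Limits Opposite TopologicalSpace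

noncomputable section

namespace Groth.Agent.CohMop

open Groth.Agent.ModFlat16 Groth.Agent.FinPres16

namespace SH

variable {X : TopCat.{u}} {O : Sheaf (Opens.grothendieckTopology X) CommRingCat.{u}} {M N N' : ModSite.Mod O} [ModSite.HasSheafHom M]
  {x : X}

local notation "𝔭" => ModFlat16.pt x
set_option quotPrecheck false in
local notation "ℋ" => (ModSite.sheafHom M).obj N

theorem germ_res {F : ModSite.Mod O} {U V : Opens X} (g : V ⟶ U) (hV : x ∈ V) (hU : x ∈ U)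
    (s : ModSite.sect F U) :
    ModSite.germ 𝔭 F V (mk hV) (smap F g s) = ModSite.germ 𝔭 F U (mk hU) s := by
  rw [germ_smap]
  exact congrArg (fun v => ModSite.germ 𝔭 F U v s) (Subsingleton.elim _ _)

theorem germ_add {F : ModSite.Mod O} {U : Opens X} (v : (ModFlat16.pt x).fiber.obj U) (s t : ModSite.sect F U) :
    ModSite.germ 𝔭 F U v (s + t) = ModSite.germ 𝔭 F U v s + ModSite.germ 𝔭 F U v t :=
  map_add ((ModFlat16.pt x).toPresheafFiber U v (ModSite.toAb F).obj).hom s t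

theorem germ_zero {F : ModSite.Mod O} {U : Opens X} (v : (ModFlat16.pt x).fiber.obj U) :
    ModSite.germ 𝔭 F U v (0 : ModSite.sect F U) = 0 :=
  map_zero ((ModFlat16.pt x).toPresheafFiber U v (ModSite.toAb F).obj).hom

theorem exists_rep {F : ModSite.Mod O} (a : ModSite.stalkMod 𝔭 F) :
    ∃ (U : Opens X) (hU : x ∈ U) (s : ModSite.sect F U), ModSite.germ 𝔭 F U (mk hU) s = a := by
  obtain ⟨U, u, s, hs⟩ := (ModFlat16.pt x).toPresheafFiber_jointly_surjective (P := (ModSite.toAb F).obj) a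
  exact ⟨U, u.down.down, s, (congrArg (fun v => ModSite.germ 𝔭 F U v s) (Subsingleton.elim _ _)).trans hs⟩

theorem exists_ringRep (r : ModSite.stalkRing 𝔭 O) :
    ∃ (U : Opens X) (hU : x ∈ U) (s : O.obj.obj (op U)), ModSite.germRing 𝔭 U (mk hU) s = r := by
  obtain ⟨U, u, s, hs⟩ := (ModFlat16.pt x).toPresheafFiber_jointly_surjective (P := O.obj) r
  exact ⟨U, u.down.down, s, (congrArg (fun v => ModSite.germRing 𝔭 U v s) (Subsingleton.elim _ _)).trans hs⟩

/-- `c` is the value of the germ `a` at the germ `b`. -/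
def Val (a : ModSite.stalkMod 𝔭 ℋ) (b : ModSite.stalkMod 𝔭 M) (c : ModSite.stalkMod 𝔭 N) : Prop :=
  ∃ (U : Opens X) (hU : x ∈ U) (z : ModSite.sect ℋ U) (s : ModSite.sect M U),
    ModSite.germ 𝔭 ℋ U (mk hU) z = a ∧ ModSite.germ 𝔭 M U (mk hU) s = b ∧
      ModSite.germ 𝔭 N U (mk hU) (hval z s) = c

theorem exists_val (a : ModSite.stalkMod 𝔭 ℋ) (b : ModSite.stalkMod 𝔭 M) : ∃ c, Val a b c := by
  obtain ⟨U, hU, z, rfl⟩ := exists_rep a
  obtain ⟨V, hV, s, rfl⟩ := exists_rep b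
  have hx : x ∈ U ⊓ V := ⟨hU, hV⟩
  exact ⟨_, U ⊓ V, hx, smap ℋ (homOfLE inf_le_left) z, smap M (homOfLE inf_le_right) s,
    germ_res _ hx hU z, germ_res _ hx hV s, rfl⟩

theorem val_unique {a : ModSite.stalkMod 𝔭 ℋ} {b : ModSite.stalkMod 𝔭 M} {c c' : ModSite.stalkMod 𝔭 N}
    (h : Val a b c) (h' : Val a b c') : c = c' := by
  obtain ⟨U, hU, z, s, ha, hb, hc⟩ := h
  obtain ⟨V, hV, z', s', ha', hb', hc'⟩ := h'
  have hx : x ∈ U ⊓ V := ⟨hU, hV⟩
  let gU : U ⊓ V ⟶ U := homOfLE inf_le_left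
  let gV : U ⊓ V ⟶ V := homOfLE inf_le_right
  obtain ⟨W, g, w, -, hz⟩ := exists_nbhd_eq (ι := PUnit.{1}) (ModFlat16.pt x) (U ⊓ V) (mk hx)
    (fun _ => smap ℋ gU z) (fun _ => smap ℋ gV z') (fun _ => by rw [germ_res gU hx hU, germ_res gV hx hV, ha, ha'])
  have hW : x ∈ W := w.down.down
  obtain ⟨W', g', w', -, hs⟩ := exists_nbhd_eq (ι := PUnit.{1}) (ModFlat16.pt x) W (mk hW)
    (fun _ => smap M g (smap M gU s)) (fun _ => smap M g (smap M gV s')) (fun _ => by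
      rw [germ_res g hW hx, germ_res g hW hx, germ_res gU hx hU, germ_res gV hx hV, hb, hb'])
  have hW' : x ∈ W' := w'.down.down
  rw [← hc, ← hc', ← germ_res gU hx hU, ← germ_res gV hx hV, ← germ_res g hW hx, ← germ_res g hW hx,
    ← germ_res g' hW' hW, ← germ_res g' hW' hW, ← hval_smap, ← hval_smap, ← hval_smap, ← hval_smap,
    ← hval_smap, ← hval_smap, hz PUnit.unit, hs PUnit.unit]

/-- The value. -/
def ev (a : ModSite.stalkMod 𝔭 ℋ) (b : ModSite.stalkMod 𝔭 M) : ModSite.stalkMod 𝔭 N :=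
  (exists_val a b).choose

theorem ev_eq {a : ModSite.stalkMod 𝔭 ℋ} {b : ModSite.stalkMod 𝔭 M} {c : ModSite.stalkMod 𝔭 N}
    (h : Val a b c) : ev a b = c :=
  val_unique (exists_val a b).choose_spec h

theorem ev_germ {U : Opens X} (hU : x ∈ U) (z : ModSite.sect ℋ U) (s : ModSite.sect M U) :
    ev (ModSite.germ 𝔭 ℋ U (mk hU) z) (ModSite.germ 𝔭 M U (mk hU) s) = ModSite.germ 𝔭 N U (mk hU) (hval z s) :=
  ev_eq ⟨U, hU, z, s, rfl, rfl, rfl⟩

theorem ev_add (a : ModSite.stalkMod 𝔭 ℋ) (b b' : ModSite.stalkMod 𝔭 M) : ev a (b + b') = ev a b + ev a b' := by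
  obtain ⟨U, hU, z, rfl⟩ := exists_rep a
  obtain ⟨V, hV, g, t, ht⟩ := exists_lifts x (fun i : Bool => cond i b b') hU
  have h1 : ModSite.germ 𝔭 M V (mk g) (t true) = b := ht true
  have h2 : ModSite.germ 𝔭 M V (mk g) (t false) = b' := ht false
  rw [← germ_res hV g hU z, ← h1, ← h2, ← germ_add, ev_germ, ev_germ, ev_germ, hval_add, germ_add]

theorem ev_add_left (a a' : ModSite.stalkMod 𝔭 ℋ) (b : ModSite.stalkMod 𝔭 M) :
    ev (a + a') b = ev a b + ev a' b := by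
  obtain ⟨U, hU, s, rfl⟩ := exists_rep b
  obtain ⟨V, hV, g, t, ht⟩ := exists_lifts x (fun i : Bool => cond i a a') hU
  have h1 : ModSite.germ 𝔭 ℋ V (mk g) (t true) = a := ht true
  have h2 : ModSite.germ 𝔭 ℋ V (mk g) (t false) = a' := ht false
  rw [← germ_res hV g hU s, ← h1, ← h2, ← germ_add, ev_germ, ev_germ, ev_germ, hval_add_left, germ_add]

theorem ev_smul (r : ModSite.stalkRing 𝔭 O) (a : ModSite.stalkMod 𝔭 ℋ) (b : ModSite.stalkMod 𝔭 M) :
    ev a (r • b) = r • ev a b ∧ ev (r • a) b = r • ev a b := by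
  obtain ⟨U₁, h₁, r, rfl⟩ := exists_ringRep r
  obtain ⟨U₂, h₂, z, rfl⟩ := exists_rep a
  obtain ⟨U₃, h₃, s, rfl⟩ := exists_rep b
  have hx : x ∈ U₁ ⊓ (U₂ ⊓ U₃) := ⟨h₁, h₂, h₃⟩
  let g₁ : U₁ ⊓ (U₂ ⊓ U₃) ⟶ U₁ := homOfLE inf_le_left
  let g₂ : U₁ ⊓ (U₂ ⊓ U₃) ⟶ U₂ := homOfLE (inf_le_right.trans inf_le_left)
  let g₃ : U₁ ⊓ (U₂ ⊓ U₃) ⟶ U₃ := homOfLE (inf_le_right.trans inf_le_right)
  have hr : ModSite.germRing 𝔭 U₁ (mk h₁) r = ModSite.germRing 𝔭 _ (mk hx) (rmap O g₁ r) := by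
    rw [germRing_rmap]; exact congrArg (fun v => ModSite.germRing 𝔭 U₁ v r) (Subsingleton.elim _ _)
  rw [hr, ← germ_res g₂ hx h₂ z, ← germ_res g₃ hx h₃ s, ev_germ, ← ModSite.germ_smul, ← ModSite.germ_smul,
    ← ModSite.germ_smul, ev_germ, ev_germ, hval_smul, hval_smul_left]
  exact ⟨rfl, rfl⟩

/-- The comparison map. -/
def evLin : ModSite.stalkMod 𝔭 ℋ →ₗ[ModSite.stalkRing 𝔭 O]
    (ModSite.stalkMod 𝔭 M →ₗ[ModSite.stalkRing 𝔭 O] ModSite.stalkMod 𝔭 N) where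
  toFun a :=
    { toFun := ev a
      map_add' := ev_add a
      map_smul' := fun r b => (ev_smul r a b).1 }
  map_add' a a' := LinearMap.ext fun b => ev_add_left a a' b
  map_smul' r a := LinearMap.ext fun b => (ev_smul r a b).2

theorem evLin_natural (f : N ⟶ N') (a : ModSite.stalkMod 𝔭 ℋ) (b : ModSite.stalkMod 𝔭 M) :
    evLin ((ModSite.stalkMap 𝔭 ((ModSite.sheafHom M).map f)).hom a) b = (ModSite.stalkMap 𝔭 f).hom (evLin a b) := by
  obtain ⟨U, hU, z, rfl⟩ := exists_rep a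
  obtain ⟨V, hV, s, rfl⟩ := exists_rep b
  have hx : x ∈ U ⊓ V := ⟨hU, hV⟩
  rw [← germ_res (homOfLE inf_le_left) hx hU z, ← germ_res (homOfLE inf_le_right) hx hV s]
  show ev _ _ = (ModSite.stalkMap 𝔭 f).hom (ev _ _)
  rw [stalkMap_germ, ev_germ, ev_germ, stalkMap_germ, hval_map]

variable [SheafOfModules.IsFinitePresentation (R := ModSite.ringSh O) M]

theorem evLin_injective : Function.Injective (evLin (M := M) (N := N) (x := x)) := by
  refine (injective_iff_map_eq_zero _).2 fun a ha => ?_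
  obtain ⟨U, hU, z, rfl⟩ := exists_rep a
  obtain ⟨U', hU', ι, κ, hι, hκ, s, R, hs, -⟩ := exists_mem_of_covd (covd_hasPres (M := M)) x
  have hx : x ∈ U ⊓ U' := ⟨hU, hU'⟩
  let g : U ⊓ U' ⟶ U := homOfLE inf_le_left
  let g' : U ⊓ U' ⟶ U' := homOfLE inf_le_right
  obtain ⟨W, l, w, -, he⟩ := exists_nbhd_eq (ModFlat16.pt x) (U ⊓ U') (mk hx)
    (fun i => hval (smap ℋ g z) (smap M g' (s i))) 0 (fun i => by
      rw [← ev_germ, germ_res g hx hU, Pi.zero_apply, germ_zero]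
      exact LinearMap.congr_fun ha _)
  have hW : x ∈ W := w.down.down
  rw [← germ_res g hx hU, ← germ_res l hW hx]
  refine Eq.trans (congrArg _ (hval_ext _ (0 : ModSite.sect ℋ W) fun u t => ?_)) (germ_zero _)
  refine hval_eq_of_gens (gens_smap l (gens_smap g' hs)) _ _ (fun i => ?_) u t
  rw [hval_zero_left, hval_smap, he i, Pi.zero_apply, map_zero]

theorem evLin_surjective : Function.Surjective (evLin (M := M) (N := N) (x := x)) := by
  intro φ
  obtain ⟨U, hU, ι, κ, hι, hκ, s, R, hs, hR⟩ := exists_mem_of_covd (covd_hasPres (M := M)) x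
  obtain ⟨V, f, hV, t, ht⟩ := exists_lifts x (fun i => φ (ModSite.germ 𝔭 M U (mk hU) (s i))) hU
  have hsum : ∀ r, ∑ i, R r i • s i = 0 := fun r => by
    refine Eq.trans ?_ (hR.1 r)
    exact rfl
  obtain ⟨W, l, w, -, he⟩ := exists_nbhd_eq (ModFlat16.pt x) V (mk hV)
    (fun r => ∑ i, rmap O f (R r i) • t i) 0 (fun r => by
      rw [Pi.zero_apply, germ_zero, germ_sum]
      have h0 : φ (ModSite.germ 𝔭 M V (mk hV) (∑ i, rmap O f (R r i) • smap M f (s i))) = 0 := by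
        rw [← smap_comb, hsum, map_zero, germ_zero, map_zero]
      rw [germ_sum, map_sum] at h0
      refine Eq.trans (Finset.sum_congr rfl fun i _ => ?_) h0
      rw [ModSite.germ_smul, ModSite.germ_smul, map_smul, ht, germ_res f hV hU])
  have hW : x ∈ W := w.down.down
  obtain ⟨ψ, hψ⟩ := exists_hom_of_pres (gens_smap (l ≫ f) hs) (rels_smap (l ≫ f) hR)
    (fun i => smap N l (t i)) (fun r => by
      refine Eq.trans ?_ ((he r).trans (map_zero _))
      rw [smap_comb]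
      exact Finset.sum_congr rfl fun i _ => by rw [rmap_comp])
  obtain ⟨z, hz⟩ := exists_hval ψ
  refine ⟨ModSite.germ 𝔭 ℋ W (mk hW) z, LinearMap.ext fun b => ?_⟩
  obtain ⟨V₁, hV₁, b₁, rfl⟩ := exists_rep b
  have hx : x ∈ V₁ ⊓ W := ⟨hV₁, hW⟩
  let k : V₁ ⊓ W ⟶ W := homOfLE inf_le_right
  let b₂ := smap M (homOfLE inf_le_left : V₁ ⊓ W ⟶ V₁) b₁
  obtain ⟨S, hS, hb⟩ := gens_apply (gens_smap (l ≫ f) hs) k b₂
  obtain ⟨Y, m, hm, y, -⟩ := (ModFlat16.pt x).jointly_surjective S hS (mk hx)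
  obtain ⟨c, hc⟩ := hb m hm
  have hY : x ∈ Y := y.down.down
  rw [← germ_res (homOfLE inf_le_left) hx hV₁ b₁, ← germ_res m hY hx, ← germ_res (m ≫ k) hY hW z]
  show ev _ _ = _
  rw [ev_germ, hc, hval_comb, germ_sum, germ_sum, map_sum]
  refine Finset.sum_congr rfl fun i _ => ?_
  rw [ModSite.germ_smul, ModSite.germ_smul, map_smul]
  refine congrArg (_ • ·) ?_
  rw [hz, hψ, germ_res (m ≫ k) hY hW, germ_res l hW hV, ht, germ_res (m ≫ k) hY hW, germ_res (l ≫ f) hW hU]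

end SH

end Groth.Agent.CohMop
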