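import Groth.Agent.Lib.RefHull26.DepthExt
import Groth.Agent.Lib.RefHull26.Hom
import Groth.Agent.Lib.ModM1.Coh

/-!
# A linear map of stalks spreads out to a neighbourhood
-/

set_option autoImplicit false
set_option linter.style.haveILetI false
set_option backward.isDefEq.respectTransparency.types false
universe u

open CategoryTheory AlgebraicGeometry TopologicalSpace Opposite

namespace Groth.Agent.RH26

variable {X : Scheme.{u}}

/-- A section of the sheaf Hom gives a morphism of restrictions. -/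
theorem exists_restrictHom (G F : X.Modules) (W : X.Opens) (g : Γ(RefHull.homSh G F, W)) :
    ∃ φ : G.restrict W.ι ⟶ F.restrict W.ι, ∀ (z : (W : Scheme.{u})) (v : (G.restrict W.ι).presheaf.stalk z),
      ((Scheme.Modules.restrictStalkNatIso W.ι z).app F).hom (RefHull.stalkMapₗ φ z v) =
        g.1 ⟨z.1, z.2⟩ (((Scheme.Modules.restrictStalkNatIso W.ι z).app G).hom v) := by
  let e : ∀ (M : X.Modules) (z : (W : Scheme.{u})), (M.restrict W.ι).presheaf.stalk z ≃+ M.presheaf.stalk z.1 :=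
    fun M z => ((Scheme.Modules.restrictStalkNatIso W.ι z).app M).addCommGroupIsoToAddEquiv
  have key : ∀ (M : X.Modules) (z : (W : Scheme.{u})) (V : (W : Scheme.{u}).Opens) (hV : z ∈ V) (t : Γ(M.restrict W.ι, V)),
      e M z ((M.restrict W.ι).presheaf.germ V z hV t) =
        M.presheaf.germ (W.ι ''ᵁ V) z.1 ⟨z, hV, rfl⟩ ((M.restrictAppIso W.ι V).hom t) := fun M z V hV t =>
    ConcreteCategory.congr_hom (Scheme.Modules.germ_restrictStalkNatIso_hom_app W.ι z M hV) t
  have he : ∀ (M : X.Modules) (z : (W : Scheme.{u})) (a : (W : Scheme.{u}).presheaf.stalk z)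
      (v : (M.restrict W.ι).presheaf.stalk z), e M z (a • v) = (W.stalkIso z).hom a • e M z v := fun M z a v => by
    obtain ⟨V, hV, r, rfl⟩ := (W : Scheme.{u}).presheaf.exists_germ_eq a
    obtain ⟨V', hV', m, rfl⟩ := (M.restrict W.ι).presheaf.exists_germ_eq v
    have hstalk : ∀ (U : (W : Scheme.{u}).Opens) (hU : z ∈ U) (t : Γ((W : Scheme.{u}), U)),
        (W.stalkIso z).hom ((W : Scheme.{u}).presheaf.germ U z hU t) =
          X.presheaf.germ (W.ι ''ᵁ U) z.1 ⟨z, hU, rfl⟩ (show Γ(X, W.ι ''ᵁ U) from t) := fun U hU t =>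
      ConcreteCategory.congr_hom (Scheme.Opens.germ_stalkIso_hom W z hU) t
    rw [← TopCat.Presheaf.germ_res_apply (W : Scheme.{u}).presheaf (homOfLE (inf_le_left : V ⊓ V' ≤ V)) z ⟨hV, hV'⟩ r,
      ← TopCat.Presheaf.germ_res_apply (M.restrict W.ι).presheaf (homOfLE (inf_le_right : V ⊓ V' ≤ V')) z ⟨hV, hV'⟩ m,
      ← gsmul, key, key, hstalk, ← gsmul]
    congr 1
    exact M1.restrict_ι_smul (M := M) _ _
  let f : ∀ z : (W : Scheme.{u}), RefHull.StalkHom (G.restrict W.ι) (F.restrict W.ι) z := fun z =>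
    { toFun := fun v => (e F z).symm (g.1 ⟨z.1, z.2⟩ (e G z v))
      map_add' := fun a b => by rw [map_add, map_add, map_add]
      map_smul' := fun a v => by
        apply (e F z).injective
        rw [RingHom.id_apply, AddEquiv.apply_symm_apply, he, he, AddEquiv.apply_symm_apply, map_smul] }
  obtain ⟨φ, hφ⟩ := exists_hom_of_stalkFamily (G.restrict W.ι) (F.restrict W.ι) f fun V m z hz => by
    have hVW : W.ι ''ᵁ V ≤ W := by rintro _ ⟨y, -, rfl⟩; exact y.2
    obtain ⟨W', hW', j, n, hn⟩ := RefHull.isLocSect_of_mem g (W.ι ''ᵁ V) (homOfLE hVW)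
      ((G.restrictAppIso W.ι V).hom m) ⟨z.1, ⟨z, hz, rfl⟩⟩
    have h' : W.ι ''ᵁ (W.ι ⁻¹ᵁ W') ≤ W' := W.ι.image_preimage_le W'
    refine ⟨W.ι ⁻¹ᵁ W', hW', fun y hy => ?_, (F.restrictAppIso W.ι _).inv (F.presheaf.map (homOfLE h').op n), fun y hy => ?_⟩
    · obtain ⟨y', hy', he⟩ := j.le hy
      exact (Subtype.ext he : y' = y) ▸ hy'
    · apply (e F y).injective
      rw [key, Iso.inv_hom_id_apply, TopCat.Presheaf.germ_res_apply]
      show _ = e F y ((e F y).symm _)
      rw [AddEquiv.apply_symm_apply, key]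
      exact (hn ⟨y.1, hy⟩).symm
  refine ⟨φ, fun z v => ?_⟩
  rw [hφ]
  exact (e F z).apply_symm_apply _

/-- A linear map of stalks out of a finitely presented module extends to a neighbourhood. -/
theorem exists_homSh_of_stalk {G F : X.Modules} [Coh.IsQCoh G] (hG : CohB1.IsFP G) (x : X)
    (ψ : RefHull.StalkHom G F x) :
    ∃ (W : X.Opens) (hx : x ∈ W) (g : Γ(RefHull.homSh G F, W)), g.1 ⟨x, hx⟩ = ψ := by
  classical
  obtain ⟨U, hU, hxU, -⟩ := exists_isAffineOpen_mem_and_subset (U := (⊤ : X.Opens)) (x := x) trivial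
  haveI := M1.finitePresentation_sections hG hU
  obtain ⟨k, K, e, hK⟩ := Module.FinitePresentation.exists_fin Γ(X, U) Γ(G, U)
  obtain ⟨s, hs⟩ := hK
  let p : (Fin k → Γ(X, U)) →ₗ[Γ(X, U)] Γ(G, U) := e.symm.toLinearMap ∘ₗ K.mkQ
  have hp : Function.Surjective p := e.symm.surjective.comp K.mkQ_surjective
  have hker : LinearMap.ker p = K := by rw [LinearEquiv.ker_comp, Submodule.ker_mkQ]
  choose W hxW n hn using fun i : Fin k => F.presheaf.exists_germ_eq (ψ (G.presheaf.germ U x hxU (p (Pi.single i 1))))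
  let W₀ : X.Opens := U ⊓ ⨅ i, W i
  have hW₀ : ∀ i, W₀ ≤ W i := fun i => inf_le_right.trans (iInf_le W i)
  have hxW₀ : x ∈ W₀ := ⟨hxU, (Opens.coe_finset_inf W Finset.univ ▸ by simp [hxW] : x ∈ ((Finset.univ.inf W : X.Opens) : Set X)) |> fun h => by
    rwa [Finset.inf_univ_eq_iInf] at h⟩
  let t : ∀ (V : X.Opens) (h : V ≤ W₀), (Fin k → Γ(X, U)) → Γ(F, V) := fun V h v =>
    ∑ i, X.presheaf.map (homOfLE (h.trans inf_le_left)).op (v i) • F.presheaf.map (homOfLE (h.trans (hW₀ i))).op (n i)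
  have hgerm : ∀ v : Fin k → Γ(X, U),
      F.presheaf.germ W₀ x hxW₀ (t W₀ le_rfl v) = ψ (G.presheaf.germ U x hxU (p v)) := fun v => by
    conv_rhs => rw [show v = ∑ i, v i • (Pi.single i (1 : Γ(X, U)) : Fin k → Γ(X, U)) from by
      funext j; simp [Finset.sum_apply, Pi.single_apply]]
    rw [map_sum p, map_sum (G.presheaf.germ U x hxU).hom, map_sum ψ]
    show (F.presheaf.germ W₀ x hxW₀).hom (t W₀ le_rfl v) = _
    rw [map_sum]
    refine Finset.sum_congr rfl fun i _ => ?_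
    show F.presheaf.germ W₀ x hxW₀ _ = ψ (G.presheaf.germ U x hxU (p (v i • Pi.single i 1)))
    rw [gsmul, map_smul, gsmul, map_smul, TopCat.Presheaf.germ_res_apply, TopCat.Presheaf.germ_res_apply, hn]
  have hex : ∀ r : {r // r ∈ s}, ∃ (V : X.Opens) (_ : x ∈ V) (h : V ≤ W₀),
      F.presheaf.map (homOfLE h).op (t W₀ le_rfl r.1) = 0 := fun r => by
    obtain ⟨V, hxV, i₁, i₂, he⟩ := F.presheaf.germ_eq x hxW₀ hxW₀ (t W₀ le_rfl r.1) 0 (by
      rw [hgerm, map_zero, show p r.1 = 0 from LinearMap.mem_ker.1 (hker.symm ▸ hs ▸ Submodule.subset_span r.2),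
        map_zero, map_zero])
    exact ⟨V, hxV, i₁.le, he.trans (map_zero _)⟩
  choose V hxV hV hV0 using hex
  let W' : X.Opens := W₀ ⊓ ⨅ r, V r
  have hW' : W' ≤ W₀ := inf_le_left
  have hxW' : x ∈ W' := ⟨hxW₀, (Opens.coe_finset_inf V Finset.univ ▸ by simp [hxV] : x ∈ ((Finset.univ.inf V : X.Opens) : Set X)) |> fun h => by
    rwa [Finset.inf_univ_eq_iInf] at h⟩
  letI : Module Γ(X, U) Γ(F, W') := Module.compHom _ (X.presheaf.map (homOfLE (hW'.trans inf_le_left)).op).hom
  let L : (Fin k → Γ(X, U)) →ₗ[Γ(X, U)] Γ(F, W') :=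
    { toFun := t W' hW'
      map_add' := fun a b => by simp [t, add_smul, Finset.sum_add_distrib]
      map_smul' := fun a v => by
        show t W' hW' (a • v) = (X.presheaf.map (homOfLE (hW'.trans inf_le_left)).op a) • t W' hW' v
        simp [t, Finset.smul_sum, mul_smul] }
  have hres : ∀ v, F.presheaf.map (homOfLE hW').op (t W₀ le_rfl v) = t W' hW' v := fun v => by
    show (F.presheaf.map (homOfLE hW').op).hom (t W₀ le_rfl v) = _
    rw [map_sum]
    refine Finset.sum_congr rfl fun i _ => ?_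
    show M1.mres F hW' (_ • M1.mres F _ (n i)) = _
    rw [M1.mres_smul, M1.mres_mres]
    exact congrArg (· • _) (M1.ores_ores _ _ _)
  have hL : LinearMap.ker p ≤ LinearMap.ker L := by
    rw [hker, ← hs, Submodule.span_le]
    intro r hr
    show t W' hW' r = 0
    have hle : W' ≤ V ⟨r, hr⟩ := inf_le_right.trans (iInf_le V ⟨r, hr⟩)
    rw [← hres]
    show M1.mres F hW' _ = 0
    rw [← M1.mres_mres F (hV ⟨r, hr⟩) hle]
    exact (congrArg _ (hV0 ⟨r, hr⟩)).trans (map_zero _)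
  let φ := (LinearMap.ker p).liftQ L hL ∘ₗ (p.quotKerEquivOfSurjective hp).symm.toLinearMap
  have hφ : ∀ v, φ (p v) = t W' hW' v := fun v => by
    show (LinearMap.ker p).liftQ L hL ((p.quotKerEquivOfSurjective hp).symm (p v)) = _
    rw [show (p.quotKerEquivOfSurjective hp).symm (p v) = Submodule.Quotient.mk v from
      (LinearEquiv.symm_apply_eq _).2 rfl]
    rfl
  obtain ⟨g, hg⟩ := exists_ofLin (F := G) (G := F) hU (hW'.trans inf_le_left) φ.toAddMonoidHom fun a m => φ.map_smul a m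
  refine ⟨W', hxW', g, stalkHom_ext hU hxU fun m => ?_⟩
  obtain ⟨v, rfl⟩ := hp m
  rw [hg x hxW', ← hgerm]
  show F.presheaf.germ W' x hxW' (φ (p v)) = _
  rw [hφ, ← hres, TopCat.Presheaf.germ_res_apply]

end Groth.Agent.RH26
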